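import Cfsg.Agent.Lib.PGO.Inndiag

/-!
Proper similarities: the determinant is the power of the multiplier by half the dimension.
-/

set_option autoImplicit false
set_option linter.dupNamespace false
set_option linter.unusedSectionVars false

namespace CfsgLib.PGO

open QuadraticMap Module CfsgLib.SpinorMatrix CfsgLib.OmegaList
open scoped Matrix

variable {F : Type*} [Field F] [Fintype F] {ι : Type} [Fintype ι] [DecidableEq ι]
  {Q : QuadraticForm F (ι → F)}

theorem sim_polar (g : GL ι F) {c : F} (hg : ∀ x, Q (g.1 *ᵥ x) = c * Q x) (x y : ι → F) :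
    polar (⇑Q) (g.1 *ᵥ x) (g.1 *ᵥ y) = c * polar (⇑Q) x y := by
  simp only [polar, ← Matrix.mulVec_add, hg]; ring

theorem det_sq_of_comp {V : Type*} [AddCommGroup V] [Module F V] [FiniteDimensional F V]
    (B : LinearMap.BilinForm F V) (hB : B.Nondegenerate) (L : V →ₗ[F] V) {c : F}
    (h : ∀ x y, B (L x) (L y) = c * B x y) : LinearMap.det L ^ 2 = c ^ finrank F V := by
  classical
  let b := Module.finBasis F V
  set G := LinearMap.BilinForm.toMatrix b B
  have hG : G.det ≠ 0 := (LinearMap.BilinForm.nondegenerate_iff_det_ne_zero b).mp hB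
  have hc : B.comp L L = c • B := LinearMap.ext₂ fun x y => h x y
  have h1 := congrArg (fun M : Matrix (Fin _) (Fin _) F => M.det) (congrArg (LinearMap.BilinForm.toMatrix b) hc)
  simp only [LinearMap.BilinForm.toMatrix_comp b b, map_smul, Matrix.det_mul, Matrix.det_transpose, Matrix.det_smul,
    LinearMap.det_toMatrix, Fintype.card_fin] at h1
  refine mul_right_cancel₀ hG ?_
  rw [pow_two]
  linear_combination h1

theorem det_of_sq_nonsquare (h2 : (2 : F) ≠ 0) {A : Matrix ι ι F} {l : F} (hA : A * A = l • 1)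
    (hl : ¬ IsSquare l) {k : ℕ} (hk : Fintype.card ι = 2 * k) : A.det = (-l) ^ k := by
  classical
  set P : Polynomial F := Polynomial.X ^ 2 - Polynomial.C l with hP
  have hPd : P.natDegree = 2 := Polynomial.natDegree_X_pow_sub_C
  have hirr : Irreducible P := by
    rw [Polynomial.irreducible_iff_roots_eq_zero_of_degree_le_three (by omega) (by omega)]
    refine Multiset.eq_zero_of_forall_notMem fun t ht => hl ?_
    rw [Polynomial.mem_roots'] at ht
    simp only [hP, Polynomial.IsRoot, Polynomial.eval_sub, Polynomial.eval_pow, Polynomial.eval_X,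
      Polynomial.eval_C] at ht
    exact ⟨t, by linear_combination (-1) * ht.2⟩
  set M := A.map (Polynomial.C : F →+* Polynomial F) with hM
  have hMM : M * M = Polynomial.C l • (1 : Matrix ι ι (Polynomial F)) := by
    rw [hM, ← Matrix.map_mul, hA]
    ext i j
    by_cases h : i = j
    · subst h; simp
    · simp [h]
  have hcm : A.charmatrix = (Polynomial.X : Polynomial F) • (1 : Matrix ι ι (Polynomial F)) - M := by
    ext i j
    by_cases h : i = j
    · subst h; simp [hM, Matrix.charmatrix]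
    · simp [hM, Matrix.charmatrix, h]
  have hprod : A.charmatrix * ((Polynomial.X : Polynomial F) • (1 : Matrix ι ι (Polynomial F)) + M) =
      P • (1 : Matrix ι ι (Polynomial F)) := by
    rw [hcm, sub_mul, mul_add, mul_add]
    simp only [Matrix.smul_mul, Matrix.mul_smul, one_mul, mul_one, hMM, smul_smul]
    rw [hP, sub_smul, pow_two]
    abel
  have hdvd : A.charpoly ∣ P ^ Fintype.card ι := by
    refine ⟨((Polynomial.X : Polynomial F) • (1 : Matrix ι ι (Polynomial F)) + M).det, ?_⟩
    rw [Matrix.charpoly, ← Matrix.det_mul, hprod, Matrix.det_smul, Matrix.det_one, mul_one]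
  obtain ⟨i, -, hi⟩ := (dvd_prime_pow hirr.prime _).mp hdvd
  have hmon : P.Monic := Polynomial.monic_X_pow_sub_C l (by norm_num)
  have he : A.charpoly = P ^ i :=
    Polynomial.eq_of_monic_of_associated A.charpoly_monic (hmon.pow i) hi
  have hik : i = k := by
    have h := congrArg Polynomial.natDegree he
    rw [Matrix.charpoly_natDegree_eq_dim, Polynomial.natDegree_pow, hPd] at h
    omega
  rw [Matrix.det_eq_sign_charpoly_coeff, he, hik, hk, pow_mul, neg_one_sq, one_pow, one_mul,
    Polynomial.coeff_zero_eq_eval_zero, Polynomial.eval_pow, hP]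
  simp

theorem invol_det (h2 : (2 : F) ≠ 0) {A : Matrix ι ι F} (hA : A * A = 1) :
    A.det = (-1) ^ finrank F ↥(LinearMap.ker (A.mulVecLin + LinearMap.id)) ∧
      finrank F ↥(LinearMap.ker (A.mulVecLin - LinearMap.id)) +
        finrank F ↥(LinearMap.ker (A.mulVecLin + LinearMap.id)) = Fintype.card ι := by
  set Vp := LinearMap.ker (A.mulVecLin - LinearMap.id)
  set Vm := LinearMap.ker (A.mulVecLin + LinearMap.id)
  have hp : ∀ x, x ∈ Vp ↔ A *ᵥ x = x := fun x => by simp [Vp, sub_eq_zero]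
  have hm : ∀ x, x ∈ Vm ↔ A *ᵥ x = -x := fun x => by simp [Vm, add_eq_zero_iff_eq_neg]
  have hAA : ∀ x, A *ᵥ (A *ᵥ x) = x := fun x => by rw [Matrix.mulVec_mulVec, hA, Matrix.one_mulVec]
  have hc : IsCompl Vp Vm := by
    refine ⟨Submodule.disjoint_def.mpr fun x hx hx' => ?_, codisjoint_iff.mpr (eq_top_iff.mpr fun x _ => ?_)⟩
    · rw [hp] at hx
      rw [hm, hx] at hx'
      have : (2 : F) • x = 0 := by rw [two_smul]; nth_rewrite 1 [hx']; exact neg_add_cancel x
      exact (smul_eq_zero.mp this).resolve_left h2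
    · have e : x = (2 : F)⁻¹ • (x + A *ᵥ x) + (2 : F)⁻¹ • (x - A *ᵥ x) := by
        rw [← smul_add, show x + A *ᵥ x + (x - A *ᵥ x) = (2 : F) • x by rw [two_smul]; abel, smul_smul,
          inv_mul_cancel₀ h2, one_smul]
      rw [e]
      refine Submodule.add_mem_sup ((hp _).mpr ?_) ((hm _).mpr ?_)
      · rw [Matrix.mulVec_smul, Matrix.mulVec_add, hAA, add_comm (A *ᵥ x) x]
      · rw [Matrix.mulVec_smul, Matrix.mulVec_sub, hAA, ← smul_neg, neg_sub]
  refine ⟨?_, ?_⟩
  · let e := Submodule.prodEquivOfIsCompl Vp Vm hc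
    have hconj : A.mulVecLin = e.toLinearMap ∘ₗ
        ((LinearMap.id : Vp →ₗ[F] Vp).prodMap (-(LinearMap.id : Vm →ₗ[F] Vm))) ∘ₗ e.symm.toLinearMap := by
      refine LinearMap.ext fun x => ?_
      obtain ⟨⟨u, w⟩, rfl⟩ := e.surjective x
      simp only [LinearMap.comp_apply, LinearEquiv.coe_coe, e.symm_apply_apply, LinearMap.prodMap_apply,
        LinearMap.id_apply, LinearMap.neg_apply, Matrix.mulVecLin_apply]
      simp only [e, Submodule.coe_prodEquivOfIsCompl']
      rw [Matrix.mulVec_add, (hp _).mp u.2, (hm _).mp w.2]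
      simp
    rw [← LinearMap.det_toLin', Matrix.toLin'_apply', hconj, LinearMap.det_conj, LinearMap.det_prodMap,
      LinearMap.det_id, one_mul, ← neg_one_smul F (LinearMap.id : Vm →ₗ[F] Vm), LinearMap.det_smul,
      LinearMap.det_id, mul_one]
  · rw [Submodule.finrank_add_eq_of_isCompl hc, Module.finrank_fintype_fun_eq_card]

theorem singular_le (hQ : (polarBilin Q).Nondegenerate) (W : Submodule F (ι → F)) (hW : ∀ w ∈ W, Q w = 0) :
    2 * finrank F W ≤ Fintype.card ι := by
  have hle : W ≤ LinearMap.BilinForm.orthogonal (polarBilin Q) W := by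
    intro y hy x hx
    show polar (⇑Q) x y = 0
    simp [polar, hW x hx, hW y hy, hW _ (W.add_mem hx hy)]
  have h := Submodule.finrank_mono hle
  rw [LinearMap.BilinForm.finrank_orthogonal hQ, Module.finrank_fintype_fun_eq_card] at h
  have := W.finrank_le
  rw [Module.finrank_fintype_fun_eq_card] at this
  omega

/-- Half the dimension. -/
abbrev half (ι : Type) [Fintype ι] : ℕ := Fintype.card ι / 2

variable (Q) in
/-- The proper similarities. -/
def propSub : Subgroup (GO Q) where
  carrier := {g | ∃ c : Fˣ, (∀ x, Q (g.1.1 *ᵥ x) = (c : F) * Q x) ∧ g.1.1.det = (c : F) ^ half ι}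
  one_mem' := ⟨1, fun x => by simp, by simp⟩
  mul_mem' := by
    rintro g h ⟨c, hc, hc'⟩ ⟨d, hd, hd'⟩
    refine ⟨c * d, fun x => ?_, ?_⟩
    · rw [Subgroup.coe_mul, Units.val_mul, ← Matrix.mulVec_mulVec, hc, hd, Units.val_mul]; ring
    · rw [Subgroup.coe_mul, Units.val_mul, Matrix.det_mul, hc', hd', Units.val_mul, mul_pow]
  inv_mem' := by
    rintro g ⟨c, hc, hc'⟩
    refine ⟨c⁻¹, fun x => ?_, ?_⟩
    · have h := hc ((g⁻¹).1.1 *ᵥ x)
      rw [Matrix.mulVec_mulVec, ← Units.val_mul, Subgroup.coe_inv, mul_inv_cancel, Units.val_one,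
        Matrix.one_mulVec] at h
      rw [Subgroup.coe_inv, h, Units.val_inv_eq_inv_val, inv_mul_cancel_left₀ c.ne_zero]
    · have h : g.1.1.det * (g⁻¹).1.1.det = 1 := by
        rw [← Matrix.det_mul, ← Units.val_mul, Subgroup.coe_inv, mul_inv_cancel, Units.val_one, Matrix.det_one]
      rw [hc'] at h
      rw [Units.val_inv_eq_inv_val, inv_pow]
      exact (inv_eq_of_mul_eq_one_right h).symm

namespace Data

variable (D : Data Q)
include D

theorem card_eq : Fintype.card ι = 2 * half ι := (Nat.two_mul_div_two_of_even D.heven).symm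

theorem mult_unique {g : GL ι F} {c d : F} (hc : ∀ x, Q (g.1 *ᵥ x) = c * Q x)
    (hd : ∀ x, Q (g.1 *ᵥ x) = d * Q x) : c = d :=
  mul_right_cancel₀ D.ha ((hc D.a).symm.trans (hd D.a))

theorem mem_prop_iff {g : GO Q} {c : Fˣ} (hc : ∀ x, Q (g.1.1 *ᵥ x) = (c : F) * Q x) :
    g ∈ propSub Q ↔ g.1.1.det = (c : F) ^ half ι := by
  refine ⟨?_, fun h => ⟨c, hc, h⟩⟩
  rintro ⟨d, hd, h⟩
  rw [h, D.mult_unique hd hc]

theorem det_sq {g : GL ι F} {c : F} (hc : ∀ x, Q (g.1 *ᵥ x) = c * Q x) :
    g.1.det ^ 2 = (c ^ half ι) ^ 2 := by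
  have h := det_sq_of_comp (polarBilin Q) D.hQ g.1.mulVecLin (c := c) fun x y => sim_polar g hc x y
  rw [← Matrix.toLin'_apply', LinearMap.det_toLin', Module.finrank_fintype_fun_eq_card, D.card_eq,
    mul_comm 2 (half ι), pow_mul] at h
  exact h

theorem Hs_le_prop : Hs Q ≤ propSub Q := by
  rintro g ⟨c, o, ho, hg⟩
  refine ⟨c * c, fun x => by rw [hg, smul_sq ho.1, Units.val_mul], ?_⟩
  rw [hg, Units.val_mul, Matrix.det_mul, sc_val, Matrix.det_smul, Matrix.det_one,
    mem_SO (o := ⟨o, ho.1⟩).mp ho, mul_one, mul_one, D.card_eq, pow_mul, Units.val_mul, pow_two]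

theorem prop_Ns : Ns Q ≤ propSub Q := Ns_le_Hs.trans D.Hs_le_prop

theorem prop_mul (g : GO Q) : D.r * g ∈ propSub Q ↔ g ∉ propSub Q := by
  obtain ⟨c, hc⟩ := g.2
  have hr : ∀ x, Q ((D.r * g).1.1 *ᵥ x) = (c : F) * Q x := fun x => by
    rw [Subgroup.coe_mul, Units.val_mul, ← Matrix.mulVec_mulVec]
    exact ((rO D.ha).2 _ x).trans (hc x)
  rw [D.mem_prop_iff hc, D.mem_prop_iff hr, Subgroup.coe_mul, Units.val_mul, Matrix.det_mul,
    show D.r.1.1.det = -1 from D.det_r, neg_one_mul]
  constructor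
  · intro h h'
    rw [h'] at h
    have : (2 : F) * (c : F) ^ half ι = 0 := by linear_combination -h
    exact mul_ne_zero D.h2 (pow_ne_zero _ c.ne_zero) this
  · intro h
    rcases sq_eq_sq_iff_eq_or_eq_neg.mp (D.det_sq hc) with h' | h'
    · exact absurd h' h
    · rw [h', neg_neg]

theorem δ_prop : D.δ ∈ propSub Q ↔ Even (half ι) := by
  rw [D.mem_prop_iff D.hδ, det_of_sq_nonsquare D.h2 (l := (D.ν : F)) ?_ D.hν D.card_eq]
  · rcases Nat.even_or_odd (half ι) with h | h
    · simp [h, h.neg_pow]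
    · rw [h.neg_pow, iff_false_right (Nat.not_even_iff_odd.mpr h)]
      intro e
      have : (2 : F) * (D.ν : F) ^ half ι = 0 := by linear_combination -e
      exact mul_ne_zero D.h2 (pow_ne_zero _ D.ν.ne_zero) this
  · have := congrArg Units.val D.hδsq
    rwa [Units.val_mul, sc_val] at this

/-- An involutory improper similarity squares to its multiplier. -/
theorem improper_sq {g : GO Q} (hg : g ∉ propSub Q) {c : Fˣ} (hc : ∀ x, Q (g.1.1 *ᵥ x) = (c : F) * Q x)
    {l : F} (hsq : g.1.1 * g.1.1 = l • 1) : l = c := by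
  have hll : l * l = (c : F) * c := by
    have h := hc (g.1.1 *ᵥ D.a)
    rw [Matrix.mulVec_mulVec, hsq, Matrix.smul_mulVec, Matrix.one_mulVec, QuadraticMap.map_smul, hc,
      smul_eq_mul, ← mul_assoc] at h
    exact mul_right_cancel₀ D.ha h
  rcases mul_self_eq_mul_self_iff.mp hll with h | h
  · exact h
  refine absurd ((D.mem_prop_iff hc).mpr ?_) hg
  by_cases hl : IsSquare l
  · obtain ⟨t, ht⟩ := hl
    have ht0 : t ≠ 0 := fun e => c.ne_zero (by rw [e, zero_mul] at ht; rw [ht] at h; exact neg_eq_zero.mp h.symm)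
    set A := t⁻¹ • g.1.1 with hA
    have hAA : A * A = 1 := by
      rw [hA, Matrix.smul_mul, Matrix.mul_smul, smul_smul, hsq, smul_smul, ht,
        show t⁻¹ * t⁻¹ * (t * t) = 1 by field_simp, one_smul]
    obtain ⟨hd, hs⟩ := invol_det D.h2 hAA
    have hneg : ∀ x, Q (A *ᵥ x) = -Q x := fun x => by
      rw [hA, Matrix.smul_mulVec, QuadraticMap.map_smul, hc, smul_eq_mul, ← mul_assoc,
        show t⁻¹ * t⁻¹ * (c : F) = -1 by
          rw [← neg_neg (c : F), ← h, ht]; field_simp, neg_one_mul]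
    have hsing : ∀ x, (A *ᵥ x = x ∨ A *ᵥ x = -x) → Q x = 0 := fun x hx => by
      have h1 := hneg x
      rcases hx with hx | hx <;> rw [hx] at h1
      · exact (mul_eq_zero.mp (show (2 : F) * Q x = 0 by linear_combination h1)).resolve_left D.h2
      · rw [QuadraticMap.map_neg] at h1
        exact (mul_eq_zero.mp (show (2 : F) * Q x = 0 by linear_combination h1)).resolve_left D.h2
    have h1 := singular_le D.hQ (LinearMap.ker (A.mulVecLin - LinearMap.id))
      fun x hx => hsing x (Or.inl (by simpa [sub_eq_zero] using hx))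
    have h2' := singular_le D.hQ (LinearMap.ker (A.mulVecLin + LinearMap.id))
      fun x hx => hsing x (Or.inr (by simpa [add_eq_zero_iff_eq_neg] using hx))
    have hk := D.card_eq
    rw [show finrank F ↥(LinearMap.ker (A.mulVecLin + LinearMap.id)) = half ι by omega] at hd
    have e : g.1.1 = t • A := by rw [hA, smul_smul, mul_inv_cancel₀ ht0, one_smul]
    rw [e, Matrix.det_smul, hd, hk, pow_mul, ← mul_pow]
    congr 1
    linear_combination ht - h
  · rw [det_of_sq_nonsquare D.h2 hsq hl D.card_eq, h, neg_neg]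

end Data

end CfsgLib.PGO
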