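import Cfsg.Agent.Lib.PGO.Structure
import Cfsg.Agent.Lib.Lagrangian
import Cfsg.Agent.Lib.OmegaPlus
import Cfsg.Agent.Lib.StdQuadForms

/-!
The data of the structure theorem for the two standard even-dimensional forms.
-/

set_option autoImplicit false
set_option linter.dupNamespace false
set_option linter.unusedSectionVars false

namespace CfsgLib.PGO

open QuadraticMap CfsgLib.SpinorNorm CfsgLib.SpinorMatrix CfsgLib.OmegaList
open CfsgLib.Lagrangian (Qp Qp_apply Qp_nondeg)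
open CfsgLib.StdQuadForms (Qm Qm_apply Qm_nondeg)
open scoped Matrix

variable {F : Type*} [Field F] [Fintype F]

section criterion

variable {ι : Type} [Fintype ι] [DecidableEq ι] {Q : QuadraticForm F (ι → F)}

theorem negMem_iff (D : Data Q) : POmegaCard.NegMem F ⇑Q ↔ IsSquare (∏ i, Q (D.v i)) := by
  classical
  set vs := (Finset.univ : Finset ι).toList.map D.v with hvs
  have h1 : ∀ w ∈ vs, Q w ≠ 0 := by
    intro w hw
    obtain ⟨i, -, rfl⟩ := List.mem_map.mp hw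
    exact D.hv i
  have hpw : vs.Pairwise fun a b => polar (⇑Q) a b = 0 :=
    List.pairwise_map.mpr ((Finset.nodup_toList _).imp fun {i j} h => D.hp i j h)
  have hrp : RP Q vs = -1 := by
    refine Matrix.ext_of_mulVec_single fun k => ?_
    have hle : Submodule.span F (Set.range D.v) ≤ LinearMap.ker ((RP Q vs).mulVecLin + LinearMap.id) := by
      rw [Submodule.span_le]
      rintro _ ⟨i, rfl⟩
      rw [SetLike.mem_coe, LinearMap.mem_ker, LinearMap.add_apply, LinearMap.id_apply, Matrix.mulVecLin_apply]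
      rw [show RP Q vs *ᵥ D.v i = -D.v i from OmegaMem.prod_mulVec_neg Q vs (D.v i)
        (List.mem_map.mpr ⟨i, Finset.mem_toList.mpr (Finset.mem_univ i), rfl⟩) hpw (D.hv i), neg_add_cancel]
    have h := hle (li_basis Q D.hn D.hQ D.hv D.hp D.h2 ▸ Submodule.mem_top :
      (Pi.single k 1 : ι → F) ∈ Submodule.span F (Set.range D.v))
    rw [LinearMap.mem_ker, LinearMap.add_apply, LinearMap.id_apply, Matrix.mulVecLin_apply,
      add_eq_zero_iff_eq_neg] at h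
    rw [Matrix.neg_mulVec, Matrix.one_mulVec]
    exact h
  have hqp : QP Q vs = ∏ i, Q (D.v i) := by
    rw [QP, hvs, List.map_map]
    exact Finset.prod_map_toList Finset.univ _
  have hlen : Even vs.length := by
    rw [hvs, List.length_map, Finset.length_toList, Finset.card_univ]
    exact D.heven
  constructor
  · rintro ⟨g, hg, hg1⟩
    have := ((omega_iff_list Q D.hc D.hQ g vs h1 (hg1.trans hrp.symm)).mp hg).2
    rwa [hqp] at this
  · intro hsq
    obtain ⟨g, hg⟩ := exists_iso Q vs h1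
    exact ⟨g, (omega_iff_list Q D.hc D.hQ g vs h1 hg).mpr ⟨hlen, hqp ▸ hsq⟩, hg.trans hrp⟩

end criterion

theorem isSquare_neg_one_pow_iff (m : ℕ) :
    IsSquare ((-1 : F) ^ m) ↔ ¬ (Odd m ∧ Fintype.card F % 4 = 3) := by
  rcases Nat.even_or_odd m with h | h
  · simp [h.neg_one_pow, Nat.not_odd_iff_even.mpr h]
  · rw [h.neg_one_pow, FiniteField.isSquare_neg_one_iff]
    simp [h]

theorem two_ne (hodd : Odd (Fintype.card F)) : (2 : F) ≠ 0 := by
  intro h
  haveI : Fact (Nat.Prime 2) := ⟨Nat.prime_two⟩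
  have hc : ringChar F = 2 := CharP.ringChar_of_prime_eq_zero Nat.prime_two (by exact_mod_cast h)
  have := FiniteField.even_card_of_char_two hc
  obtain ⟨t, ht⟩ := hodd
  omega

theorem exists_nonsquare (h2 : (2 : F) ≠ 0) : ∃ ν : Fˣ, ¬ IsSquare (ν : F) := by
  have hF : ringChar F ≠ 2 := fun h => h2 (by haveI := ringChar.of_eq h; exact CharTwo.two_eq_zero)
  obtain ⟨a, ha⟩ := FiniteField.exists_nonsquare hF
  exact ⟨Units.mk0 a fun h => ha (h ▸ IsSquare.zero), ha⟩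

section plus

variable {m : ℕ}

/-- The orthogonal basis of the plus form. -/
def vPlus : Fin m ⊕ Fin m → Fin m ⊕ Fin m → F := Sum.elim (fun j => OmegaPlus.w j 1) (fun j => OmegaPlus.w j (-1))

theorem polar_w (i j : Fin m) (b c : F) :
    polar (⇑(Qp m F)) (OmegaPlus.w i b) (OmegaPlus.w j c) = if i = j then b + c else 0 := by
  rw [show OmegaPlus.w i b = Pi.single (Sum.inl i) (1 : F) + b • Pi.single (Sum.inr i) (1 : F) from rfl,
    polar_add_left, polar_smul_left, OmegaPlus.pol_inl, OmegaPlus.pol_inr]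
  rcases eq_or_ne i j with rfl | h
  · simp [OmegaPlus.w, add_comm]
  · simp [OmegaPlus.w, h]

/-- The similarity `(x, y) ↦ (ν y, x)`. -/
def dPlus (ν : Fˣ) : GL (Fin m ⊕ Fin m) F :=
  ⟨Matrix.fromBlocks 0 ((ν : F) • 1) 1 0, Matrix.fromBlocks 0 1 (((ν⁻¹ : Fˣ) : F) • 1) 0,
    by simp [Matrix.fromBlocks_multiply, smul_smul],
    by simp [Matrix.fromBlocks_multiply, smul_smul]⟩

theorem dPlus_mulVec (ν : Fˣ) (v : Fin m ⊕ Fin m → F) :
    (dPlus ν).1 *ᵥ v = Sum.elim (fun i => (ν : F) * v (Sum.inr i)) (fun i => v (Sum.inl i)) := by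
  show Matrix.fromBlocks 0 ((ν : F) • 1) 1 0 *ᵥ v = _
  rw [Matrix.fromBlocks_mulVec]
  simp [Matrix.smul_mulVec, Function.comp_def, Pi.smul_def]

theorem Qp_dPlus (ν : Fˣ) (v : Fin m ⊕ Fin m → F) : Qp m F ((dPlus ν).1 *ᵥ v) = (ν : F) * Qp m F v := by
  rw [dPlus_mulVec, Qp_apply, Qp_apply, Cfsg.quadFormPlus, Cfsg.quadFormPlus, Finset.mul_sum]
  exact Finset.sum_congr rfl fun i _ => by simp only [Sum.elim_inl, Sum.elim_inr]; ring

theorem dPlus_sq (ν : Fˣ) : dPlus (m := m) ν * dPlus ν = sc ν := by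
  refine Units.ext (Matrix.ext_of_mulVec_single fun k => ?_)
  rw [Units.val_mul, ← Matrix.mulVec_mulVec, dPlus_mulVec, dPlus_mulVec, sc_mulVec]
  funext s
  rcases s with i | i <;> simp

/-- The data of the plus form. -/
noncomputable def plusData (hodd : Odd (Fintype.card F)) (hm : 3 ≤ m) : Data (Qp m F) where
  h2 := two_ne hodd
  hn := by simp; omega
  heven := ⟨m, by simp⟩
  hQ := Qp_nondeg
  v := vPlus
  hv i := by rcases i with i | i <;> simp [vPlus, OmegaPlus.Qp_w]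
  hp i j h := by
    rcases i with i | i <;> rcases j with j | j <;> simp only [vPlus, Sum.elim_inl, Sum.elim_inr, polar_w] <;>
      by_cases hij : i = j <;> simp_all
  ν := (exists_nonsquare (two_ne hodd)).choose
  hν := (exists_nonsquare (two_ne hodd)).choose_spec
  δ := ⟨dPlus (exists_nonsquare (two_ne hodd)).choose, _, Qp_dPlus _⟩
  hδ := Qp_dPlus _
  hδsq := dPlus_sq _

theorem negMem_plus (hodd : Odd (Fintype.card F)) (hm : 3 ≤ m) :
    POmegaCard.NegMem F ⇑(Qp m F) ↔ ¬ (Odd m ∧ Fintype.card F % 4 = 3) := by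
  rw [negMem_iff (plusData hodd hm), Fintype.prod_sum_type]
  simp only [plusData, vPlus, Sum.elim_inl, Sum.elim_inr, OmegaPlus.Qp_w, Finset.prod_const_one, one_mul,
    Finset.prod_const, Finset.card_univ, Fintype.card_fin]
  exact isSquare_neg_one_pow_iff m

end plus

section minus

variable {m : ℕ} {a b : F}

theorem c_spec (hab : ∀ z₁ z₂ : F, z₁ ^ 2 + a * z₁ * z₂ + b * z₂ ^ 2 = 0 → z₁ = 0 ∧ z₂ = 0)
    (h2 : (2 : F) ≠ 0) : ¬ IsSquare (-(b - (a / 2) ^ 2)) := by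
  rintro ⟨t, ht⟩
  have := hab (t - a / 2) 1 (by field_simp at ht ⊢; linear_combination (-1) * ht)
  exact one_ne_zero this.2

theorem exists_norm (hab : ∀ z₁ z₂ : F, z₁ ^ 2 + a * z₁ * z₂ + b * z₂ ^ 2 = 0 → z₁ = 0 ∧ z₂ = 0)
    (h2 : (2 : F) ≠ 0) {ν : F} (hν : ν ≠ 0) : ∃ u v : F, u ^ 2 + (b - (a / 2) ^ 2) * v ^ 2 = ν := by
  have hn : (polarBilin (OrthOrder.binForm a b)).Nondegenerate :=
    ⟨fun u h => OrthOrder.bin_nondeg hab u h,
      fun v h => OrthOrder.bin_nondeg hab v fun u => (polar_comm _ v u).trans (h u)⟩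
  obtain ⟨z, hz⟩ := universal (OrthOrder.binForm a b) h2 hn (by simp) hν
  refine ⟨z 0 + a / 2 * z 1, z 1, ?_⟩
  rw [← hz, OrthOrder.binForm_apply]
  field_simp
  ring

/-- The similarity of the anisotropic plane. -/
def dBin (a b u v : F) : Matrix (Fin 2) (Fin 2) F :=
  !![u - a / 2 * v, u * (a / 2) + (b - (a / 2) ^ 2) * v - a / 2 * (v * (a / 2) - u); v, v * (a / 2) - u]

theorem dBin_mulVec (u v : F) (z : Fin 2 → F) :
    dBin a b u v *ᵥ z = ![(u * (z 0 + a / 2 * z 1) + (b - (a / 2) ^ 2) * v * z 1) -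
      a / 2 * (v * (z 0 + a / 2 * z 1) - u * z 1), v * (z 0 + a / 2 * z 1) - u * z 1] := by
  funext i
  fin_cases i <;> simp [dBin, Matrix.mulVec, dotProduct, Fin.sum_univ_two] <;> ring

theorem bin_dBin (h2 : (2 : F) ≠ 0) {ν u v : F} (h : u ^ 2 + (b - (a / 2) ^ 2) * v ^ 2 = ν) (z : Fin 2 → F) :
    OrthOrder.binForm a b (dBin a b u v *ᵥ z) = ν * OrthOrder.binForm a b z := by
  rw [dBin_mulVec, OrthOrder.binForm_apply, OrthOrder.binForm_apply, ← h]
  simp only [Matrix.cons_val_zero, Matrix.cons_val_one]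
  field_simp
  ring

theorem dBin_sq (h2 : (2 : F) ≠ 0) {ν u v : F} (h : u ^ 2 + (b - (a / 2) ^ 2) * v ^ 2 = ν) :
    dBin a b u v * dBin a b u v = ν • 1 := by
  refine Matrix.ext_of_mulVec_single fun k => ?_
  rw [← Matrix.mulVec_mulVec, dBin_mulVec, dBin_mulVec, Matrix.smul_mulVec, Matrix.one_mulVec, ← h]
  funext i
  fin_cases i <;> simp only [Matrix.cons_val_zero, Matrix.cons_val_one, Pi.smul_apply, smul_eq_mul,
    Fin.zero_eta, Fin.mk_one] <;> field_simp <;> ring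

/-- The similarity of the minus form. -/
noncomputable def dMinus (h2 : (2 : F) ≠ 0) {u v : F} (ν : Fˣ) (h : u ^ 2 + (b - (a / 2) ^ 2) * v ^ 2 = ν) :
    GL ((Fin m ⊕ Fin m) ⊕ Fin 2) F :=
  ⟨Matrix.fromBlocks (dPlus (m := m) ν).1 0 0 (dBin a b u v),
    ((ν⁻¹ : Fˣ) : F) • Matrix.fromBlocks (dPlus (m := m) ν).1 0 0 (dBin a b u v), by
    rw [Matrix.mul_smul, Matrix.fromBlocks_multiply, dBin_sq h2 h,
      ← Units.val_mul (dPlus ν) (dPlus ν), dPlus_sq, sc_val]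
    simp [Matrix.fromBlocks_smul, smul_smul], by
    rw [Matrix.smul_mul, Matrix.fromBlocks_multiply, dBin_sq h2 h,
      ← Units.val_mul (dPlus ν) (dPlus ν), dPlus_sq, sc_val]
    simp [Matrix.fromBlocks_smul, smul_smul]⟩

theorem Qm_split (v : (Fin m ⊕ Fin m) ⊕ Fin 2 → F) :
    Qm m a b v = Qp m F (v ∘ Sum.inl) + OrthOrder.binForm a b (v ∘ Sum.inr) := rfl

theorem Qm_dMinus (h2 : (2 : F) ≠ 0) {u v : F} (ν : Fˣ) (h : u ^ 2 + (b - (a / 2) ^ 2) * v ^ 2 = ν)
    (x : (Fin m ⊕ Fin m) ⊕ Fin 2 → F) :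
    Qm m a b ((dMinus (m := m) h2 ν h).1 *ᵥ x) = (ν : F) * Qm m a b x := by
  show Qm m a b (Matrix.fromBlocks _ 0 0 _ *ᵥ x) = _
  rw [Matrix.fromBlocks_mulVec, Qm_split, Qm_split, Sum.elim_comp_inl, Sum.elim_comp_inr, Matrix.zero_mulVec,
    Matrix.zero_mulVec, add_zero, zero_add, Qp_dPlus, bin_dBin h2 h, mul_add]

theorem dMinus_sq (h2 : (2 : F) ≠ 0) {u v : F} (ν : Fˣ) (h : u ^ 2 + (b - (a / 2) ^ 2) * v ^ 2 = ν) :
    dMinus (m := m) h2 ν h * dMinus (m := m) h2 ν h = sc ν := by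
  refine Units.ext ?_
  show Matrix.fromBlocks (dPlus (m := m) ν).1 0 0 (dBin a b u v) * Matrix.fromBlocks _ 0 0 _ = _
  rw [Matrix.fromBlocks_multiply, dBin_sq h2 h, ← Units.val_mul (dPlus ν) (dPlus ν), dPlus_sq, sc_val, sc_val]
  simp [← Matrix.fromBlocks_one, Matrix.fromBlocks_smul]

/-- The orthogonal basis of the minus form. -/
def vMinus (a : F) : (Fin m ⊕ Fin m) ⊕ Fin 2 → (Fin m ⊕ Fin m) ⊕ Fin 2 → F :=
  Sum.elim (fun i => Sum.elim (vPlus i) 0) (fun i => Sum.elim 0 (![![1, 0], ![-(a / 2), 1]] i))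

theorem polar_Qm (x y : (Fin m ⊕ Fin m) ⊕ Fin 2 → F) : polar (⇑(Qm m a b)) x y =
    polar (⇑(Qp m F)) (x ∘ Sum.inl) (y ∘ Sum.inl) +
      polar (⇑(OrthOrder.binForm a b)) (x ∘ Sum.inr) (y ∘ Sum.inr) := by
  simp only [polar, Qm_split]
  rw [show (x + y) ∘ Sum.inl = x ∘ Sum.inl + y ∘ Sum.inl from rfl,
    show (x + y) ∘ Sum.inr = x ∘ Sum.inr + y ∘ Sum.inr from rfl]
  ring

theorem Qm_vMinus (h2 : (2 : F) ≠ 0) (i : (Fin m ⊕ Fin m) ⊕ Fin 2) : Qm m a b (vMinus a i) =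
    Sum.elim (Sum.elim (fun _ => 1) (fun _ => -1)) ![1, b - (a / 2) ^ 2] i := by
  rcases i with (i | i) | i
  · simp [Qm_split, vMinus, vPlus, OmegaPlus.Qp_w]
  · simp [Qm_split, vMinus, vPlus, OmegaPlus.Qp_w]
  · fin_cases i <;> simp [Qm_split, vMinus, OrthOrder.binForm_apply] <;> field_simp <;> ring

theorem c_ne (hab : ∀ z₁ z₂ : F, z₁ ^ 2 + a * z₁ * z₂ + b * z₂ ^ 2 = 0 → z₁ = 0 ∧ z₂ = 0)
    (h2 : (2 : F) ≠ 0) : b - (a / 2) ^ 2 ≠ 0 :=
  fun h => c_spec hab h2 (by rw [h, neg_zero]; exact IsSquare.zero)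

theorem hv_minus (hab : ∀ z₁ z₂ : F, z₁ ^ 2 + a * z₁ * z₂ + b * z₂ ^ 2 = 0 → z₁ = 0 ∧ z₂ = 0)
    (h2 : (2 : F) ≠ 0) (i : (Fin m ⊕ Fin m) ⊕ Fin 2) : Qm m a b (vMinus a i) ≠ 0 := by
  rw [Qm_vMinus h2]
  rcases i with (i | i) | i
  · simp
  · simp
  · fin_cases i
    · simp
    · simpa using c_ne hab h2

theorem hp_minus (hodd : Odd (Fintype.card F)) (hm : 3 ≤ m) (i j : (Fin m ⊕ Fin m) ⊕ Fin 2) (h : i ≠ j) :
    polar (⇑(Qm m a b)) (vMinus a i) (vMinus a j) = 0 := by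
  have h2 := two_ne hodd
  rw [polar_Qm]
  rcases i with i | i <;> rcases j with j | j
  · simp only [vMinus, Sum.elim_inl, Sum.elim_comp_inl, Sum.elim_comp_inr, polar_zero_left, add_zero]
    exact (plusData hodd hm).hp i j fun e => h (congrArg Sum.inl e)
  · simp [vMinus]
  · simp [vMinus]
  · simp only [vMinus, Sum.elim_inr, Sum.elim_comp_inl, Sum.elim_comp_inr, polar_zero_left, zero_add,
      OrthOrder.polar_bin]
    fin_cases i <;> fin_cases j <;> simp_all <;> field_simp <;> ring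

/-- The data of the minus form. -/
noncomputable def minusData (hodd : Odd (Fintype.card F)) (hm : 3 ≤ m)
    (hab : ∀ z₁ z₂ : F, z₁ ^ 2 + a * z₁ * z₂ + b * z₂ ^ 2 = 0 → z₁ = 0 ∧ z₂ = 0) : Data (Qm m a b) :=
  let ν := (exists_nonsquare (two_ne hodd)).choose
  let hu := exists_norm hab (two_ne hodd) (ν.ne_zero)
  { h2 := two_ne hodd
    hn := by simp; omega
    heven := ⟨m + 1, by simp; omega⟩
    hQ := Qm_nondeg m hab
    v := vMinus a
    hv := hv_minus hab (two_ne hodd)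
    hp := hp_minus hodd hm
    ν := ν
    hν := (exists_nonsquare (two_ne hodd)).choose_spec
    δ := ⟨dMinus (two_ne hodd) ν hu.choose_spec.choose_spec, ν, Qm_dMinus (two_ne hodd) ν hu.choose_spec.choose_spec⟩
    hδ := Qm_dMinus (two_ne hodd) ν hu.choose_spec.choose_spec
    hδsq := dMinus_sq (two_ne hodd) ν hu.choose_spec.choose_spec }

theorem negMem_minus (hodd : Odd (Fintype.card F)) (hm : 3 ≤ m)
    (hab : ∀ z₁ z₂ : F, z₁ ^ 2 + a * z₁ * z₂ + b * z₂ ^ 2 = 0 → z₁ = 0 ∧ z₂ = 0) :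
    POmegaCard.NegMem F ⇑(Qm m a b) ↔ (Even m ∧ Fintype.card F % 4 = 3) := by
  classical
  have h2 := two_ne hodd
  rw [negMem_iff (minusData hodd hm hab)]
  show IsSquare (∏ i, Qm m a b (vMinus a i)) ↔ _
  simp only [Qm_vMinus h2]
  rw [Fintype.prod_sum_type, Fintype.prod_sum_type, Fin.prod_univ_two]
  simp only [Sum.elim_inl, Sum.elim_inr, Finset.prod_const_one, one_mul, Finset.prod_const, Finset.card_univ,
    Fintype.card_fin, Matrix.cons_val_zero, Matrix.cons_val_one]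
  rw [show (-1 : F) ^ m * (b - (a / 2) ^ 2) = (-1) ^ (m + 1) * -(b - (a / 2) ^ 2) by ring,
    OmegaMem.isSquare_mul_iff h2 (pow_ne_zero _ (neg_ne_zero.mpr one_ne_zero))
      (neg_ne_zero.mpr (c_ne hab h2)), iff_false_right (c_spec hab h2), isSquare_neg_one_pow_iff, not_not,
    Nat.odd_add_one, Nat.not_odd_iff_even]

end minus

end CfsgLib.PGO
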