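import Mathlib
import Cfsg.Prelude.Def_LieTypeDatum
import Cfsg.Prelude.Def_KGroupFacts
import Cfsg.Agent.Lib.OmegaList
import Cfsg.Agent.Lib.OmegaMem
import Cfsg.Agent.Lib.OmegaSimple
import Cfsg.Agent.Lib.POmegaCard

/-!
The automorphisms of `PΩ(Q)` induced by similarities of `Q`.
-/

set_option autoImplicit false
set_option linter.dupNamespace false
set_option linter.unusedSectionVars false

namespace CfsgLib.PGO

open QuadraticMap Module CfsgLib.SpinorMatrix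
open scoped Matrix commutatorElement

variable {F : Type*} [Field F] [Fintype F] {ι : Type} [Fintype ι] [DecidableEq ι]
  (Q : QuadraticForm F (ι → F))

/-- The similarity group. -/
abbrev GO : Subgroup (GL ι F) := Cfsg.Geo.quadSimilarityGroup (F := F) ⇑Q

/-- Scalar matrices. -/
def sc : Fˣ →* GL ι F := Units.map (algebraMap F (Matrix ι ι F)).toMonoidHom

theorem sc_val (c : Fˣ) : (sc (ι := ι) c).1 = (c : F) • (1 : Matrix ι ι F) :=
  Algebra.algebraMap_eq_smul_one (A := Matrix ι ι F) (c : F)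

theorem sc_mulVec (c : Fˣ) (x : ι → F) : (sc (ι := ι) c).1 *ᵥ x = (c : F) • x := by
  rw [sc_val, Matrix.smul_mulVec, Matrix.one_mulVec]

theorem sc_comm (c : Fˣ) (g : GL ι F) : sc c * g = g * sc c :=
  Units.ext (Algebra.commutes (c : F) g.1)

theorem sc_mem (c : Fˣ) : sc c ∈ GO Q := ⟨c * c, fun v => by rw [sc_mulVec, QuadraticMap.map_smul]; rfl⟩

theorem iso_mem {x : GL ι F} (hx : x ∈ Cfsg.isometryGroup F ⇑Q) : x ∈ GO Q :=
  ⟨1, fun v => by rw [Units.val_one, one_mul]; exact hx v v⟩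

theorem conj_iso (g : GO Q) {x : GL ι F} (hx : x ∈ Cfsg.isometryGroup F ⇑Q) :
    g.1 * x * g.1⁻¹ ∈ Cfsg.isometryGroup F ⇑Q := by
  obtain ⟨c, hc⟩ := g.2
  intro v _
  show Q ((g.1.1 * x.1 * (g.1⁻¹).1) *ᵥ v) = Q v
  rw [← Matrix.mulVec_mulVec, ← Matrix.mulVec_mulVec, hc,
    show Q (x.1 *ᵥ ((g.1⁻¹).1 *ᵥ v)) = Q ((g.1⁻¹).1 *ᵥ v) from hx _ v, ← hc, Matrix.mulVec_mulVec, ← Units.val_mul,
    mul_inv_cancel, Units.val_one, Matrix.one_mulVec]

/-- Conjugation on isometries. -/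
def conjO (g : GO Q) : Cfsg.isometryGroup F ⇑Q ≃* Cfsg.isometryGroup F ⇑Q where
  toFun x := ⟨g.1 * x.1 * g.1⁻¹, conj_iso Q g x.2⟩
  invFun x := ⟨g.1⁻¹ * x.1 * g.1, by
    have h := conj_iso Q g⁻¹ x.2
    simpa using h⟩
  left_inv x := Subtype.ext (by show g.1⁻¹ * (g.1 * x.1 * g.1⁻¹) * g.1 = x.1; group)
  right_inv x := Subtype.ext (by show g.1 * (g.1⁻¹ * x.1 * g.1) * g.1⁻¹ = x.1; group)
  map_mul' x y := Subtype.ext (by
    show g.1 * (x.1 * y.1) * g.1⁻¹ = g.1 * x.1 * g.1⁻¹ * (g.1 * y.1 * g.1⁻¹); group)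

theorem conjO_mem (g : GO Q) {x : Cfsg.isometryGroup F ⇑Q} (hx : x ∈ Cfsg.Omega F ⇑Q) :
    conjO Q g x ∈ Cfsg.Omega F ⇑Q := by
  have h : (commutator (Cfsg.isometryGroup F ⇑Q)).map (conjO Q g).toMonoidHom =
      commutator (Cfsg.isometryGroup F ⇑Q) := by
    rw [_root_.commutator_def, Subgroup.map_commutator, Subgroup.map_top_of_surjective _ (conjO Q g).surjective]
  have h' : conjO Q g x ∈ (commutator (Cfsg.isometryGroup F ⇑Q)).map (conjO Q g).toMonoidHom := ⟨x, hx, rfl⟩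
  rwa [h] at h'

theorem conjO_symm_mem (g : GO Q) {x : Cfsg.isometryGroup F ⇑Q} (hx : x ∈ Cfsg.Omega F ⇑Q) :
    (conjO Q g).symm x ∈ Cfsg.Omega F ⇑Q := by
  have h : (conjO Q g).symm x = conjO Q g⁻¹ x := Subtype.ext (by
    show g.1⁻¹ * x.1 * g.1 = (g⁻¹).1 * x.1 * (g⁻¹).1⁻¹
    simp)
  exact h ▸ conjO_mem Q g⁻¹ hx

/-- Conjugation on `Ω`. -/
def omEquiv (g : GO Q) : Cfsg.Omega F ⇑Q ≃* Cfsg.Omega F ⇑Q where
  toFun x := ⟨conjO Q g x.1, conjO_mem Q g x.2⟩
  invFun x := ⟨(conjO Q g).symm x.1, conjO_symm_mem Q g x.2⟩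
  left_inv x := Subtype.ext ((conjO Q g).symm_apply_apply x.1)
  right_inv x := Subtype.ext ((conjO Q g).apply_symm_apply x.1)
  map_mul' x y := Subtype.ext (map_mul (conjO Q g) x.1 y.1)

theorem center_map (g : GO Q) : (Subgroup.center (Cfsg.Omega F ⇑Q)).map (omEquiv Q g : _ →* _) =
    Subgroup.center (Cfsg.Omega F ⇑Q) := by
  ext x
  constructor
  · rintro ⟨y, hy, rfl⟩
    refine Subgroup.mem_center_iff.mpr fun k => ?_
    obtain ⟨k, rfl⟩ := (omEquiv Q g).surjective k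
    show omEquiv Q g k * omEquiv Q g y = omEquiv Q g y * omEquiv Q g k
    rw [← map_mul, ← map_mul, Subgroup.mem_center_iff.mp hy k]
  · intro hx
    refine ⟨(omEquiv Q g).symm x, Subgroup.mem_center_iff.mpr fun k => (omEquiv Q g).injective ?_,
      (omEquiv Q g).apply_symm_apply x⟩
    rw [map_mul, map_mul, (omEquiv Q g).apply_symm_apply]
    exact Subgroup.mem_center_iff.mp hx _

/-- The automorphism induced by a similarity. -/
def θ (g : GO Q) : MulAut (Cfsg.POmega F ⇑Q) :=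
  QuotientGroup.congr _ _ (omEquiv Q g) (center_map Q g)

theorem θ_mk (g : GO Q) (s : Cfsg.Omega F ⇑Q) : θ Q g (QuotientGroup.mk s) = QuotientGroup.mk (omEquiv Q g s) :=
  rfl

/-- The action of the similarity group on `PΩ`. -/
def Θ : GO Q →* MulAut (Cfsg.POmega F ⇑Q) :=
  MonoidHom.mk' (θ Q) fun g h => MulEquiv.ext fun x => by
    induction x using QuotientGroup.induction_on with
    | _ s =>
      rw [MulAut.mul_apply, θ_mk, θ_mk, θ_mk]
      congr 1
      refine Subtype.ext (Subtype.ext ?_)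
      show (g * h).1 * s.1.1 * (g * h).1⁻¹ = g.1 * (h.1 * s.1.1 * h.1⁻¹) * g.1⁻¹
      rw [Subgroup.coe_mul]; group

theorem induced_iff (g : GO Q) (β : MulAut (Cfsg.POmega F ⇑Q)) :
    Cfsg.IsInducedBySemilinearPOmega (⇑Q) g.1 (RingEquiv.refl F) β ↔ β = Θ Q g := by
  have hmap : ∀ M : Matrix ι ι F, M.map (RingEquiv.refl F) = M := fun M => by ext; simp
  constructor
  · intro h
    refine MulEquiv.ext fun x => ?_
    induction x using QuotientGroup.induction_on with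
    | _ s => exact h s (omEquiv Q g s) (by rw [hmap]; rfl)
  · rintro rfl s s' hs
    rw [hmap] at hs
    show QuotientGroup.mk (omEquiv Q g s) = _
    congr 1
    exact Subtype.ext (Subtype.ext (Units.ext hs.symm))

/-- Similarities which are a scalar times an element of `S`. -/
def scSub (S : Subgroup (GL ι F)) : Subgroup (GO Q) where
  carrier := {g | ∃ c : Fˣ, ∃ o ∈ S, g.1 = sc c * o}
  one_mem' := ⟨1, 1, S.one_mem, by simp⟩
  mul_mem' := by
    rintro a b ⟨c, o, ho, ha⟩ ⟨d, p, hp, hb⟩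
    refine ⟨c * d, o * p, S.mul_mem ho hp, ?_⟩
    rw [Subgroup.coe_mul, ha, hb, map_mul, mul_assoc, ← mul_assoc o, ← sc_comm d o]
    group
  inv_mem' := by
    rintro a ⟨c, o, ho, ha⟩
    refine ⟨c⁻¹, o⁻¹, S.inv_mem ho, ?_⟩
    rw [Subgroup.coe_inv, ha, _root_.mul_inv_rev, ← map_inv, ← sc_comm]

theorem scSub_mono {S T : Subgroup (GL ι F)} (h : S ≤ T) : scSub Q S ≤ scSub Q T := by
  rintro g ⟨c, o, ho, hg⟩
  exact ⟨c, o, h ho, hg⟩

theorem scSub_normal {S : Subgroup (GL ι F)} (h : ∀ g : GO Q, ∀ x ∈ S, g.1 * x * g.1⁻¹ ∈ S) :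
    (scSub Q S).Normal := by
  refine ⟨?_⟩
  rintro n ⟨c, o, ho, hn⟩ g
  refine ⟨c, g.1 * o * g.1⁻¹, h g o ho, ?_⟩
  rw [Subgroup.coe_mul, Subgroup.coe_mul, Subgroup.coe_inv, hn, ← mul_assoc g.1, ← sc_comm c g.1]
  group

/-- `Ω` in the general linear group. -/
abbrev OmL : Subgroup (GL ι F) := (Cfsg.Omega F ⇑Q).map (Cfsg.isometryGroup F ⇑Q).subtype

theorem OmL_conj (g : GO Q) : ∀ x ∈ OmL Q, g.1 * x * g.1⁻¹ ∈ OmL Q := by
  rintro _ ⟨x, hx, rfl⟩
  exact ⟨conjO Q g x, conjO_mem Q g hx, rfl⟩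

theorem OmL_le : OmL Q ≤ Cfsg.specialIsometryGL F ⇑Q := by
  rintro _ ⟨x, hx, rfl⟩
  refine ⟨x.2, ?_⟩
  have h : commutator (Cfsg.isometryGroup F ⇑Q) ≤
      (Matrix.GeneralLinearGroup.det.comp (Cfsg.isometryGroup F ⇑Q).subtype).ker :=
    Abelianization.commutator_subset_ker _
  exact h hx

theorem SO_conj (g : GO Q) : ∀ x ∈ Cfsg.specialIsometryGL F ⇑Q, g.1 * x * g.1⁻¹ ∈ Cfsg.specialIsometryGL F ⇑Q := by
  rintro x ⟨hx, hd⟩
  refine ⟨conj_iso Q g hx, ?_⟩
  have hd' : Matrix.GeneralLinearGroup.det x = 1 := hd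
  show Matrix.GeneralLinearGroup.det (g.1 * x * g.1⁻¹) = 1
  rw [map_mul, map_mul, map_inv, hd', mul_one, mul_inv_cancel]

variable (hn : 5 ≤ Fintype.card ι) (hQ : (polarBilin Q).Nondegenerate) (h2 : (2 : F) ≠ 0)

include hn hQ in
theorem omega_perfect : ⁅Cfsg.Omega F ⇑Q, Cfsg.Omega F ⇑Q⁆ = Cfsg.Omega F ⇑Q := by
  have hn' : 5 ≤ finrank F (ι → F) := by rw [Module.finrank_fintype_fun_eq_card]; exact hn
  let e := isoEquiv Q
  have hmap : (Cfsg.Omega F ⇑Q).map e.toMonoidHom = commutator (CfsgLib.WittExtension.quadIso Q) := by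
    rw [show Cfsg.Omega F ⇑Q = commutator _ from rfl, _root_.commutator_def, Subgroup.map_commutator,
      Subgroup.map_top_of_surjective _ e.surjective, ← _root_.commutator_def]
  apply Subgroup.map_injective (f := e.toMonoidHom) e.injective
  rw [Subgroup.map_commutator, hmap, OmegaSimple.commutator_eq Q hQ hn', OmegaSimple.perfect Q hQ hn']

theorem eig_of_commute {a : ι → F} (ha : Q a ≠ 0) (g : Matrix ι ι F)
    (hr : g * Cfsg.reflectionMatrix (⇑Q) a = Cfsg.reflectionMatrix (⇑Q) a * g) (h2 : (2 : F) ≠ 0) :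
    ∃ l : F, g *ᵥ a = l • a := by
  have h := congrArg (fun M : Matrix ι ι F => M *ᵥ a) hr
  simp only [← Matrix.mulVec_mulVec, PolarVec.reflection_mulVec, PolarVec.polar_self, Matrix.mulVec_add,
    Matrix.mulVec_smul] at h
  have h' : (Q a)⁻¹ * (2 * Q a) = 2 := by field_simp
  rw [h', add_right_inj] at h
  refine ⟨(2 : F)⁻¹ * ((Q a)⁻¹ * polar (⇑Q) a (g *ᵥ a)), ?_⟩
  calc g *ᵥ a = (-(2 : F)⁻¹) • (-(2 : F)) • (g *ᵥ a) := by rw [smul_smul]; simp [h2]
    _ = _ := by rw [h, smul_smul]; congr 1; ring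

theorem no_neg {a : ι → F} (ha : Q a ≠ 0) (hn : 3 ≤ Fintype.card ι) (hQ : (polarBilin Q).Nondegenerate)
    (h2 : (2 : F) ≠ 0) (g : GL ι F) (hr : g.1 * Cfsg.reflectionMatrix (⇑Q) a =
      -(Cfsg.reflectionMatrix (⇑Q) a * g.1)) : False := by
  have ha0 : a ≠ 0 := fun e => ha (by rw [e, QuadraticMap.map_zero])
  set P := LinearMap.BilinForm.orthogonal (polarBilin Q) (F ∙ a) with hP
  have hPd : finrank F P = Fintype.card ι - 1 := by
    rw [hP, LinearMap.BilinForm.finrank_orthogonal hQ, finrank_span_singleton ha0,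
      Module.finrank_fintype_fun_eq_card]
  have hline : ∀ u ∈ P, g.1 *ᵥ u ∈ F ∙ a := by
    intro u hu
    have h0 : polar (⇑Q) a u = 0 := hu a (Submodule.mem_span_singleton_self a)
    have h := congrArg (fun M : Matrix ι ι F => M *ᵥ u) hr
    simp only [← Matrix.mulVec_mulVec, Matrix.neg_mulVec, PolarVec.reflection_mulVec, h0, mul_zero, neg_zero,
      zero_smul, add_zero] at h
    have h3 : (2 : F) • (g.1 *ᵥ u) = ((Q a)⁻¹ * polar (⇑Q) a (g.1 *ᵥ u)) • a := by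
      rw [two_smul]
      nth_rewrite 1 [h]
      rw [neg_smul]; abel
    exact ((F ∙ a).smul_mem_iff h2).mp (h3 ▸ Submodule.smul_mem _ _ (Submodule.mem_span_singleton_self a))
  let L : P →ₗ[F] ↥(F ∙ a) := (Matrix.mulVecLin g.1).restrict hline
  have hinj : Function.Injective L := fun x y h => Subtype.ext
    (Matrix.mulVec_injective_of_isUnit g.isUnit (congrArg Subtype.val h))
  have := LinearMap.finrank_le_finrank_of_injective hinj
  rw [hPd, finrank_span_singleton ha0] at this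
  omega

include hn hQ in
theorem li_basis {v : ι → ι → F} (hv : ∀ i, Q (v i) ≠ 0) (hp : ∀ i j, i ≠ j → polar (⇑Q) (v i) (v j) = 0)
    (h2 : (2 : F) ≠ 0) : Submodule.span F (Set.range v) = ⊤ := by
  have hli : LinearIndependent F v := by
    rw [Fintype.linearIndependent_iff]
    intro c hc j
    have h := congrArg (fun x => polarBilin Q x (v j)) hc
    simp only [map_sum, map_smul, LinearMap.sum_apply, LinearMap.smul_apply, map_zero, LinearMap.zero_apply,
      smul_eq_mul, polarBilin_apply_apply] at h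
    rw [Finset.sum_eq_single j (fun i _ hi => by rw [hp i j hi, mul_zero]) (by simp),
      PolarVec.polar_self] at h
    exact (mul_eq_zero.mp h).resolve_right (mul_ne_zero h2 (hv j))
  haveI : Nonempty ι := Fintype.card_pos_iff.mp (by omega)
  exact hli.span_eq_top_of_card_eq_finrank (Module.finrank_fintype_fun_eq_card F).symm

include hn hQ h2 in
theorem scalar_of_eig {v : ι → ι → F} (hv : ∀ i, Q (v i) ≠ 0)
    (hp : ∀ i j, i ≠ j → polar (⇑Q) (v i) (v j) = 0) (g : Matrix ι ι F)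
    (hg : ∀ a, Q a ≠ 0 → ∃ l : F, g *ᵥ a = l • a) : ∃ l : F, g = l • (1 : Matrix ι ι F) := by
  have hspan := li_basis Q hn hQ hv hp h2
  choose L hL using hg
  have hcoef : ∀ (s : Finset ι) (c : ι → F), ∑ i ∈ s, c i • v i = 0 → ∀ j ∈ s, c j = 0 := by
    intro s c hc j hj
    have h := congrArg (fun x => polarBilin Q x (v j)) hc
    simp only [map_sum, map_smul, LinearMap.sum_apply, LinearMap.smul_apply, map_zero, LinearMap.zero_apply,
      smul_eq_mul, polarBilin_apply_apply] at h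
    rw [Finset.sum_eq_single j (fun i _ hi => by rw [hp i j hi, mul_zero]) (fun hn => absurd hj hn),
      PolarVec.polar_self] at h
    exact (mul_eq_zero.mp h).resolve_right (mul_ne_zero h2 (hv j))
  have hsum : ∀ (s : Finset ι), Q (∑ i ∈ s, v i) = ∑ i ∈ s, Q (v i) := by
    intro s
    induction s using Finset.induction_on with
    | empty => simp
    | insert i s hi ih =>
      have h0 : ∑ j ∈ s, polarBilin Q (v i) (v j) = 0 :=
        Finset.sum_eq_zero fun j hj => hp i j fun e => hi (e ▸ hj)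
      rw [Finset.sum_insert hi, Finset.sum_insert hi, QuadraticMap.map_add (⇑Q), ih,
        show polar (⇑Q) (v i) (∑ j ∈ s, v j) = polarBilin Q (v i) (∑ j ∈ s, v j) from rfl, map_sum, h0,
        add_zero]
  have hsame : ∀ (s : Finset ι) (hs : Q (∑ i ∈ s, v i) ≠ 0), ∀ j ∈ s, L (v j) (hv j) = L _ hs := by
    intro s hs j hj
    refine sub_eq_zero.mp (hcoef s (fun i => L (v i) (hv i) - L _ hs) ?_ j hj)
    simp only [sub_smul, Finset.sum_sub_distrib, ← hL, ← Finset.smul_sum]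
    rw [Matrix.mulVec_sum, sub_self]
  have hall : ∀ i j, L (v i) (hv i) = L (v j) (hv j) := by
    intro i j
    rcases eq_or_ne i j with rfl | hij
    · rfl
    by_cases h : Q (v i) + Q (v j) = 0
    · obtain ⟨k, hk⟩ : ∃ k, k ∉ ({i, j} : Finset ι) := by
        by_contra hc
        push Not at hc
        have : (Finset.univ : Finset ι).card ≤ ({i, j} : Finset ι).card :=
          Finset.card_le_card fun x _ => hc x
        rw [Finset.card_univ, Finset.card_pair hij] at this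
        omega
      have hs : Q (∑ l ∈ insert k ({i, j} : Finset ι), v l) ≠ 0 := by
        rw [hsum, Finset.sum_insert hk, Finset.sum_pair hij, h, add_zero]
        exact hv k
      rw [hsame _ hs i (by simp), hsame _ hs j (by simp)]
    · have hs : Q (∑ l ∈ ({i, j} : Finset ι), v l) ≠ 0 := by rwa [hsum, Finset.sum_pair hij]
      rw [hsame _ hs i (by simp), hsame _ hs j (by simp)]
  haveI : Nonempty ι := Fintype.card_pos_iff.mp (by omega)
  let i₀ : ι := Classical.arbitrary ι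
  refine ⟨L (v i₀) (hv i₀), Matrix.ext_of_mulVec_single fun k => ?_⟩
  have hmem : (Pi.single k 1 : ι → F) ∈ Submodule.span F (Set.range v) := hspan ▸ Submodule.mem_top
  have hle : Submodule.span F (Set.range v) ≤
      LinearMap.ker (g.mulVecLin - L (v i₀) (hv i₀) • LinearMap.id) := by
    rw [Submodule.span_le]
    rintro _ ⟨i, rfl⟩
    rw [SetLike.mem_coe, LinearMap.mem_ker, LinearMap.sub_apply, LinearMap.smul_apply, LinearMap.id_apply,
      Matrix.mulVecLin_apply, hL _ (hv i), hall i i₀, sub_self]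
  have h := hle hmem
  rw [LinearMap.mem_ker, LinearMap.sub_apply, sub_eq_zero] at h
  rw [Matrix.smul_mulVec, Matrix.one_mulVec]
  exact h

include hn hQ h2 in
theorem scalar_of_ker {v : ι → ι → F} (hv : ∀ i, Q (v i) ≠ 0)
    (hp : ∀ i j, i ≠ j → polar (⇑Q) (v i) (v j) = 0) {g : GO Q} (hg : g ∈ (Θ Q).ker) :
    ∃ c : Fˣ, g.1 = sc c := by
  haveI : Nonempty ι := Fintype.card_pos_iff.mp (by omega)
  have hsgn : ∀ s : Cfsg.Omega F ⇑Q, (g.1 * s.1.1 * g.1⁻¹).1 = s.1.1.1 ∨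
      (g.1 * s.1.1 * g.1⁻¹).1 = -s.1.1.1 := by
    intro s
    have h : θ Q g (QuotientGroup.mk s) = QuotientGroup.mk s :=
      DFunLike.congr_fun (show Θ Q g = 1 from hg) _
    rw [θ_mk, QuotientGroup.eq] at h
    rcases POmegaCard.center_cases Q hn hQ _ h with h' | h'
    · left
      have e : (omEquiv Q g s).1.1 = s.1.1 := by
        have : (omEquiv Q g s).1.1⁻¹ * s.1.1 = 1 := Units.ext h'
        exact inv_mul_eq_one.mp this
      exact congrArg Units.val e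
    · right
      have h3 : (omEquiv Q g s).1.1.1 * ((omEquiv Q g s).1.1⁻¹.1 * s.1.1.1) = (omEquiv Q g s).1.1.1 * (-1) :=
        congrArg _ h'
      rw [← mul_assoc, Units.mul_inv, one_mul, mul_neg, mul_one] at h3
      rw [h3, neg_neg]; rfl
  let C : Subgroup (Cfsg.isometryGroup F ⇑Q) := (Subgroup.centralizer {g.1}).subgroupOf _
  have hC : Cfsg.Omega F ⇑Q ≤ C := by
    conv_lhs => rw [← omega_perfect Q hn hQ]
    rw [Subgroup.commutator_le]
    intro s hs t ht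
    rw [Subgroup.mem_subgroupOf, Subgroup.mem_centralizer_singleton_iff]
    have key : ∀ a b A B : GL ι F, (A.1 = a.1 ∨ A.1 = -a.1) → (B.1 = b.1 ∨ B.1 = -b.1) → ⁅A, B⁆ = ⁅a, b⁆ := by
      have hi : ∀ a A : GL ι F, A.1 = -a.1 → A⁻¹.1 = -a⁻¹.1 := fun a A h =>
        (Units.eq_inv_of_mul_eq_one_left (u := A) (a := -a⁻¹.1) (by rw [h, neg_mul_neg, Units.mul_inv])).symm
      intro a b A B hA hB
      refine Units.ext ?_
      simp only [commutatorElement_def, Units.val_mul]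
      rcases hA with hA | hA <;> rcases hB with hB | hB
      · rw [Units.ext hA, Units.ext hB]
      · rw [Units.ext hA, hB, hi b B hB]; simp
      · rw [Units.ext hB, hA, hi a A hA]; simp
      · rw [hA, hB, hi a A hA, hi b B hB]; simp
    have h1 := key s.1 t.1 (g.1 * s.1 * g.1⁻¹) (g.1 * t.1 * g.1⁻¹) (hsgn ⟨s, hs⟩) (hsgn ⟨t, ht⟩)
    rw [← conjugate_commutatorElement, mul_inv_eq_iff_eq_mul] at h1
    exact h1.symm
  have hcomm : ∀ s ∈ Cfsg.Omega F ⇑Q, g.1 * s.1 * g.1⁻¹ = s.1 := fun s hs => by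
    rw [mul_inv_eq_iff_eq_mul]
    exact (Subgroup.mem_centralizer_singleton_iff.mp (hC hs)).symm
  have heig : ∀ a, Q a ≠ 0 → ∃ l : F, g.1.1 *ᵥ a = l • a := by
    intro a ha
    obtain ⟨x, hx⟩ := OmegaList.exists_iso Q [a] (by simpa using ha)
    have hx' : x.1.1 = Cfsg.reflectionMatrix (⇑Q) a := by rw [hx]; simp [OmegaList.RP]
    set c := conjO Q g x * x⁻¹ with hc
    have hcen : ∀ s ∈ Cfsg.Omega F ⇑Q, Commute c s := by
      intro s hs
      have hs' : x⁻¹ * s * x⁻¹⁻¹ ∈ Cfsg.Omega F ⇑Q := Subgroup.Normal.conj_mem inferInstance s hs x⁻¹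
      have h1 : c * s * c⁻¹ = s := by
        refine Subtype.ext ?_
        have e : (c * s * c⁻¹).1 = g.1 * x.1 * g.1⁻¹ * (x⁻¹ * s * x⁻¹⁻¹).1 * (g.1 * x.1 * g.1⁻¹)⁻¹ := by
          show (g.1 * x.1 * g.1⁻¹ * x.1⁻¹) * s.1 * (g.1 * x.1 * g.1⁻¹ * x.1⁻¹)⁻¹ =
            g.1 * x.1 * g.1⁻¹ * (x.1⁻¹ * s.1 * x.1⁻¹⁻¹) * (g.1 * x.1 * g.1⁻¹)⁻¹
          group
        have e2 : g.1⁻¹ * (x⁻¹ * s * x⁻¹⁻¹).1 * g.1 = (x⁻¹ * s * x⁻¹⁻¹).1 := by
          nth_rewrite 1 [← hcomm _ hs']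
          group
        rw [e]
        calc g.1 * x.1 * g.1⁻¹ * (x⁻¹ * s * x⁻¹⁻¹).1 * (g.1 * x.1 * g.1⁻¹)⁻¹ =
            g.1 * x.1 * (g.1⁻¹ * (x⁻¹ * s * x⁻¹⁻¹).1 * g.1) * x.1⁻¹ * g.1⁻¹ := by group
          _ = g.1 * s.1 * g.1⁻¹ := by
            rw [e2]
            show g.1 * x.1 * (x.1⁻¹ * s.1 * x.1⁻¹⁻¹) * x.1⁻¹ * g.1⁻¹ = _
            group
          _ = s.1 := hcomm s hs
      exact mul_inv_eq_iff_eq_mul.mp h1
    obtain ⟨s, hs, hsx⟩ := OmegaCenter.central_scalar Q hQ (by rwa [Module.finrank_fintype_fun_eq_card])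
      (isoEquiv Q c) (fun k k' => by
        obtain ⟨y, rfl⟩ := (isoEquiv Q).surjective k
        obtain ⟨y', rfl⟩ := (isoEquiv Q).surjective k'
        rw [← map_commutatorElement]
        exact (hcen _ (by
          rw [Cfsg.Omega, _root_.commutator_def]
          exact Subgroup.commutator_mem_commutator (Subgroup.mem_top y) (Subgroup.mem_top y'))).map _)
    have hm : c.1.1 = s • (1 : Matrix ι ι F) := Matrix.ext_of_mulVec_single fun i => by
      rw [← isoEquiv_apply, hsx, Matrix.smul_mulVec, Matrix.one_mulVec]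
    have hgr : g.1.1 * Cfsg.reflectionMatrix (⇑Q) a = s • (Cfsg.reflectionMatrix (⇑Q) a * g.1.1) := by
      have e : g.1 * x.1 = c.1 * x.1 * g.1 := by
        show g.1 * x.1 = g.1 * x.1 * g.1⁻¹ * x.1⁻¹ * x.1 * g.1
        group
      have := congrArg Units.val e
      simp only [Units.val_mul, hm, hx', Matrix.smul_mul, one_mul] at this
      exact this
    rcases mul_self_eq_one_iff.mp hs with rfl | rfl
    · exact eig_of_commute Q ha _ (by rw [hgr, one_smul]) h2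
    · exact (no_neg Q ha (by omega) hQ h2 g.1 (by rw [hgr, neg_smul, one_smul])).elim
  obtain ⟨l, hl⟩ := scalar_of_eig Q hn hQ h2 hv hp _ heig
  have hl0 : l ≠ 0 := by
    rintro rfl
    exact g.1.ne_zero (by rw [hl, zero_smul])
  exact ⟨Units.mk0 l hl0, Units.ext (by rw [hl, sc_val]; rfl)⟩

theorem Θ_sc {g : GO Q} {c : Fˣ} (hg : g.1 = sc c) : Θ Q g = 1 := by
  refine MulEquiv.ext fun x => ?_
  induction x using QuotientGroup.induction_on with
  | _ s =>
    show QuotientGroup.mk (omEquiv Q g s) = _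
    rw [MulAut.one_apply]
    congr 1
    refine Subtype.ext (Subtype.ext ?_)
    show g.1 * s.1.1 * g.1⁻¹ = s.1.1
    rw [hg, sc_comm, mul_inv_cancel_right]

theorem closure_induced (P : GL ι F → Prop) (G₀ : Subgroup (GO Q)) (hP : ∀ g : GO Q, P g.1 ↔ g ∈ G₀) :
    Subgroup.closure {β : MulAut (Cfsg.POmega F ⇑Q) | ∃ g : GL ι F, g ∈ GO Q ∧ P g ∧
      Cfsg.IsInducedBySemilinearPOmega (⇑Q) g (RingEquiv.refl F) β} = G₀.map (Θ Q) := by
  refine le_antisymm ((Subgroup.closure_le _).mpr ?_) ?_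
  · rintro β ⟨g, hg, hPg, hβ⟩
    exact ⟨⟨g, hg⟩, (hP _).mp hPg, ((induced_iff Q ⟨g, hg⟩ β).mp hβ).symm⟩
  · rintro _ ⟨g, hg, rfl⟩
    exact Subgroup.subset_closure ⟨g.1, g.2, (hP g).mpr hg, (induced_iff Q g _).mpr rfl⟩

theorem pgoAut_eq : Cfsg.pgoAut F ⇑Q = (Θ Q).range := by
  rw [MonoidHom.range_eq_map, ← closure_induced Q (fun _ => True) ⊤ (by simp)]
  simp only [true_and]
  rfl

theorem psoAut_eq : Cfsg.psoAut F ⇑Q = (scSub Q (Cfsg.specialIsometryGL F ⇑Q)).map (Θ Q) := by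
  refine le_antisymm ((Subgroup.closure_le _).mpr ?_) ?_
  · rintro β ⟨g, hg, hβ⟩
    refine ⟨⟨g, iso_mem Q hg.1⟩, ⟨1, g, hg, by simp⟩, ((induced_iff Q ⟨g, iso_mem Q hg.1⟩ β).mp hβ).symm⟩
  · rintro _ ⟨g, ⟨c, o, ho, hg⟩, rfl⟩
    refine Subgroup.subset_closure ⟨o, ho, (induced_iff Q ⟨o, iso_mem Q ho.1⟩ _).mpr ?_⟩
    have e : g = ⟨sc c, sc_mem Q c⟩ * ⟨o, iso_mem Q ho.1⟩ := Subtype.ext hg
    rw [e, map_mul, Θ_sc Q (g := ⟨sc c, sc_mem Q c⟩) rfl, one_mul]

theorem inn_eq : Cfsg.Inn (Cfsg.POmega F ⇑Q) = (scSub Q (OmL Q)).map (Θ Q) := by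
  have key : ∀ w : Cfsg.Omega F ⇑Q, Θ Q ⟨w.1.1, iso_mem Q w.1.2⟩ = MulAut.conj (QuotientGroup.mk w) := by
    intro w
    refine MulEquiv.ext fun x => ?_
    induction x using QuotientGroup.induction_on with
    | _ s =>
      show QuotientGroup.mk (omEquiv Q _ s) = _
      rw [MulAut.conj_apply, ← QuotientGroup.mk_inv, ← QuotientGroup.mk_mul, ← QuotientGroup.mk_mul]
      congr 1
  refine le_antisymm ?_ ?_
  · rintro _ ⟨x, rfl⟩
    induction x using QuotientGroup.induction_on with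
    | _ w => exact ⟨⟨w.1.1, iso_mem Q w.1.2⟩, ⟨1, w.1.1, ⟨w.1, w.2, rfl⟩, by simp⟩, key w⟩
  · rintro _ ⟨g, ⟨c, _, ⟨w, hw, rfl⟩, hg⟩, rfl⟩
    refine ⟨QuotientGroup.mk ⟨w, hw⟩, ?_⟩
    have e : g = ⟨sc c, sc_mem Q c⟩ * ⟨w.1, iso_mem Q w.2⟩ := Subtype.ext hg
    rw [e, map_mul, Θ_sc Q (g := ⟨sc c, sc_mem Q c⟩) rfl, one_mul, key ⟨w, hw⟩]

end CfsgLib.PGO
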