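import Cfsg.Agent.Lib.PGO.Classes

/-!
The inner-diagonal automorphisms of the even-dimensional orthogonal groups.
-/

set_option autoImplicit false
set_option linter.dupNamespace false
set_option linter.unusedSectionVars false

namespace CfsgLib.PGO

open QuadraticMap CfsgLib.SpinorNorm CfsgLib.SpinorMatrix CfsgLib.OmegaList
open CfsgLib.Lagrangian (Qp Qp_apply)
open CfsgLib.StdQuadForms (Qm Qm_apply)
open scoped Matrix commutatorElement

variable {F : Type*} [Field F] [Fintype F] {ι : Type} [Fintype ι] [DecidableEq ι]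
  {Q : QuadraticForm F (ι → F)}

namespace Data

variable (D : Data Q)
include D

section sub

variable {G₀ : Subgroup (GO Q)} (hN : Ns Q ≤ G₀) (hmul : ∀ g, (D.r * g ∈ G₀ ↔ g ∉ G₀))
include hN hmul

theorem Hs_le_G₀ : Hs Q ≤ G₀ := fun k hk => by
  rcases D.Hs_split hk with h | h
  · exact hN h
  · simpa using mul_mem (hN h) (D.z_mem_G₀ hN hmul)

theorem mem_G₀_eq {G₁ : Subgroup (GO Q)} (hN₁ : Ns Q ≤ G₁) (hmul₁ : ∀ g, (D.r * g ∈ G₁ ↔ g ∉ G₁))
    (hδ : D.δ ∈ G₀ ↔ D.δ ∈ G₁) : G₀ = G₁ := by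
  have key : ∀ (G : Subgroup (GO Q)), Ns Q ≤ G → (∀ g, (D.r * g ∈ G ↔ g ∉ G)) →
      ∀ g, g ∈ G ↔ (g ∈ Hs Q ∨ (D.δ * g ∈ Hs Q ∧ D.δ ∈ G) ∨ (D.r * (D.δ * g) ∈ Hs Q ∧ D.δ ∉ G)) := by
    intro G hG hGm g
    have hle := D.Hs_le_G₀ hG hGm
    have hδg : D.δ * g ∈ G → (g ∈ G ↔ D.δ ∈ G) := fun h =>
      ⟨fun hg => (mul_mem_cancel_right hg).mp h, fun hd => (mul_mem_cancel_left hd).mp h⟩
    constructor
    · intro hg
      rcases D.cover g with h | h | h | h
      · exact Or.inl h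
      · exact absurd hg ((hGm g).mp (hle h))
      · exact Or.inr (Or.inl ⟨h, (hδg (hle h)).mp hg⟩)
      · exact Or.inr (Or.inr ⟨h, fun hd => (hGm _).mp (hle h) (mul_mem hd hg)⟩)
    · rintro (h | ⟨h, hd⟩ | ⟨h, hd⟩)
      · exact hle h
      · exact (hδg (hle h)).mpr hd
      · by_contra hg
        have h1 : D.r * D.δ ∈ G := (hGm _).mpr hd
        exact hg ((mul_mem_cancel_left h1).mp (by rw [mul_assoc]; exact hle h))
  ext g
  rw [key G₀ hN hmul, key G₁ hN₁ hmul₁, hδ]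

theorem inndiag_two (hδ : D.δ ∈ G₀) (h : ¬ POmegaCard.NegMem F ⇑Q) :
    ∃ φ : (G₀.map (Θ Q) : Subgroup _) →* Multiplicative (ZMod 2), Function.Surjective φ ∧
      φ.ker = (Cfsg.Inn (Cfsg.POmega F ⇑Q)).subgroupOf (G₀.map (Θ Q)) := by
  haveI : Fact (Nat.Prime 2) := ⟨Nat.prime_two⟩
  let yy : G₀.map (QuotientGroup.mk' (Ns Q)) := ⟨D.y, D.δ, hδ, rfl⟩
  have ho : orderOf yy = 2 :=
    orderOf_eq_prime (by rw [pow_two]; exact Subtype.ext D.y_sq) fun e => D.y_ne (congrArg Subtype.val e)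
  have hH : Hs Q ≤ Ns Q := fun k hk => by
    rcases D.Hs_split hk with h1 | h1
    · exact h1
    · simpa using mul_mem h1 (D.z_mem_iff.mpr h)
  have hgen : ∀ q, q ∈ Subgroup.zpowers yy := by
    rintro ⟨_, g, hg, rfl⟩
    rcases D.cover g with h1 | h1 | h1 | h1
    · refine ⟨0, Subtype.ext ?_⟩
      show (1 : GO Q ⧸ Ns Q) = _
      exact ((QuotientGroup.eq_one_iff g).mpr (hH h1)).symm
    · exact absurd hg ((hmul g).mp (D.Hs_le_G₀ hN hmul h1))
    · refine ⟨1, Subtype.ext ?_⟩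
      show D.y ^ (1 : ℤ) = _
      rw [zpow_one]
      exact ((eq_inv_of_mul_eq_one_right (show D.y * QuotientGroup.mk g = 1 from
        (QuotientGroup.eq_one_iff _).mpr (hH h1))).trans (inv_eq_of_mul_eq_one_right D.y_sq)).symm
    · exact absurd (mul_mem hδ hg) ((hmul _).mp (D.Hs_le_G₀ hN hmul h1))
  obtain ⟨e⟩ := exists_cyclic ho hgen
  exact D.descend_sub hN e

end sub

end Data

theorem closure_transport {f : (ι → F) → F} (hf : f = ⇑Q) (P : GL ι F → Prop) (G : Subgroup (GO Q))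
    (hP : ∀ g : GO Q, P g.1 ↔ g ∈ G) {C : Type*} [Group C]
    (h : ∃ ψ : (G.map (Θ Q) : Subgroup _) →* C, Function.Surjective ψ ∧
      ψ.ker = (Cfsg.Inn (Cfsg.POmega F ⇑Q)).subgroupOf (G.map (Θ Q))) :
    ∃ ψ : (Subgroup.closure {β : MulAut (Cfsg.POmega F f) | ∃ g : GL ι F,
        g ∈ Cfsg.Geo.quadSimilarityGroup (F := F) f ∧ P g ∧
        Cfsg.IsInducedBySemilinearPOmega f g (RingEquiv.refl F) β}) →* C, Function.Surjective ψ ∧
      ψ.ker = (Cfsg.Inn (Cfsg.POmega F f)).subgroupOf (Subgroup.closure {β : MulAut (Cfsg.POmega F f) |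
        ∃ g : GL ι F, g ∈ Cfsg.Geo.quadSimilarityGroup (F := F) f ∧ P g ∧
          Cfsg.IsInducedBySemilinearPOmega f g (RingEquiv.refl F) β}) := by
  subst hf
  rw [closure_induced Q P G hP]
  exact h

section classSub

variable {K : Type*} [Field K] {f : (ι → K) → K} {M : ℕ} (H : Hyp f M) (ρ : GO Q →* GL ι K)
  (hρ : ∀ g, ∃ c : K, ∀ x, f ((ρ g).1 *ᵥ x) = c * f x)

/-- The similarities fixing both classes. -/
def classSub : Subgroup (GO Q) where
  carrier := {g | H.Pres (ρ g)}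
  one_mem' := by show H.Pres (ρ 1); rw [map_one]; exact H.pres_one
  mul_mem' {a b} ha hb := by
    show H.Pres (ρ (a * b))
    rw [map_mul, H.pres_mul _ _ (hρ a) (hρ b)]
    exact iff_of_true ha hb
  inv_mem' {a} ha := by
    show H.Pres (ρ a⁻¹)
    have h := H.pres_mul _ _ (hρ a) (hρ a⁻¹)
    rw [← map_mul, mul_inv_cancel, map_one] at h
    exact (h.mp H.pres_one).mp ha

theorem mem_classSub {g : GO Q} : g ∈ classSub H ρ hρ ↔ H.Pres (ρ g) := Iff.rfl

include hρ in
theorem pres_commutator (g h : GO Q) : H.Pres (ρ ⁅g, h⁆) := by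
  have hi : ∀ a : GO Q, H.Pres (ρ a⁻¹) ↔ H.Pres (ρ a) := fun a => by
    have h := H.pres_mul _ _ (hρ a) (hρ a⁻¹)
    rw [← map_mul, mul_inv_cancel, map_one] at h
    exact (h.mp H.pres_one).symm
  have hm : ∀ a b : GO Q, H.Pres (ρ (a * b)) ↔ (H.Pres (ρ a) ↔ H.Pres (ρ b)) := fun a b => by
    rw [map_mul]; exact H.pres_mul _ _ (hρ a) (hρ b)
  rw [commutatorElement_def, hm, hm, hm, hi, hi]
  tauto

theorem Ns_le_classSub (hsc : ∀ c : Fˣ, ∃ k : K, k ≠ 0 ∧
    (ρ ⟨sc c, sc_mem Q c⟩).1 = k • (1 : Matrix ι ι K)) : Ns Q ≤ classSub H ρ hρ := by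
  rintro g ⟨c, _, ⟨o, ho, rfl⟩, hg⟩
  have e : g = ⟨sc c, sc_mem Q c⟩ * Data.toGO o := Subtype.ext hg
  rw [e]
  refine mul_mem ?_ ?_
  · obtain ⟨k, hk0, hk⟩ := hsc c
    show H.Same H.L₀ (Hyp.img _ H.L₀)
    rw [Hyp.img, Cfsg.imageSubmodule, hk, map_smul, Matrix.toLin'_one, Submodule.map_smul _ _ _ hk0,
      Submodule.map_id]
    exact H.same_self H.lag_L₀
  · let τ : Cfsg.isometryGroup F ⇑Q →* GO Q := MonoidHom.mk' Data.toGO fun a b => rfl
    have h : (commutator (Cfsg.isometryGroup F ⇑Q)).map τ ≤ classSub H ρ hρ := by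
      rw [_root_.commutator_def, Subgroup.map_commutator, Subgroup.commutator_le]
      intro a _ b _
      exact pres_commutator H ρ hρ a b
    exact h ⟨o, ho, rfl⟩

theorem mul_classSub [Fintype K] (D : Data Q) (Q' : QuadraticForm K (ι → K)) (hQf : ∀ x, f x = Q' x)
    {a : ι → K} (ha : Q' a ≠ 0) (hr : (ρ D.r).1 = Cfsg.reflectionMatrix (⇑Q') a) (g : GO Q) :
    D.r * g ∈ classSub H ρ hρ ↔ g ∉ classSub H ρ hρ := by
  have h := H.pres_refl (ρ D.r) Q' hQf ha hr
  rw [mem_classSub, mem_classSub, map_mul, H.pres_mul _ _ (hρ D.r) (hρ g)]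
  tauto

end classSub

section plus

variable {m : ℕ}

/-- The identity coordinates of the plus form. -/
def hypPlus : Hyp (Cfsg.quadFormPlus m F) m := ⟨LinearEquiv.refl F _, fun _ => rfl⟩

theorem hρ_plus (g : GO (Qp m F)) : ∃ c : F, ∀ x, Cfsg.quadFormPlus m F (g.1.1 *ᵥ x) = c * Cfsg.quadFormPlus m F x := by
  obtain ⟨c, hc⟩ := g.2
  exact ⟨c, fun x => by rw [← Qp_apply, ← Qp_apply]; exact hc x⟩

/-- The subgroup defining `Inndiag` of the plus form. -/
def G₀Plus (m : ℕ) (F : Type*) [Field F] [Fintype F] : Subgroup (GO (Qp m F)) :=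
  classSub (hypPlus (F := F) (m := m)) (GO (Qp m F)).subtype hρ_plus

theorem G₀Plus_Ns : Ns (Qp m F) ≤ G₀Plus m F :=
  Ns_le_classSub _ _ _ fun c => ⟨(c : F), c.ne_zero, sc_val c⟩

theorem G₀Plus_mul (D : Data (Qp m F)) (g : GO (Qp m F)) : D.r * g ∈ G₀Plus m F ↔ g ∉ G₀Plus m F :=
  mul_classSub _ _ _ D (Qp m F) (fun x => (Qp_apply x).symm) D.ha (symm_refl_matrix (Qp m F) D.ha) g

theorem G₀Plus_δ (hodd : Odd (Fintype.card F)) (hm : 3 ≤ m) :
    (plusData (F := F) hodd hm).δ ∈ G₀Plus m F ↔ Even m := by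
  refine Hyp.pres_swap _ _ (Submodule.eq_bot_iff _ |>.mpr ?_)
  rintro x ⟨hx, y, hy, rfl⟩
  rw [Matrix.toLin'_apply] at hx ⊢
  have hy' : ∀ i, y (Sum.inr i) = 0 := hy
  have e : (plusData (F := F) hodd hm).δ.1 = dPlus (plusData (F := F) hodd hm).ν := rfl
  change ∀ i, (((plusData (F := F) hodd hm).δ.1).1 *ᵥ y) (Sum.inr i) = 0 at hx
  show ((plusData (F := F) hodd hm).δ.1).1 *ᵥ y = 0
  rw [e, dPlus_mulVec] at hx ⊢
  funext s
  rcases s with i | i
  · simp [hy' i]
  · simpa using hx i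

theorem plus_inndiag (hodd : Odd (Fintype.card F)) (hm : 3 ≤ m) :
    ((Odd m ∧ Fintype.card F % 4 = 3) → (∃ φ : ↥(Cfsg.inndiagPOmegaPlus m F) →* Multiplicative (ZMod 2),
      Function.Surjective φ ∧ φ.ker =
        (Cfsg.Inn (Cfsg.POmega F (Cfsg.quadFormPlus m F))).subgroupOf (Cfsg.inndiagPOmegaPlus m F))) ∧
    ((Odd m ∧ Fintype.card F % 4 = 1) → (∃ φ : ↥(Cfsg.inndiagPOmegaPlus m F) →* Multiplicative (ZMod 4),
      Function.Surjective φ ∧ φ.ker =
        (Cfsg.Inn (Cfsg.POmega F (Cfsg.quadFormPlus m F))).subgroupOf (Cfsg.inndiagPOmegaPlus m F))) ∧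
    (Even m → (∃ φ : ↥(Cfsg.inndiagPOmegaPlus m F) →* Multiplicative (ZMod 2 × ZMod 2),
      Function.Surjective φ ∧ φ.ker =
        (Cfsg.Inn (Cfsg.POmega F (Cfsg.quadFormPlus m F))).subgroupOf (Cfsg.inndiagPOmegaPlus m F))) := by
  have hf : Cfsg.quadFormPlus m F = ⇑(Qp m F) := funext fun v => (Qp_apply v).symm
  have hP : ∀ g : GO (Qp m F), Cfsg.PreservesSingularClasses (Cfsg.quadFormPlus m F) g.1.1 ↔ g ∈ G₀Plus m F :=
    fun g => Hyp.preserves_iff _ _ (hρ_plus g)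
  have key : ∀ (C : Type) [Group C],
      (∃ φ : ((G₀Plus m F).map (Θ (Qp m F)) : Subgroup _) →* C, Function.Surjective φ ∧
        φ.ker = (Cfsg.Inn (Cfsg.POmega F ⇑(Qp m F))).subgroupOf ((G₀Plus m F).map (Θ (Qp m F)))) → _ :=
    fun C _ h => closure_transport hf (fun g => Cfsg.PreservesSingularClasses (Cfsg.quadFormPlus m F) g.1)
      (G₀Plus m F) hP h
  set D := plusData (F := F) hodd hm with hD
  have hd := G₀Plus_δ (F := F) hodd hm
  have hn := negMem_plus (F := F) hodd hm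
  refine ⟨fun h => key _ ?_, fun h => key _ ?_, fun h => key _ ?_⟩
  · exact D.inndiag_cyclic G₀Plus_Ns (G₀Plus_mul D) (fun hx => Nat.not_even_iff_odd.mpr h.1 (hd.mp hx))
      (D.orderOf_u_two fun hneg => hn.mp hneg h)
  · exact D.inndiag_cyclic G₀Plus_Ns (G₀Plus_mul D) (fun hx => Nat.not_even_iff_odd.mpr h.1 (hd.mp hx))
      (D.orderOf_u_four (hn.mpr fun h' => by omega))
  · exact D.inndiag_four G₀Plus_Ns (G₀Plus_mul D) (hd.mpr h)
      (hn.mpr fun h' => Nat.not_even_iff_odd.mpr h'.1 h)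

end plus

section minus

universe u

variable {F : Type u} [Field F] [Fintype F] {m : ℕ} {a b : F} {K : Type u} [Field K] [Algebra F K]

local notation "φ" => algebraMap F K

theorem exists_sqrt (hK : Module.finrank F K = 2) (h2 : (2 : F) ≠ 0) (c : F) : ∃ t : K, t * t = φ c := by
  haveI : Module.Finite F K := Module.finite_of_finrank_eq_succ hK
  haveI : Finite K := Module.finite_of_finite F
  haveI := Fintype.ofFinite K
  rcases eq_or_ne c 0 with rfl | hc
  · exact ⟨0, by simp⟩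
  have hF : ringChar F ≠ 2 := fun h => h2 (by haveI := ringChar.of_eq h; exact CharTwo.two_eq_zero)
  have hK2 : ringChar K ≠ 2 := by
    rwa [← Algebra.ringChar_eq F K]
  have hc' : (φ c) ≠ 0 := fun h => hc ((map_eq_zero _).mp h)
  obtain ⟨t, ht⟩ := (FiniteField.isSquare_iff hK2 hc').mpr (by
    have hq := FiniteField.pow_card_sub_one_eq_one c hc
    have hcard : Fintype.card K = Fintype.card F ^ 2 := by rw [← hK]; exact Module.card_eq_pow_finrank
    obtain ⟨k, hk⟩ := (FiniteField.odd_card_of_char_ne_two hF : Fintype.card F % 2 = 1) |> fun h =>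
      (⟨Fintype.card F / 2, by omega⟩ : ∃ k, Fintype.card F = 2 * k + 1)
    rw [hcard, show Fintype.card F ^ 2 / 2 = (Fintype.card F - 1) * (k + 1) by
      rw [hk, Nat.add_sub_cancel, show (2 * k + 1) ^ 2 = 2 * (2 * k * (k + 1)) + 1 by ring]; omega,
      pow_mul, ← map_pow, hq, map_one, one_pow])
  exact ⟨t, ht.symm⟩

/-- The coordinates splitting the minus form over the quadratic extension. -/
noncomputable def hypMinus (h2 : (2 : K) ≠ 0) {τ : K} (hτ : τ * τ = -(φ b - (φ a / 2) ^ 2)) (hτ0 : τ ≠ 0) :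
    Hyp (Cfsg.quadFormMinus m K (φ a) (φ b)) (m + 1) where
  e :=
    { toFun := fun x => Sum.elim
        (Fin.snoc (fun i => x (.inl (.inl i))) (x (.inr 0) + φ a / 2 * x (.inr 1) - τ * x (.inr 1)))
        (Fin.snoc (fun i => x (.inl (.inr i))) (x (.inr 0) + φ a / 2 * x (.inr 1) + τ * x (.inr 1)))
      invFun := fun y => Sum.elim (Sum.elim (fun i => y (.inl i.castSucc)) (fun i => y (.inr i.castSucc)))
        ![(y (.inl (Fin.last m)) + y (.inr (Fin.last m))) / 2 -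
            φ a / 2 * ((y (.inr (Fin.last m)) - y (.inl (Fin.last m))) / (2 * τ)),
          (y (.inr (Fin.last m)) - y (.inl (Fin.last m))) / (2 * τ)]
      left_inv := fun x => by
        funext s
        rcases s with (i | i) | i
        · simp
        · simp
        · fin_cases i <;> simp <;> field_simp <;> ring
      right_inv := fun y => by
        funext s
        rcases s with i | i <;> refine Fin.lastCases ?_ (fun j => ?_) i <;> simp <;> field_simp <;> ring
      map_add' := fun x y => by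
        funext s
        rcases s with i | i <;> refine Fin.lastCases ?_ (fun j => ?_) i <;> simp <;> ring
      map_smul' := fun c x => by
        funext s
        rcases s with i | i <;> refine Fin.lastCases ?_ (fun j => ?_) i <;> simp <;> ring }
  hf x := by
    simp only [LinearEquiv.coe_mk, LinearMap.coe_mk, AddHom.coe_mk, Cfsg.quadFormPlus, Cfsg.quadFormMinus,
      Sum.elim_inl, Sum.elim_inr, Fin.sum_univ_castSucc, Fin.snoc_castSucc, Fin.snoc_last]
    have h4 : (2 : K) ^ 2 ≠ 0 := pow_ne_zero _ h2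
    field_simp at hτ ⊢
    linear_combination (-(x (.inr 1)) ^ 2) * hτ

/-- A matrix over `F` read over `K`. -/
noncomputable def ρMinus (K : Type u) [Field K] [Algebra F K] :
    GO (Qm m a b) →* GL ((Fin m ⊕ Fin m) ⊕ Fin 2) K :=
  (Matrix.GeneralLinearGroup.map (algebraMap F K)).comp (GO (Qm m a b)).subtype

theorem ρMinus_val (g : GO (Qm m a b)) : (ρMinus K g).1 = g.1.1.map φ := rfl

theorem Qm_map (x : (Fin m ⊕ Fin m) ⊕ Fin 2 → F) :
    Qm m (φ a) (φ b) (φ ∘ x) = φ (Qm m a b x) := by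
  simp [Qm_apply, Cfsg.quadFormMinus, map_sum]

theorem polar_map' (x y : (Fin m ⊕ Fin m) ⊕ Fin 2 → F) :
    polar (⇑(Qm m (φ a) (φ b))) (φ ∘ x) (φ ∘ y) = φ (polar (⇑(Qm m a b)) x y) := by
  have h : φ ∘ x + φ ∘ y = φ ∘ (x + y) := funext fun i => by simp
  simp only [polar, h, Qm_map, map_sub]

theorem single_map (i : (Fin m ⊕ Fin m) ⊕ Fin 2) :
    (Pi.single i 1 : (Fin m ⊕ Fin m) ⊕ Fin 2 → K) = φ ∘ Pi.single i (1 : F) := by
  funext j
  by_cases h : j = i
  · subst h; simp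
  · simp [h]

theorem hρ_minus (h2 : (2 : K) ≠ 0) (g : GO (Qm m a b)) :
    ∃ c : K, ∀ x, Cfsg.quadFormMinus m K (φ a) (φ b) ((ρMinus K g).1 *ᵥ x) =
      c * Cfsg.quadFormMinus m K (φ a) (φ b) x := by
  obtain ⟨c, hc⟩ := g.2
  refine ⟨φ c, fun x => ?_⟩
  rw [← Qm_apply, ← Qm_apply]
  set QK := Qm m (φ a) (φ b)
  set L := Matrix.mulVecLin (ρMinus K g).1
  have hb : (polarBilin QK).compl₁₂ L L = (φ c) • polarBilin QK := by
    refine LinearMap.ext_basis (Pi.basisFun K _) (Pi.basisFun K _) fun i j => ?_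
    rw [Pi.basisFun_apply, Pi.basisFun_apply, LinearMap.compl₁₂_apply, LinearMap.smul_apply, LinearMap.smul_apply,
      polarBilin_apply_apply, polarBilin_apply_apply, Matrix.mulVecLin_apply, Matrix.mulVecLin_apply, ρMinus_val,
      single_map (F := F) (K := K), single_map (F := F) (K := K), smul_eq_mul, polar_map']
    have hmv : ∀ v, g.1.1.map φ *ᵥ (φ ∘ v) = φ ∘ (g.1.1 *ᵥ v) := fun v =>
      funext fun k => (RingHom.map_mulVec φ g.1.1 v k).symm
    rw [hmv, hmv, polar_map', ← map_mul]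
    congr 1
    simp only [polar, ← Matrix.mulVec_add, hc]
    ring
  have h := LinearMap.congr_fun (LinearMap.congr_fun hb x) x
  simp only [LinearMap.compl₁₂_apply, LinearMap.smul_apply, polarBilin_apply_apply, smul_eq_mul,
    PolarVec.polar_self, L, Matrix.mulVecLin_apply] at h
  exact mul_left_cancel₀ h2 (by linear_combination h)

theorem two_ne_K (h2 : (2 : F) ≠ 0) : (2 : K) ≠ 0 := by
  intro h
  exact h2 ((map_eq_zero (φ)).mp (by rw [map_ofNat]; exact h))

theorem minus_sub (hodd : Odd (Fintype.card F)) (hm : 3 ≤ m)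
    (hab : ∀ z₁ z₂ : F, z₁ ^ 2 + a * z₁ * z₂ + b * z₂ ^ 2 = 0 → z₁ = 0 ∧ z₂ = 0)
    (hK : Module.finrank F K = 2) :
    ∃ G : Subgroup (GO (Qm m a b)), (∀ g, g ∈ G ↔
        Cfsg.PreservesSingularClasses (Cfsg.quadFormMinus m K (φ a) (φ b)) (g.1.1.map φ)) ∧
      Ns (Qm m a b) ≤ G ∧ (∀ g, (minusData hodd hm hab).r * g ∈ G ↔ g ∉ G) ∧
      ((minusData hodd hm hab).δ ∈ G ↔ Odd m) := by
  have h2 := two_ne hodd
  have h2K : (2 : K) ≠ 0 := two_ne_K h2
  haveI : Module.Finite F K := Module.finite_of_finrank_eq_succ hK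
  haveI : Finite K := Module.finite_of_finite F
  haveI := Fintype.ofFinite K
  obtain ⟨τ, hτ⟩ := exists_sqrt (K := K) hK h2 (-(b - (a / 2) ^ 2))
  have hτ' : τ * τ = -(φ b - (φ a / 2) ^ 2) := by rw [hτ]; simp [map_ofNat]
  have hτ0 : τ ≠ 0 := by
    rintro rfl
    rw [zero_mul, eq_comm, map_eq_zero, neg_eq_zero] at hτ
    exact c_ne hab h2 hτ
  let H := hypMinus (m := m) h2K hτ' hτ0
  refine ⟨classSub H (ρMinus K) (hρ_minus h2K), fun g => ?_, ?_, ?_, ?_⟩
  · rw [mem_classSub, ← ρMinus_val]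
    exact (H.preserves_iff _ (hρ_minus h2K g)).symm
  · refine Ns_le_classSub _ _ _ fun c => ⟨φ c, fun h => c.ne_zero ((map_eq_zero _).mp h), ?_⟩
    rw [ρMinus_val]
    show (sc c).1.map φ = _
    rw [sc_val]
    ext i j
    simp [Matrix.one_apply, apply_ite φ]
  · intro g
    set D := minusData hodd hm hab
    refine mul_classSub _ _ _ D (Qm m (φ a) (φ b)) (fun x => (Qm_apply _ _ _ x).symm)
      (a := φ ∘ D.a) (by rw [Qm_map]; exact fun h => D.ha ((map_eq_zero _).mp h)) ?_ g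
    rw [ρMinus_val, show D.r.1.1 = Cfsg.reflectionMatrix (⇑(Qm m a b)) D.a from symm_refl_matrix _ D.ha]
    refine Matrix.ext_of_mulVec_single fun i => ?_
    rw [single_map (F := F) (K := K), PolarVec.reflection_mulVec, Qm_map, polar_map']
    funext k
    rw [← RingHom.map_mulVec, PolarVec.reflection_mulVec]
    simp
  · have key : ∀ (δ : GO (Qm m a b)) (ν : Fˣ) (u v : F) (h : u ^ 2 + (b - (a / 2) ^ 2) * v ^ 2 = ν),
        δ.1 = dMinus h2 ν h → (δ ∈ classSub H (ρMinus K) (hρ_minus h2K) ↔ Odd m) := by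
      intro δ ν u v h he
      rw [mem_classSub, H.pres_swap, Nat.even_add_one, Nat.not_even_iff_odd]
      rw [Submodule.eq_bot_iff]
      rintro x ⟨hx, y, hy, rfl⟩
      change ∀ i, H.e y (Sum.inr i) = 0 at hy
      change ∀ i, H.e (Matrix.toLin' (ρMinus K δ).1 y) (Sum.inr i) = 0 at hx
      have hy1 : ∀ i, y (.inl (.inr i)) = 0 := fun i => by simpa [H, hypMinus] using hy i.castSucc
      have hy2 : y (.inr 0) + φ a / 2 * y (.inr 1) + τ * y (.inr 1) = 0 := by
        simpa [H, hypMinus] using hy (Fin.last m)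
      have himg : Matrix.toLin' (ρMinus K δ).1 y = Sum.elim
          (Sum.elim (fun i => φ ν * y (.inl (.inr i))) (fun i => y (.inl (.inl i))))
          ![(φ u * (y (.inr 0) + φ a / 2 * y (.inr 1)) + (φ b - (φ a / 2) ^ 2) * φ v * y (.inr 1)) -
              φ a / 2 * (φ v * (y (.inr 0) + φ a / 2 * y (.inr 1)) - φ u * y (.inr 1)),
            φ v * (y (.inr 0) + φ a / 2 * y (.inr 1)) - φ u * y (.inr 1)] := by
        rw [Matrix.toLin'_apply, ρMinus_val, he]
        show (Matrix.fromBlocks (dPlus (m := m) ν).1 0 0 (dBin a b u v)).map φ *ᵥ y = _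
        rw [Matrix.fromBlocks_map, Matrix.fromBlocks_mulVec]
        funext s
        rcases s with (i | i) | i
        · simp [dPlus, Matrix.fromBlocks_map, Matrix.fromBlocks_mulVec, Matrix.map_smul, Matrix.mulVec,
            dotProduct, Matrix.one_apply, Fintype.sum_sum_type, Matrix.fromBlocks, apply_ite φ, ite_mul]
        · simp [dPlus, Matrix.fromBlocks_map, Matrix.fromBlocks_mulVec, Matrix.map_smul, Matrix.mulVec,
            dotProduct, Matrix.one_apply, Fintype.sum_sum_type, Matrix.fromBlocks, apply_ite φ, ite_mul]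
        · fin_cases i <;>
            simp [dBin, Matrix.mulVec, dotProduct, Fin.sum_univ_two, Fintype.sum_sum_type, map_ofNat] <;> ring
      rw [himg] at hx ⊢
      have hx1 : ∀ i, y (.inl (.inl i)) = 0 := fun i => by simpa [H, hypMinus] using hx i.castSucc
      have hx2 := hx (Fin.last m)
      simp [H, hypMinus] at hx2
      have hne : φ u * τ - (φ b - (φ a / 2) ^ 2) * φ v ≠ 0 := by
        intro h0
        have hc0 : φ b - (φ a / 2) ^ 2 ≠ 0 := fun h1 => hτ0 (mul_self_eq_zero.mp (by rw [hτ', h1, neg_zero]))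
        refine ν.ne_zero ((map_eq_zero φ).mp (mul_left_cancel₀ hc0 ?_))
        rw [mul_zero, ← h]
        simp only [map_add, map_mul, map_pow, map_sub, map_div₀, map_ofNat]
        linear_combination (-(φ u * τ + (φ b - (φ a / 2) ^ 2) * φ v)) * h0 + (φ u) ^ 2 * hτ'
      have ht : y (.inr 1) = 0 := by
        refine (mul_eq_zero.mp (?_ : (2 * (φ u * τ - (φ b - (φ a / 2) ^ 2) * φ v)) * y (.inr 1) = 0)).resolve_left
          (mul_ne_zero h2K hne)
        linear_combination (φ u + τ * φ v) * hy2 - φ v * y (.inr 1) * hτ' - hx2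
      have ht0 : y (.inr 0) = 0 := by
        rw [ht] at hy2
        simpa using hy2
      funext s
      rcases s with (i | i) | i
      · simp [hy1 i]
      · simp [hx1 i]
      · fin_cases i <;> simp [ht, ht0]
    exact key _ _ _ _ (exists_norm hab (two_ne hodd)
      (exists_nonsquare (two_ne hodd)).choose.ne_zero).choose_spec.choose_spec rfl

theorem inndiagMinus_set (hodd : Odd (Fintype.card F)) (hm : 3 ≤ m)
    (hab : ∀ z₁ z₂ : F, z₁ ^ 2 + a * z₁ * z₂ + b * z₂ ^ 2 = 0 → z₁ = 0 ∧ z₂ = 0) :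
    ∃ G : Subgroup (GO (Qm m a b)), (∀ g, g ∈ G ↔ Cfsg.PreservesSingularClassesMinus m a b g.1.1) ∧
      Ns (Qm m a b) ≤ G ∧ (∀ g, (minusData hodd hm hab).r * g ∈ G ↔ g ∉ G) ∧
      ((minusData hodd hm hab).δ ∈ G ↔ Odd m) := by
  have h2 := two_ne hodd
  -- a quadratic extension
  have hirr : Irreducible (Polynomial.X ^ 2 + Polynomial.C (b - (a / 2) ^ 2) : Polynomial F) := by
    have hd : (Polynomial.X ^ 2 + Polynomial.C (b - (a / 2) ^ 2) : Polynomial F).natDegree = 2 :=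
      Polynomial.natDegree_X_pow_add_C
    rw [Polynomial.irreducible_iff_roots_eq_zero_of_degree_le_three (by omega) (by omega)]
    refine Multiset.eq_zero_of_forall_notMem fun t ht => c_spec hab h2 ?_
    rw [Polynomial.mem_roots'] at ht
    simp only [Polynomial.IsRoot, Polynomial.eval_add, Polynomial.eval_pow, Polynomial.eval_X,
      Polynomial.eval_C] at ht
    exact ⟨t, by linear_combination (-1) * ht.2⟩
  haveI := Fact.mk hirr
  let K₀ := AdjoinRoot (Polynomial.X ^ 2 + Polynomial.C (b - (a / 2) ^ 2) : Polynomial F)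
  have hK₀ : Module.finrank F K₀ = 2 := by
    rw [(AdjoinRoot.powerBasis hirr.ne_zero).finrank, AdjoinRoot.powerBasis_dim]
    exact Polynomial.natDegree_X_pow_add_C
  obtain ⟨G, hG, hN, hmul, hδ⟩ := minus_sub (K := K₀) hodd hm hab hK₀
  refine ⟨G, fun g => ⟨fun h => ⟨K₀, inferInstance, inferInstance, hK₀, (hG g).mp h⟩, ?_⟩, hN, hmul, hδ⟩
  rintro ⟨K', iK, iA, hK', hp⟩
  obtain ⟨G', hG', hN', hmul', hδ'⟩ := @minus_sub F _ _ m a b K' iK iA hodd hm hab hK'
  rw [(minusData hodd hm hab).mem_G₀_eq hN hmul hN' hmul' (hδ.trans hδ'.symm)]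
  exact (hG' g).mpr hp

set_option maxHeartbeats 1600000 in
theorem minus_inndiag (hodd : Odd (Fintype.card F)) (hm : 3 ≤ m)
    (hab : ∀ z₁ z₂ : F, z₁ ^ 2 + a * z₁ * z₂ + b * z₂ ^ 2 = 0 → z₁ = 0 ∧ z₂ = 0) :
    ((Even m ∧ Fintype.card F % 4 = 3) → (∃ ψ : ↥(Cfsg.inndiagPOmegaMinus m F a b) →* Multiplicative (ZMod 4),
      Function.Surjective ψ ∧ ψ.ker =
        (Cfsg.Inn (Cfsg.POmega F (Cfsg.quadFormMinus m F a b))).subgroupOf (Cfsg.inndiagPOmegaMinus m F a b))) ∧
    (¬ (Even m ∧ Fintype.card F % 4 = 3) → (∃ ψ : ↥(Cfsg.inndiagPOmegaMinus m F a b) →* Multiplicative (ZMod 2),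
      Function.Surjective ψ ∧ ψ.ker =
        (Cfsg.Inn (Cfsg.POmega F (Cfsg.quadFormMinus m F a b))).subgroupOf (Cfsg.inndiagPOmegaMinus m F a b))) := by
  obtain ⟨G, hG, hN, hmul, hδ⟩ := inndiagMinus_set hodd hm hab
  have hf : Cfsg.quadFormMinus m F a b = ⇑(Qm m a b) := funext fun v => (Qm_apply m a b v).symm
  unfold Cfsg.inndiagPOmegaMinus Cfsg.autSubgroupOf Cfsg.IsInnerDiagonalAutPOmegaMinus
  let D : Data (Qm m a b) := minusData hodd hm hab
  have hn := negMem_minus hodd hm hab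
  constructor
  · intro h
    refine closure_transport hf (fun g => Cfsg.PreservesSingularClassesMinus m a b g.1) G (fun g => (hG g).symm) ?_
    exact D.inndiag_cyclic hN hmul (fun hx => Nat.not_even_iff_odd.mpr (hδ.mp hx) h.1)
      (D.orderOf_u_four (hn.mpr h))
  · intro h
    refine closure_transport hf (fun g => Cfsg.PreservesSingularClassesMinus m a b g.1) G (fun g => (hG g).symm) ?_
    by_cases hx : D.δ ∈ G
    · exact D.inndiag_two hN hmul hx fun hneg => h (hn.mp hneg)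
    · exact D.inndiag_cyclic hN hmul hx (D.orderOf_u_two fun hneg => h (hn.mp hneg))

end minus

end CfsgLib.PGO
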