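import Cfsg.Agent.Lib.PGO.Proper
import Cfsg.Agent.Lib.PSLn.FieldClass
import Cfsg.Agent.Lib.FiniteForms.Witt

/-!
The splitting of the inner-diagonal class of an involutory improper similarity.
-/

set_option autoImplicit false
set_option linter.dupNamespace false
set_option linter.unusedSectionVars false

namespace CfsgLib.PGO

open QuadraticMap Module CfsgLib.SpinorNorm CfsgLib.SpinorMatrix CfsgLib.OmegaList
open scoped Matrix

variable {F : Type*} [Field F] [Fintype F] {ι : Type} [Fintype ι] [DecidableEq ι]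
  {Q : QuadraticForm F (ι → F)}

theorem rO_mulVec {v : ι → F} (hv : Q v ≠ 0) (x : ι → F) :
    (Data.rO hv).1.1 *ᵥ x = x + (-((Q v)⁻¹ * polar (⇑Q) v x)) • v := by
  rw [Data.rO, symm_refl_matrix, PolarVec.reflection_mulVec]

theorem rO_conj (g : GO Q) {c : F} (hc0 : c ≠ 0) (hc : ∀ x, Q (g.1.1 *ᵥ x) = c * Q x) {v : ι → F} (hv : Q v ≠ 0)
    (hv' : Q (g.1.1 *ᵥ v) ≠ 0) : g.1 * (Data.rO hv).1 = (Data.rO hv').1 * g.1 := by
  refine Units.ext (Matrix.ext_of_mulVec_single fun i => ?_)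
  rw [Units.val_mul, Units.val_mul, ← Matrix.mulVec_mulVec, ← Matrix.mulVec_mulVec, rO_mulVec, rO_mulVec,
    Matrix.mulVec_add, Matrix.mulVec_smul, sim_polar g.1 hc, hc]
  congr 3
  field_simp

theorem rO_smul {v : ι → F} (hv : Q v ≠ 0) {s : F} (hs : s ≠ 0) (hsv : Q (s • v) ≠ 0) :
    Data.rO hsv = Data.rO hv := by
  refine Subtype.ext (Units.ext (Matrix.ext_of_mulVec_single fun i => ?_))
  rw [rO_mulVec, rO_mulVec, QuadraticMap.map_smul, polar_smul_left, smul_smul, smul_eq_mul, smul_eq_mul]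
  congr 2
  field_simp

theorem rO_comm {v w : ι → F} (hv : Q v ≠ 0) (hw : Q w ≠ 0) (h : polar (⇑Q) v w = 0) :
    (Data.rO hv).1 * (Data.rO hw).1 = (Data.rO hw).1 * (Data.rO hv).1 := by
  refine Units.ext (Matrix.ext_of_mulVec_single fun i => ?_)
  have h' : polar (⇑Q) w v = 0 := by rw [polar_comm, h]
  simp only [Units.val_mul, ← Matrix.mulVec_mulVec, rO_mulVec, polar_add_right, polar_smul_right, h, h',
    smul_zero, add_zero]
  abel

namespace Data

variable (D : Data Q)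
include D

theorem pair_notMem {v w : ι → F} (hv : Q v ≠ 0) (hw : Q w ≠ 0) (h : ¬ IsSquare (Q v * Q w)) :
    rO hv * rO hw ∉ Cfsg.Omega F ⇑Q := by
  rw [omega_iff_list Q D.hc D.hQ (rO hv * rO hw) [v, w] (by simp [hv, hw]) (by
    show ((isoEquiv Q).symm (refl Q hv)).1.1 * ((isoEquiv Q).symm (refl Q hw)).1.1 = _
    rw [symm_refl_matrix, symm_refl_matrix]; simp [RP])]
  exact fun h' => h (by simpa [QP] using h'.2)

theorem pair_det {v w : ι → F} (hv : Q v ≠ 0) (hw : Q w ≠ 0) : (rO hv * rO hw).1.1.det = 1 := by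
  show ((rO hv).1.1 * (rO hw).1.1).det = 1
  rw [Matrix.det_mul, rO, rO, det_refl, det_refl, neg_one_mul, neg_neg]

theorem iso_Ns {o : Cfsg.isometryGroup F ⇑Q} (h : POmegaCard.NegMem F ⇑Q) (ho : toGO o ∈ Ns Q) :
    o ∈ Cfsg.Omega F ⇑Q := by
  obtain ⟨c, _, ⟨p, hp, rfl⟩, hz⟩ := ho
  obtain ⟨g, hg, hg1⟩ := h
  have h1 := congrArg (fun g : GL ι F => Q (g.1 *ᵥ D.a)) hz
  rw [smul_sq (show (Cfsg.isometryGroup F ⇑Q).subtype p ∈ Cfsg.isometryGroup F ⇑Q from p.2),
    show Q ((toGO o).1.1 *ᵥ D.a) = Q D.a from o.2 _ D.a] at h1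
  rcases mul_self_eq_one_iff.mp (mul_right_cancel₀ D.ha (show (c : F) * c * Q D.a = 1 * Q D.a by
    rw [← h1, one_mul])) with hc | hc
  · have : o = p := Subtype.ext (by
      rw [show c = 1 from Units.ext hc, map_one, one_mul] at hz; exact hz)
    rwa [this]
  · have : o = g * p := Subtype.ext (Units.ext (by
      have h2 := congrArg Units.val hz
      rw [Units.val_mul, sc_val, hc] at h2
      show o.1.1 = g.1.1 * p.1.1
      rw [hg1]
      simpa [toGO] using h2))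
    exact this ▸ mul_mem hg hp

theorem Hs_cases {v w : ι → F} (hv : Q v ≠ 0) (hw : Q w ≠ 0) (hns : ¬ IsSquare (Q v * Q w)) {h : GO Q}
    (hh : h ∈ Hs Q) : h ∈ Ns Q ∨ h * (toGO (rO hv * rO hw))⁻¹ ∈ Ns Q := by
  set e := toGO (rO hv * rO hw) with he
  by_cases hneg : POmegaCard.NegMem F ⇑Q
  · have heH : e ∈ Hs Q := mem_Hs_of_det (D.pair_det hv hw)
    have heN : e ∉ Ns Q := fun h' => D.pair_notMem hv hw hns (D.iso_Ns hneg h')
    rcases D.Hs_split hh with h1 | h1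
    · exact Or.inl h1
    refine Or.inr ?_
    have h2 := (D.Hs_split heH).resolve_left heN
    have h3 : e * (toGO D.z₀)⁻¹ = e * (toGO D.z₀)⁻¹ := rfl
    have h4 := mul_mem h1 (inv_mem h2)
    rwa [_root_.mul_inv_rev, inv_inv, mul_assoc, inv_mul_cancel_left] at h4
  · refine Or.inl ?_
    rcases D.Hs_split hh with h1 | h1
    · exact h1
    · simpa using mul_mem h1 (D.z_mem_iff.mpr hneg)

theorem exists_eig_pair {o : GO Q} (ho : ∀ x, Q (o.1.1 *ᵥ x) = Q x) (hsq : o.1.1 * o.1.1 = 1) :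
    ∃ (v w : ι → F) (s : F), s ≠ 0 ∧ Q v ≠ 0 ∧ Q w ≠ 0 ∧ ¬ IsSquare (Q v * Q w) ∧
      o.1.1 *ᵥ v = s • v ∧ o.1.1 *ᵥ w = s • w := by
  obtain ⟨-, hsum⟩ := invol_det D.h2 hsq
  obtain ⟨s, hs, hd⟩ : ∃ s : F, (s = 1 ∨ s = -1) ∧
      2 ≤ finrank F ↥(LinearMap.ker (o.1.1.mulVecLin - s • LinearMap.id)) := by
    by_contra hc
    push Not at hc
    have h1 := hc 1 (Or.inl rfl)
    have h2 := hc (-1) (Or.inr rfl)
    rw [one_smul] at h1
    rw [show o.1.1.mulVecLin - (-1 : F) • LinearMap.id = o.1.1.mulVecLin + LinearMap.id by rw [neg_one_smul F (LinearMap.id : (ι → F) →ₗ[F] ι → F), sub_neg_eq_add]] at h2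
    have := D.hn
    omega
  have hss : s * s = 1 := by rcases hs with rfl | rfl <;> simp
  set W := LinearMap.ker (o.1.1.mulVecLin - s • LinearMap.id)
  have hW : ∀ x, x ∈ W ↔ o.1.1 *ᵥ x = s • x := fun x => by simp [W, sub_eq_zero]
  have hnd : (polarBilin (Q.comp W.subtype)).Nondegenerate := by
    have key : ∀ x : W, (∀ y : W, polar (⇑Q) x.1 y.1 = 0) → x = 0 := by
      intro x hx
      have hall : ∀ y, polar (⇑Q) x.1 y = 0 := by
        intro y
        have h1 : y + s • (o.1.1 *ᵥ y) ∈ W := by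
          rw [hW, Matrix.mulVec_add, Matrix.mulVec_smul, Matrix.mulVec_mulVec, hsq, Matrix.one_mulVec,
            smul_add, smul_smul, hss, one_smul, add_comm]
        have h2 := hx ⟨_, h1⟩
        rw [polar_add_right, polar_smul_right, smul_eq_mul] at h2
        have h3 : polar (⇑Q) x.1 (o.1.1 *ᵥ y) = s * polar (⇑Q) x.1 y := by
          have h4 := sim_polar o.1 (c := 1) (fun z => by rw [ho, one_mul]) x.1 y
          rw [(hW _).mp x.2, polar_smul_left, smul_eq_mul, one_mul] at h4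
          linear_combination s * h4 - polar (⇑Q) x.1 (o.1.1 *ᵥ y) * hss
        rw [h3, ← mul_assoc, hss, one_mul, ← two_mul] at h2
        exact (mul_eq_zero.mp h2).resolve_left D.h2
      exact Subtype.ext (D.hQ.1 x.1 hall)
    refine ⟨fun x hx => key x fun y => ?_, fun y hy => key y fun x => ?_⟩
    · have := hx y
      simpa [polar, QuadraticMap.comp_apply] using this
    · have := hy x
      rw [polar_comm]
      simpa [polar, QuadraticMap.comp_apply] using this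
  obtain ⟨v, hv⟩ := universal (Q.comp W.subtype) D.h2 hnd hd (c := 1) one_ne_zero
  obtain ⟨w, hw⟩ := universal (Q.comp W.subtype) D.h2 hnd hd (c := (D.ν : F)) D.ν.ne_zero
  have hv' : Q v.1 = 1 := hv
  have hw' : Q w.1 = (D.ν : F) := hw
  exact ⟨v.1, w.1, s, fun h => by rw [h, zero_mul] at hss; exact zero_ne_one hss, by rw [hv']; exact one_ne_zero,
    by rw [hw']; exact D.ν.ne_zero, by rw [hv', hw', one_mul]; exact D.hν, (hW _).mp v.2, (hW _).mp w.2⟩

theorem exists_orth {g : GO Q} {c : Fˣ} (hc : ∀ x, Q (g.1.1 *ᵥ x) = (c : F) * Q x) (hns : ¬ IsSquare (c : F))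
    (hsq : g.1.1 * g.1.1 = (c : F) • 1) : ∃ v, Q v ≠ 0 ∧ polar (⇑Q) v (g.1.1 *ᵥ v) = 0 := by
  set L := g.1.1.mulVecLin with hL
  have hLL : ∀ x, g.1.1 *ᵥ (g.1.1 *ᵥ x) = (c : F) • x := fun x => by
    rw [Matrix.mulVec_mulVec, hsq, Matrix.smul_mulVec, Matrix.one_mulVec]
  have hsym : ∀ x y, polar (⇑Q) x (g.1.1 *ᵥ y) = polar (⇑Q) (g.1.1 *ᵥ x) y := fun x y => by
    have h := sim_polar g.1 hc x (g.1.1 *ᵥ y)
    rw [hLL, polar_smul_right, smul_eq_mul] at h
    exact (mul_left_cancel₀ c.ne_zero h).symm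
  let T : QuadraticForm F (ι → F) := LinearMap.BilinMap.toQuadraticMap ((polarBilin Q).compl₂ L)
  have hT : ∀ x, T x = polar (⇑Q) x (g.1.1 *ᵥ x) := fun x => rfl
  obtain ⟨v, hv0, hv⟩ := CfsgLib.FiniteForms.exists_singular T (by
    rw [Module.finrank_fintype_fun_eq_card]; have := D.hn; omega)
  rw [hT] at hv
  by_cases hQv : Q v = 0
  swap
  · exact ⟨v, hQv, hv⟩
  have hli : ∀ s t : F, s • v + t • (g.1.1 *ᵥ v) = 0 → s = 0 ∧ t = 0 := by
    intro s t h
    rcases eq_or_ne t 0 with rfl | ht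
    · rw [zero_smul, add_zero] at h
      exact ⟨(smul_eq_zero.mp h).resolve_right hv0, rfl⟩
    · exfalso
      have h1 : g.1.1 *ᵥ v = (-(s / t)) • v := by
        apply smul_right_injective (ι → F) ht
        show t • (g.1.1 *ᵥ v) = t • (-(s / t)) • v
        rw [smul_smul, mul_neg, mul_div_cancel₀ _ ht, neg_smul]
        exact eq_neg_of_add_eq_zero_right h
      have h2 := hLL v
      rw [h1, Matrix.mulVec_smul, h1, smul_smul] at h2
      exact hns ⟨-(s / t), (smul_left_injective F hv0 h2).symm⟩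
  obtain ⟨w, hw1, hw2⟩ : ∃ w, polar (⇑Q) v w = 1 ∧ polar (⇑Q) (g.1.1 *ᵥ v) w = 0 := by
    let P : (ι → F) →ₗ[F] F × F := (polarBilin Q v).prod (polarBilin Q (g.1.1 *ᵥ v))
    have hsurj : Function.Surjective P := by
      rw [← LinearMap.range_eq_top]
      by_contra hne
      obtain ⟨φ, hφ0, hφ⟩ := Submodule.exists_le_ker_of_lt_top _ (lt_top_iff_ne_top.mpr hne)
      have hz : ∀ w, φ (1, 0) * polar (⇑Q) v w + φ (0, 1) * polar (⇑Q) (g.1.1 *ᵥ v) w = 0 := by
        intro w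
        have := hφ ⟨w, rfl⟩
        rw [LinearMap.mem_ker] at this
        have e : P w = polar (⇑Q) v w • ((1, 0) : F × F) + polar (⇑Q) (g.1.1 *ᵥ v) w • ((0, 1) : F × F) := by
          simp [P]
        rw [e, map_add, map_smul, map_smul, smul_eq_mul, smul_eq_mul] at this
        linear_combination this
      obtain ⟨h1, h2⟩ := hli (φ (1, 0)) (φ (0, 1)) (D.hQ.1 _ fun w => by
        rw [polarBilin_apply_apply, polar_add_left, polar_smul_left, polar_smul_left, smul_eq_mul, smul_eq_mul]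
        exact hz w)
      refine hφ0 (LinearMap.ext fun p => ?_)
      have e : p = p.1 • ((1, 0) : F × F) + p.2 • ((0, 1) : F × F) := by simp
      rw [e, map_add, map_smul, map_smul, h1, h2, smul_zero, smul_zero, add_zero, LinearMap.zero_apply]
    obtain ⟨w, hw⟩ := hsurj (1, 0)
    exact ⟨w, congrArg Prod.fst hw, congrArg Prod.snd hw⟩
  set t := -(polar (⇑Q) w (g.1.1 *ᵥ w)) / (2 * (c : F))
  have ht : 2 * (c : F) * t = -(polar (⇑Q) w (g.1.1 *ᵥ w)) := by
    have := D.h2; have := c.ne_zero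
    simp only [t]; field_simp
  have e1 : polar (⇑Q) w v = 1 := by rw [polar_comm]; exact hw1
  have e2 : polar (⇑Q) w (g.1.1 *ᵥ v) = 0 := by rw [polar_comm]; exact hw2
  have e3 : Q (g.1.1 *ᵥ v) = 0 := by rw [hc, hQv, mul_zero]
  have e4 : polar (⇑Q) v (g.1.1 *ᵥ w) = 0 := by rw [hsym]; exact hw2
  have e5 : polar (⇑Q) (g.1.1 *ᵥ v) (g.1.1 *ᵥ w) = c := by rw [sim_polar g.1 hc, hw1, mul_one]
  have e6 : polar (⇑Q) v v = 0 := by rw [PolarVec.polar_self, hQv, mul_zero]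
  have e7 : polar (⇑Q) (g.1.1 *ᵥ v) v = 0 := by rw [polar_comm]; exact hv
  have e8 : polar (⇑Q) (g.1.1 *ᵥ v) (g.1.1 *ᵥ v) = 0 := by rw [PolarVec.polar_self, e3, mul_zero]
  refine ⟨w + (1 - Q w) • v + t • (g.1.1 *ᵥ v), ?_, ?_⟩
  · rw [PolarVec.map_add, PolarVec.map_add, QuadraticMap.map_smul, QuadraticMap.map_smul, hQv, e3,
      polar_add_left, polar_smul_right, polar_smul_right, polar_smul_left, polar_smul_right, e1, e2, hv]
    simp
  · simp only [Matrix.mulVec_add, Matrix.mulVec_smul, hLL, polar_add_left, polar_add_right, polar_smul_left,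
      polar_smul_right, smul_eq_mul, e1, e2, hv, e4, e5, e6, e7, e8, hw1, hw2]
    linear_combination ht

/-- An isometry of determinant one and nonsquare spinor norm commuting with an improper involution. -/
theorem exists_pair {g : GO Q} (hg : g ∉ propSub Q) {c : Fˣ} (hc : ∀ x, Q (g.1.1 *ᵥ x) = (c : F) * Q x)
    (hsq : g.1.1 * g.1.1 = (c : F) • 1) :
    ∃ (v w : ι → F) (hv : Q v ≠ 0) (hw : Q w ≠ 0), ¬ IsSquare (Q v * Q w) ∧
      g * toGO (rO hv * rO hw) = toGO (rO hv * rO hw) * g := by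
  by_cases hsqc : IsSquare (c : F)
  · obtain ⟨t, ht⟩ := hsqc
    have ht0 : t ≠ 0 := fun h => c.ne_zero (by rw [ht, h, zero_mul])
    let u : Fˣ := Units.mk0 t ht0
    let o : GO Q := ⟨sc u⁻¹, sc_mem Q _⟩ * g
    have hov : ∀ x, o.1.1 *ᵥ x = t⁻¹ • (g.1.1 *ᵥ x) := fun x => by
      show (sc u⁻¹ * g.1).1 *ᵥ x = _
      rw [Units.val_mul, ← Matrix.mulVec_mulVec, sc_mulVec, Units.val_inv_eq_inv_val]; rfl
    have ho : ∀ x, Q (o.1.1 *ᵥ x) = Q x := fun x => by
      rw [hov, QuadraticMap.map_smul, hc, smul_eq_mul, ht]; field_simp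
    have hoo : o.1.1 * o.1.1 = 1 := Matrix.ext_of_mulVec_single fun i => by
      rw [← Matrix.mulVec_mulVec, hov, hov, Matrix.mulVec_smul, Matrix.mulVec_mulVec, hsq, Matrix.smul_mulVec,
        smul_smul, smul_smul, ht, Matrix.one_mulVec, show t⁻¹ * t⁻¹ * (t * t) = 1 by field_simp, one_smul]
    obtain ⟨v, w, s, hs, hv, hw, hns, hev, hew⟩ := D.exists_eig_pair ho hoo
    refine ⟨v, w, hv, hw, hns, ?_⟩
    have key : ∀ (x : ι → F) (hx : Q x ≠ 0), o.1.1 *ᵥ x = s • x → g.1 * (rO hx).1 = (rO hx).1 * g.1 := by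
      intro x hx he
      have hgx : g.1.1 *ᵥ x = (t * s) • x := by
        rw [mul_smul, ← he, hov, smul_smul, mul_inv_cancel₀ ht0, one_smul]
      have hgx' : Q (g.1.1 *ᵥ x) ≠ 0 := by rw [hc]; exact mul_ne_zero c.ne_zero hx
      rw [rO_conj g c.ne_zero hc hx hgx']
      have hts : Q ((t * s) • x) ≠ 0 := hgx ▸ hgx'
      have : rO hgx' = rO hts := by congr 1
      rw [this, rO_smul hx (mul_ne_zero ht0 hs) hts]
    refine Subtype.ext ?_
    show g.1 * ((rO hv).1 * (rO hw).1) = (rO hv).1 * (rO hw).1 * g.1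
    rw [← mul_assoc, key v hv hev, mul_assoc, key w hw hew, mul_assoc]
  · obtain ⟨v, hv, hvg⟩ := D.exists_orth hc hsqc hsq
    have hgv : Q (g.1.1 *ᵥ v) ≠ 0 := by rw [hc]; exact mul_ne_zero c.ne_zero hv
    refine ⟨v, g.1.1 *ᵥ v, hv, hgv, ?_, ?_⟩
    · rw [hc]
      rintro ⟨r, hr⟩
      exact hsqc ⟨r / Q v, by field_simp; linear_combination hr⟩
    have hggv : g.1.1 *ᵥ (g.1.1 *ᵥ v) = (c : F) • v := by
      rw [Matrix.mulVec_mulVec, hsq, Matrix.smul_mulVec, Matrix.one_mulVec]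
    have hg2 : Q (g.1.1 *ᵥ (g.1.1 *ᵥ v)) ≠ 0 := by rw [hc]; exact mul_ne_zero c.ne_zero hgv
    have hcv : Q ((c : F) • v) ≠ 0 := hggv ▸ hg2
    have h2 : (rO hg2).1 = (rO hv).1 := by
      have : rO hg2 = rO hcv := by congr 1
      rw [this, rO_smul hv c.ne_zero hcv]
    refine Subtype.ext ?_
    show g.1 * ((rO hv).1 * (rO hgv).1) = (rO hv).1 * (rO hgv).1 * g.1
    rw [← mul_assoc, rO_conj g c.ne_zero hc hv hgv, mul_assoc, rO_conj g c.ne_zero hc hgv hg2, h2, ← mul_assoc,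
      rO_comm hv hgv hvg]

theorem not_commute_mod (hneg : POmegaCard.NegMem F ⇑Q) {h g : GO Q} (hh : h ∈ propSub Q) (hhn : h ∉ Hs Q)
    (hg : g ∉ propSub Q) :
    (QuotientGroup.mk h : GO Q ⧸ Ns Q) * QuotientGroup.mk g ≠ QuotientGroup.mk g * QuotientGroup.mk h := by
  intro hcomm
  set z := D.x * D.y * (D.x * D.y) with hz
  have hz1 : z ≠ 1 := by
    rw [hz, u_sq, Ne, QuotientGroup.eq_one_iff]; exact D.z_notMem_of_negMem hneg
  have hu4 : z * z = 1 := by
    have h4 : (D.x * D.y) ^ 4 = 1 := D.orderOf_u_four hneg ▸ pow_orderOf_eq_one _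
    rw [hz, ← h4]; simp only [pow_succ, pow_zero, one_mul, mul_assoc]
  have hxinv : D.x⁻¹ = D.x := inv_eq_of_mul_eq_one_right D.x_sq
  have hzu : Commute z (D.x * D.y) := ((Commute.refl _).mul_left (Commute.refl _))
  have hzx : Commute z D.x := by
    have e : D.x * z * D.x = z := by
      calc D.x * z * D.x = (D.x * (D.x * D.y) * D.x) * (D.x * (D.x * D.y) * D.x) := by
            rw [hz]; simp only [mul_assoc]
            rw [← mul_assoc D.x D.x (D.x * _), D.x_sq, one_mul]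
        _ = z⁻¹ := by rw [D.conj_u, hz, ← _root_.mul_inv_rev (D.x * D.y) (D.x * D.y)]
        _ = z := inv_eq_of_mul_eq_one_right hu4
    have e2 := congrArg (· * D.x) e
    rw [mul_assoc (D.x * z), D.x_sq, mul_one] at e2
    exact e2.symm
  have hy' : D.y = D.x * (D.x * D.y) := by rw [← mul_assoc, D.x_sq, one_mul]
  have hzy : Commute z D.y := hy' ▸ hzx.mul_right hzu
  -- cosets
  have hH : ∀ k, k ∈ Hs Q → ∃ z' : GO Q ⧸ Ns Q, (Commute z' D.x ∧ Commute z' D.y) ∧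
      (QuotientGroup.mk k : GO Q ⧸ Ns Q) = z' := fun k hk => by
    rcases D.mk_Hs hk with e | e
    · exact ⟨1, ⟨Commute.one_left _, Commute.one_left _⟩, e⟩
    · exact ⟨z, ⟨hzx, hzy⟩, e⟩
  have hδr : ∀ k, D.δ * k ∈ propSub Q → (k ∈ propSub Q ↔ D.δ ∈ propSub Q) := fun k hk =>
    ⟨fun h1 => (mul_mem_cancel_right h1).mp hk, fun h1 => (mul_mem_cancel_left h1).mp hk⟩
  have hrm : ∀ k, D.r * k ∈ Hs Q → k ∉ propSub Q := fun k hk => (D.prop_mul k).mp (D.Hs_le_prop hk)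
  have hrd : ∀ k, D.r * (D.δ * k) ∈ Hs Q → D.δ * k ∉ propSub Q := fun k hk => hrm _ hk
  have shape : ∀ k, k ∉ Hs Q → ∃ t z' : GO Q ⧸ Ns Q, (Commute z' D.x ∧ Commute z' D.y) ∧
      (QuotientGroup.mk k : GO Q ⧸ Ns Q) = t * z' ∧
      ((t = D.x ∧ k ∉ propSub Q) ∨ (t = D.y ∧ (k ∈ propSub Q ↔ D.δ ∈ propSub Q)) ∨
        (t = D.y * D.x ∧ ¬ (k ∈ propSub Q ↔ D.δ ∈ propSub Q))) := by
    intro k hk
    rcases D.cover k with h1 | h1 | h1 | h1
    · exact absurd h1 hk
    · obtain ⟨z', hz', e⟩ := hH _ h1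
      refine ⟨D.x, z', hz', ?_, Or.inl ⟨rfl, hrm k h1⟩⟩
      rw [← e, QuotientGroup.mk_mul, show (QuotientGroup.mk D.r : GO Q ⧸ Ns Q) = D.x from rfl, ← mul_assoc,
        D.x_sq, one_mul]
    · obtain ⟨z', hz', e⟩ := hH _ h1
      refine ⟨D.y, z', hz', ?_, Or.inr (Or.inl ⟨rfl, hδr k (D.Hs_le_prop h1)⟩)⟩
      rw [← e, QuotientGroup.mk_mul, show (QuotientGroup.mk D.δ : GO Q ⧸ Ns Q) = D.y from rfl, ← mul_assoc,
        D.y_sq, one_mul]
    · obtain ⟨z', hz', e⟩ := hH _ h1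
      refine ⟨D.y * D.x, z', hz', ?_, Or.inr (Or.inr ⟨rfl, ?_⟩)⟩
      · rw [← e, QuotientGroup.mk_mul, QuotientGroup.mk_mul,
          show (QuotientGroup.mk D.r : GO Q ⧸ Ns Q) = D.x from rfl,
          show (QuotientGroup.mk D.δ : GO Q ⧸ Ns Q) = D.y from rfl, ← mul_assoc, ← mul_assoc,
          mul_assoc D.y, D.x_sq, mul_one, D.y_sq, one_mul]
      · intro hiff
        refine hrd k h1 ?_
        by_cases hd : D.δ ∈ propSub Q
        · exact mul_mem hd (hiff.mpr hd)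
        · have hk' := fun h => hd (hiff.mp h)
          have h3 := mul_mem ((D.prop_mul D.δ).mpr hd) ((D.prop_mul k).mpr hk')
          by_contra hc
          have h4 : D.r * (D.δ * k) ∈ propSub Q := (D.prop_mul _).mpr hc
          have h5 : D.r * D.δ ∈ propSub Q := (D.prop_mul _).mpr hd
          exact hk' ((mul_mem_cancel_left h5).mp (by rw [mul_assoc]; exact h4))
  have hgn : g ∉ Hs Q := fun h' => hg (D.Hs_le_prop h')
  obtain ⟨t, z1, hz1', e1, ht⟩ := shape h hhn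
  obtain ⟨s, z2, hz2', e2, hs⟩ := shape g hgn
  have htx : t = D.x ∨ t = D.y ∨ t = D.y * D.x := by
    rcases ht with ⟨a, -⟩ | ⟨a, -⟩ | ⟨a, -⟩
    exacts [Or.inl a, Or.inr (Or.inl a), Or.inr (Or.inr a)]
  have hsx : s = D.x ∨ s = D.y ∨ s = D.y * D.x := by
    rcases hs with ⟨a, -⟩ | ⟨a, -⟩ | ⟨a, -⟩
    exacts [Or.inl a, Or.inr (Or.inl a), Or.inr (Or.inr a)]
  have cz : ∀ {a z' : GO Q ⧸ Ns Q}, (a = D.x ∨ a = D.y ∨ a = D.y * D.x) →
      (Commute z' D.x ∧ Commute z' D.y) → Commute z' a := by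
    rintro a z' (rfl | rfl | rfl) ⟨hx, hy⟩
    exacts [hx, hy, hy.mul_right hx]
  have hz12 : Commute z1 z2 := by
    have hk : ∀ {z' : GO Q ⧸ Ns Q}, (Commute z' D.x ∧ Commute z' D.y) → ∀ q, Commute z' q := by
      intro z' hz' q
      have hle : Subgroup.closure ({D.x, D.x * D.y} : Set (GO Q ⧸ Ns Q)) ≤ Subgroup.centralizer {z'} := by
        rw [Subgroup.closure_le]
        rintro _ (rfl | rfl)
        · exact Subgroup.mem_centralizer_singleton_iff.mpr hz'.1.symm.eq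
        · exact Subgroup.mem_centralizer_singleton_iff.mpr (hz'.1.mul_right hz'.2).symm.eq
      exact (Subgroup.mem_centralizer_singleton_iff.mp (hle (D.generate ▸ Subgroup.mem_top q))).symm
    exact hk hz1' z2
  have hts : Commute t s := by
    rw [e1, e2] at hcomm
    have l1 : t * z1 * (s * z2) = t * s * (z1 * z2) := mul4 (cz hsx hz1')
    have l2 : s * z2 * (t * z1) = s * t * (z1 * z2) := by rw [mul4 (cz htx hz2'), hz12.eq]
    rw [l1, l2] at hcomm
    exact mul_right_cancel hcomm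
  have hnc : ¬ Commute D.x D.y := fun hc => hz1 (by
    rw [hz, mul_assoc, ← mul_assoc D.y, ← hc.eq, mul_assoc, D.y_sq, mul_one, D.x_sq])
  rcases ht with ⟨rfl, hn⟩ | ⟨rfl, hn⟩ | ⟨rfl, hn⟩
  · exact hn hh
  · rcases hs with ⟨rfl, hm⟩ | ⟨rfl, hm⟩ | ⟨rfl, hm⟩
    · exact hnc hts.symm
    · exact hg (hm.mpr (hn.mp hh))
    · refine hnc ?_
      have e := hts.eq
      rw [mul_assoc D.y D.x D.y] at e
      exact (mul_left_cancel e).symm
  · rcases hs with ⟨rfl, hm⟩ | ⟨rfl, hm⟩ | ⟨rfl, hm⟩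
    · refine hnc ?_
      have e := hts.eq
      rw [← mul_assoc D.x D.y D.x] at e
      exact (mul_right_cancel e).symm
    · refine hnc ?_
      have e := hts.eq
      rw [mul_assoc D.y D.x D.y] at e
      exact (mul_left_cancel e)
    · exact hn ⟨fun _ => not_not.mp fun hd => hm ⟨fun h' => absurd h' hg, fun h' => absurd h' hd⟩, fun _ => hh⟩

theorem prop_iff_mult {h : GO Q} (hh : h ∈ propSub Q) (hhn : h ∉ Hs Q) :
    ∃ d : Fˣ, ¬ IsSquare (d : F) ∧ ∀ x, Q (h.1.1 *ᵥ x) = (d : F) * Q x := by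
  obtain ⟨d, hd, hdet⟩ := hh
  refine ⟨d, ?_, hd⟩
  rintro ⟨t, ht⟩
  have ht0 : t ≠ 0 := fun e => d.ne_zero (by rw [ht, e, zero_mul])
  let u : Fˣ := Units.mk0 t ht0
  have ho : sc u⁻¹ * h.1 ∈ Cfsg.isometryGroup F ⇑Q := fun x _ => by
    show Q ((sc u⁻¹ * h.1).1 *ᵥ x) = Q x
    rw [Units.val_mul, ← Matrix.mulVec_mulVec, sc_mulVec, QuadraticMap.map_smul, smul_eq_mul, hd, ht,
      Units.val_inv_eq_inv_val, Units.val_mk0]
    field_simp
  refine hhn ⟨u, sc u⁻¹ * h.1, mem_SO (o := ⟨_, ho⟩).mpr ?_, ?_⟩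
  · show (sc u⁻¹ * h.1).1.det = 1
    rw [Units.val_mul, Matrix.det_mul, sc_val, Matrix.det_smul, Matrix.det_one, mul_one, hdet, D.card_eq, pow_mul,
      ← mul_pow, ht, Units.val_inv_eq_inv_val, Units.val_mk0, show t⁻¹ ^ 2 * (t * t) = 1 by field_simp, one_pow]
  · rw [← mul_assoc, ← map_mul, mul_inv_cancel, map_one, one_mul]

theorem not_commute_even (hk : Even (half ι)) {h g : GO Q} (hh : h ∈ propSub Q) (hhn : h ∉ Hs Q)
    (hg : g ∉ propSub Q) {c : Fˣ} (hc : ∀ x, Q (g.1.1 *ᵥ x) = (c : F) * Q x)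
    (hsq : g.1.1 * g.1.1 = (c : F) • 1) : Θ Q h * Θ Q g ≠ Θ Q g * Θ Q h := by
  intro hcomm
  obtain ⟨d, hdns, hd⟩ := D.prop_iff_mult hh hhn
  have hcs : IsSquare (c : F) := by
    by_contra hns
    refine hg ((D.mem_prop_iff hc).mpr ?_)
    rw [det_of_sq_nonsquare D.h2 hsq hns D.card_eq, hk.neg_pow]
  obtain ⟨t, ht⟩ := hcs
  have ht0 : t ≠ 0 := fun e => c.ne_zero (by rw [ht, e, zero_mul])
  have hker : (g * h)⁻¹ * (h * g) ∈ (Θ Q).ker := by
    rw [MonoidHom.mem_ker, map_mul, map_inv, map_mul, map_mul, hcomm, inv_mul_cancel]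
  obtain ⟨e, he⟩ := scalar_of_ker Q D.hn D.hQ D.h2 D.hv D.hp hker
  have hhg : h.1.1 * g.1.1 = (e : F) • (g.1.1 * h.1.1) := by
    have h1 : (h * g).1 = (g * h).1 * sc e := by
      rw [← he]
      exact (congrArg Subtype.val (mul_inv_cancel_left (g * h) (h * g))).symm
    have h2 := congrArg Units.val h1
    simpa [sc_val] using h2
  have he2 : (e : F) * e = 1 := by
    have h1 := congrArg (fun M : Matrix ι ι F => Q (M *ᵥ D.a)) hhg
    simp only [Matrix.smul_mulVec, ← Matrix.mulVec_mulVec, QuadraticMap.map_smul, smul_eq_mul, hd, hc] at h1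
    have := D.ha; have := c.ne_zero; have := d.ne_zero
    exact mul_right_cancel₀ (mul_ne_zero (mul_ne_zero c.ne_zero d.ne_zero) D.ha) (by linear_combination (-1) * h1)
  set A := t⁻¹ • g.1.1 with hA
  have hAA : A * A = 1 := by
    rw [hA, Matrix.smul_mul, Matrix.mul_smul, smul_smul, hsq, smul_smul, ht,
      show t⁻¹ * t⁻¹ * (t * t) = 1 by field_simp, one_smul]
  have hAQ : ∀ x, Q (A *ᵥ x) = Q x := fun x => by
    rw [hA, Matrix.smul_mulVec, QuadraticMap.map_smul, hc, smul_eq_mul, ht]; field_simp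
  obtain ⟨hdA, hsum⟩ := invol_det D.h2 hAA
  have hdetA : A.det = -1 := by
    have hne : A.det ≠ 1 := fun h1 => hg ((D.mem_prop_iff hc).mpr (by
      have e : g.1.1 = t • A := by rw [hA, smul_smul, mul_inv_cancel₀ ht0, one_smul]
      rw [e, Matrix.det_smul, h1, mul_one, D.card_eq, pow_mul, ht, pow_two]))
    rcases neg_one_pow_eq_or F (finrank F ↥(LinearMap.ker (A.mulVecLin + LinearMap.id))) with h1 | h1
    · exact absurd (hdA.trans h1) hne
    · exact hdA.trans h1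
  set Vp := LinearMap.ker (A.mulVecLin - LinearMap.id)
  set Vm := LinearMap.ker (A.mulVecLin + LinearMap.id)
  have hp : ∀ x, x ∈ Vp ↔ A *ᵥ x = x := fun x => by simp [Vp, sub_eq_zero]
  have hm : ∀ x, x ∈ Vm ↔ A *ᵥ x = -x := fun x => by simp [Vm, add_eq_zero_iff_eq_neg]
  have hodd : Odd (finrank F Vm) := by
    rcases Nat.even_or_odd (finrank F Vm) with h1 | h1
    · rw [hdA, h1.neg_one_pow] at hdetA
      exact absurd (show (2 : F) = 0 by linear_combination hdetA) D.h2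
    · exact h1
  have hAh : ∀ x, A *ᵥ (h.1.1 *ᵥ x) = (e : F) • (h.1.1 *ᵥ (A *ᵥ x)) := by
    intro x
    rw [hA, Matrix.smul_mulVec, Matrix.smul_mulVec, Matrix.mulVec_smul, Matrix.mulVec_mulVec, Matrix.mulVec_mulVec,
      hhg, Matrix.smul_mulVec, smul_smul, smul_smul,
      show (e : F) * t⁻¹ * (e : F) = t⁻¹ by linear_combination t⁻¹ * he2]
  rcases mul_self_eq_one_iff.mp he2 with h1 | h1
  · -- `h` preserves the odd-dimensional eigenspace
    have hmap : ∀ x ∈ Vm, h.1.1.mulVecLin x ∈ Vm := fun x hx => by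
      rw [Matrix.mulVecLin_apply, hm, hAh, h1, one_smul, (hm x).mp hx, Matrix.mulVec_neg]
    have hnd : ((polarBilin Q).compl₁₂ Vm.subtype Vm.subtype).Nondegenerate := by
      have key : ∀ x : Vm, (∀ y : Vm, polar (⇑Q) x.1 y.1 = 0) → x = 0 := by
        intro x hx
        refine Subtype.ext (D.hQ.1 x.1 fun y => ?_)
        have hy : y - A *ᵥ y ∈ Vm := by
          rw [hm, Matrix.mulVec_sub, Matrix.mulVec_mulVec, hAA, Matrix.one_mulVec, neg_sub]
        have h2 := hx ⟨_, hy⟩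
        rw [polar_sub_right] at h2
        have h3 : polar (⇑Q) (A *ᵥ x.1) (A *ᵥ y) = polar (⇑Q) x.1 y := by
          simp only [polar, ← Matrix.mulVec_add, hAQ]
        rw [(hm _).mp x.2, polar_neg_left] at h3
        exact (mul_eq_zero.mp (show (2 : F) * polar (⇑Q) x.1 y = 0 by linear_combination h2 - h3)).resolve_left D.h2
      exact ⟨fun x hx => key x hx, fun y hy => key y fun x => (polar_comm _ y.1 x.1).trans (hy x)⟩
    have hdet := det_sq_of_comp _ hnd (h.1.1.mulVecLin.restrict hmap) (c := (d : F))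
      fun x y => sim_polar h.1 hd x.1 y.1
    obtain ⟨j, hj⟩ := hodd
    refine hdns ⟨LinearMap.det (h.1.1.mulVecLin.restrict hmap) / (d : F) ^ j, ?_⟩
    rw [hj, pow_succ (d : F) (2 * j), pow_mul'] at hdet
    field_simp
    linear_combination (-1) * hdet
  · -- `h` interchanges the eigenspaces
    have hpm : ∀ x ∈ Vp, h.1.1.mulVecLin x ∈ Vm := fun x hx => by
      rw [Matrix.mulVecLin_apply, hm, hAh, h1, neg_smul, one_smul, (hp x).mp hx]
    have hmp : ∀ x ∈ Vm, h.1.1.mulVecLin x ∈ Vp := fun x hx => by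
      rw [Matrix.mulVecLin_apply, hp, hAh, h1, neg_smul, one_smul, (hm x).mp hx, Matrix.mulVec_neg, neg_neg]
    have hinj : Function.Injective h.1.1.mulVecLin := Matrix.mulVec_injective_of_isUnit h.1.isUnit
    have l1 := LinearMap.finrank_le_finrank_of_injective
      (f := h.1.1.mulVecLin.restrict hpm) fun a b hab => Subtype.ext (hinj (congrArg Subtype.val hab))
    have l2 := LinearMap.finrank_le_finrank_of_injective
      (f := h.1.1.mulVecLin.restrict hmp) fun a b hab => Subtype.ext (hinj (congrArg Subtype.val hab))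
    have hk2 := D.card_eq
    have : finrank F Vm = half ι := by omega
    rw [this] at hodd
    exact Nat.not_even_iff_odd.mpr hodd hk

theorem relIndex_Hs : (Hs Q).relIndex (propSub Q) = 2 := by
  have hn : ∀ k, D.r * k ∈ Hs Q → k ∉ propSub Q := fun k hk => (D.prop_mul k).mp (D.Hs_le_prop hk)
  show ((Hs Q).subgroupOf (propSub Q)).index = 2
  rw [Subgroup.index_eq_two_iff']
  by_cases hδ : D.δ ∈ propSub Q
  · refine ⟨⟨D.δ, hδ⟩, fun k => ?_⟩
    simp only [Subgroup.mem_subgroupOf, Subgroup.coe_mul]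
    rcases D.cover k.1 with h | h | h | h
    · refine Or.inr ⟨h, fun h' => D.δ_notMem ((mul_mem_cancel_right h).mp h')⟩
    · exact absurd k.2 (hn _ h)
    · exact Or.inl ⟨h, fun h' => D.δ_notMem ((mul_mem_cancel_right h').mp h)⟩
    · exact absurd (mul_mem hδ k.2) (hn _ h)
  · have hu : D.r * D.δ ∈ propSub Q := (D.prop_mul _).mpr hδ
    refine ⟨⟨D.r * D.δ, hu⟩, fun k => ?_⟩
    simp only [Subgroup.mem_subgroupOf, Subgroup.coe_mul, mul_assoc]
    rcases D.cover k.1 with h | h | h | h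
    · refine Or.inr ⟨h, fun h' => D.rδ_notMem ((mul_mem_cancel_right h).mp (by rw [mul_assoc]; exact h'))⟩
    · exact absurd k.2 (hn _ h)
    · exact absurd ((mul_mem_cancel_right k.2).mp (D.Hs_le_prop h)) hδ
    · exact Or.inl ⟨h, fun h' => D.rδ_notMem ((mul_mem_cancel_right h').mp (by rw [mul_assoc]; exact h))⟩

theorem split_main (g : GO Q) (hg : g ∉ propSub Q) (hord : orderOf (Θ Q g) = 2) :
    let n := Cfsg.splitClassCount ((propSub Q).map (Θ Q)) (Cfsg.Inn (Cfsg.POmega F ⇑Q)) (Θ Q g)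
    (n = 1 ∨ n = 2) ∧ ((POmegaCard.NegMem F ⇑Q ∨ Even (half ι)) → n = 2) := by
  intro n
  obtain ⟨c, hc⟩ := g.2
  have hker : g * g ∈ (Θ Q).ker := by
    rw [MonoidHom.mem_ker, map_mul, ← pow_two, ← hord, pow_orderOf_eq_one]
  obtain ⟨l, hl⟩ := scalar_of_ker Q D.hn D.hQ D.h2 D.hv D.hp hker
  have hsq : g.1.1 * g.1.1 = (l : F) • 1 := by
    have := congrArg Units.val hl
    rwa [Subgroup.coe_mul, Units.val_mul, sc_val] at this
  have hlc := D.improper_sq hg hc hsq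
  rw [hlc] at hsq
  obtain ⟨v, w, hv, hw, hns, hcomm⟩ := D.exists_pair hg hc hsq
  set K := Cfsg.Inn (Cfsg.POmega F ⇑Q)
  set H := (propSub Q).map (Θ Q)
  haveI : K.Normal := ⟨by
    rintro _ ⟨x, rfl⟩ b
    exact ⟨b x, MulEquiv.ext fun y => by simp [MulAut.conj_apply]⟩⟩
  have hKH : K ≤ H := by rw [show K = _ from inn_eq Q]; exact Subgroup.map_mono D.prop_Ns
  set S := (K ⊔ H ⊓ Subgroup.centralizer {Θ Q g}).comap (Θ Q) with hS
  have hn : n = S.relIndex (propSub Q) := by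
    rw [hS, Subgroup.relIndex_comap]
    exact CfsgLib.PSLn.splitClassCount_eq H K hKH _
  have hNS : Ns Q ≤ S := fun k hk => Subgroup.mem_sup_left (by rw [show K = _ from inn_eq Q]; exact ⟨k, hk, rfl⟩)
  set e := toGO (rO hv * rO hw) with he
  have heH : e ∈ Hs Q := mem_Hs_of_det (D.pair_det hv hw)
  have heS : e ∈ S := Subgroup.mem_sup_right (Subgroup.mem_inf.mpr ⟨⟨e, D.Hs_le_prop heH, rfl⟩,
    Subgroup.mem_centralizer_singleton_iff.mpr (by rw [← map_mul, ← map_mul, hcomm])⟩)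
  have hHS : Hs Q ≤ S := fun k hk => by
    rcases D.Hs_cases hv hw hns hk with h1 | h1
    · exact hNS h1
    · have h2 := mul_mem (hNS h1) heS
      rwa [← he, inv_mul_cancel_right] at h2
  constructor
  · have hdvd := Subgroup.relIndex_dvd_of_le_left (propSub Q) hHS
    rw [D.relIndex_Hs, ← hn] at hdvd
    exact (Nat.dvd_prime Nat.prime_two).mp hdvd
  · intro hcase
    rw [hn, ← Subgroup.inf_relIndex_right, show S ⊓ propSub Q = Hs Q ⊓ propSub Q from ?_,
      Subgroup.inf_relIndex_right, D.relIndex_Hs]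
    refine le_antisymm (fun k hk => ⟨?_, hk.2⟩) (inf_le_inf_right _ hHS)
    obtain ⟨hkS, hkP⟩ := hk
    obtain ⟨i, hi, x, hx, hix⟩ := Subgroup.mem_sup_of_normal_left.mp hkS
    rw [show K = _ from inn_eq Q] at hi
    obtain ⟨n₀, hn₀, rfl⟩ := hi
    obtain ⟨⟨h, hh, rfl⟩, hxc⟩ := Subgroup.mem_inf.mp hx
    have hxc' := Subgroup.mem_centralizer_singleton_iff.mp hxc
    have hhH : h ∈ Hs Q := by
      by_contra hhn
      rcases hcase with hneg | hk
      · refine D.not_commute_mod hneg hh hhn hg ?_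
        rw [← QuotientGroup.mk_mul, ← QuotientGroup.mk_mul, QuotientGroup.eq]
        exact D.ker_le (by rw [MonoidHom.mem_ker, map_mul, map_inv, map_mul, map_mul, hxc', inv_mul_cancel])
      · exact D.not_commute_even hk hh hhn hg hc hsq hxc'
    have hk' : (n₀ * h)⁻¹ * k ∈ (Θ Q).ker := by
      rw [MonoidHom.mem_ker, map_mul, map_inv, map_mul, hix, inv_mul_cancel]
    show k ∈ Hs Q
    have := mul_mem (mul_mem (Ns_le_Hs hn₀) hhH) (Ns_le_Hs (D.ker_le hk'))
    rwa [mul_inv_cancel_left] at this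

end Data

theorem G₀Plus_eq (hodd : Odd (Fintype.card F)) {m : ℕ} (hm : 3 ≤ m) :
    G₀Plus m F = propSub (CfsgLib.Lagrangian.Qp m F) := by
  refine (plusData (F := F) hodd hm).mem_G₀_eq G₀Plus_Ns (G₀Plus_mul _) (plusData hodd hm).prop_Ns
    (plusData hodd hm).prop_mul ?_
  rw [G₀Plus_δ, Data.δ_prop, half, Fintype.card_sum, Fintype.card_fin, show (m + m) / 2 = m by omega]

theorem map_closure {f : (ι → F) → F} (P : GL ι F → Prop) (hf : f = ⇑Q) (G : Subgroup (GO Q))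
    (hP : ∀ g : GO Q, P g.1 ↔ g ∈ G) (γ : MulAut (Cfsg.POmega F f)) (g : GL ι F)
    (hg : g ∈ Cfsg.Geo.quadSimilarityGroup (F := F) f) (hPg : ¬ P g)
    (hind : Cfsg.IsInducedBySemilinearPOmega f g (RingEquiv.refl F) γ) (hord : orderOf γ = 2) (R : ℕ → Prop)
    (main : ∀ g' : GO Q, g' ∉ G → orderOf (Θ Q g') = 2 →
      R (Cfsg.splitClassCount (G.map (Θ Q)) (Cfsg.Inn (Cfsg.POmega F ⇑Q)) (Θ Q g'))) :
    R (Cfsg.splitClassCount (Subgroup.closure {β : MulAut (Cfsg.POmega F f) | ∃ g : GL ι F,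
        g ∈ Cfsg.Geo.quadSimilarityGroup (F := F) f ∧ P g ∧
        Cfsg.IsInducedBySemilinearPOmega f g (RingEquiv.refl F) β}) (Cfsg.Inn (Cfsg.POmega F f)) γ) := by
  subst hf
  rw [closure_induced Q P G hP]
  obtain rfl := (induced_iff Q ⟨g, hg⟩ γ).mp hind
  exact main _ (fun h => hPg ((hP _).mpr h)) hord

end CfsgLib.PGO
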