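import Cfsg.Agent.Lib.PGO.GraphSplit

/-!
Semisimilarities acting on `PΩ(Q)`, and the absence of semilinear involutions for forms of nonsquare discriminant.
-/

set_option autoImplicit false
set_option linter.dupNamespace false
set_option linter.unusedSectionVars false

namespace CfsgLib.PGO

open QuadraticMap Module CfsgLib.SpinorMatrix CfsgLib.OmegaList
open scoped Matrix commutatorElement

variable {F : Type*} [Field F] [Fintype F] {ι : Type} [Fintype ι] [DecidableEq ι]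

theorem fixed_isSquare (h2 : (2 : F) ≠ 0) {σ : F ≃+* F} (hσ : ∀ x, σ (σ x) = x) (hne : ∃ x, σ x ≠ x) {f : F}
    (hf : σ f = f) : IsSquare f := by
  classical
  rcases eq_or_ne f 0 with rfl | hf0
  · exact IsSquare.zero
  obtain ⟨x, hx⟩ := hne
  let K := σ.toRingHom.eqLocusField (RingHom.id F)
  haveI : Fintype K := Fintype.ofFinite K
  set δ := x - σ x with hδ
  have hδ0 : δ ≠ 0 := sub_ne_zero.mpr (Ne.symm hx)
  have hδσ : σ δ = -δ := by rw [hδ, map_sub, hσ, neg_sub]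
  let f' : K := ⟨f, hf⟩
  let d' : K := ⟨δ * δ, by show σ (δ * δ) = δ * δ; rw [map_mul, hδσ, neg_mul_neg]⟩
  have hd : ¬ IsSquare d' := by
    rintro ⟨r, hr⟩
    have hr' : δ * δ = r.1 * r.1 := congrArg Subtype.val hr
    have hrσ : σ r.1 = r.1 := r.2
    have : σ δ = δ := by
      rcases mul_self_eq_mul_self_iff.mp hr' with h | h <;> rw [h]
      · exact hrσ
      · rw [map_neg, hrσ]
    rw [hδσ] at this
    exact mul_ne_zero h2 hδ0 (by linear_combination (-1) * this)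
  by_cases hf' : IsSquare f'
  · obtain ⟨r, hr⟩ := hf'
    exact ⟨r.1, congrArg Subtype.val hr⟩
  · have h2' : (2 : K) ≠ 0 := fun h => h2 (by
      have e : ((2 : K) : F) = ((0 : K) : F) := congrArg Subtype.val h
      exact e)
    have hf0' : f' ≠ 0 := fun h => hf0 (congrArg Subtype.val h)
    have hd0 : d' ≠ 0 := fun h => mul_ne_zero hδ0 hδ0 (congrArg Subtype.val h)
    obtain ⟨r, hr⟩ := (OmegaMem.isSquare_mul_iff h2' hf0' hd0).mpr (iff_of_false hf' hd)
    have hr' : f * (δ * δ) = r.1 * r.1 := congrArg Subtype.val hr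
    exact ⟨r.1 / δ, by field_simp; linear_combination hr'⟩

variable (Q : QuadraticForm F (ι → F))

/-- Apply a field automorphism to the entries. -/
abbrev σM (σ : F ≃+* F) : GL ι F →* GL ι F := Matrix.GeneralLinearGroup.map σ.toRingHom

theorem σM_val (σ : F ≃+* F) (x : GL ι F) : (σM σ x).1 = x.1.map σ := rfl

theorem σ_mulVec (σ : F ≃+* F) (M : Matrix ι ι F) (v : ι → F) :
    (fun i => σ ((M *ᵥ v) i)) = M.map σ *ᵥ (fun i => σ (v i)) :=
  funext fun i => RingHom.map_mulVec σ.toRingHom M v i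

theorem semi_iso {g : GL ι F} {σ : F ≃+* F} {c : F}
    (hc : ∀ v : ι → F, Q (g.1 *ᵥ (fun i => σ (v i))) = c * σ (Q v)) {x : GL ι F}
    (hx : x ∈ Cfsg.isometryGroup F ⇑Q) : g * σM σ x * g⁻¹ ∈ Cfsg.isometryGroup F ⇑Q := by
  intro v _
  show Q ((g * σM σ x * g⁻¹).1 *ᵥ v) = Q v
  set w : ι → F := fun i => σ.symm (((g⁻¹).1 *ᵥ v) i) with hw
  have hv : v = g.1 *ᵥ (fun i => σ (w i)) := by
    simp only [hw, RingEquiv.apply_symm_apply, Matrix.mulVec_mulVec, ← Units.val_mul, mul_inv_cancel,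
      Units.val_one, Matrix.one_mulVec]
  have e : (g * σM σ x * g⁻¹).1 *ᵥ v = g.1 *ᵥ (fun i => σ ((x.1 *ᵥ w) i)) := by
    rw [σ_mulVec, hw, Units.val_mul, Units.val_mul, ← Matrix.mulVec_mulVec, ← Matrix.mulVec_mulVec]
    simp [σM_val]
  rw [e, hc, show Q (x.1 *ᵥ w) = Q w from hx w w, ← hc, ← hv]

/-- `s' = g σ(s) g⁻¹`. -/
def SemiRel (g : GL ι F) (σ : F ≃+* F) (s s' : Cfsg.Omega F ⇑Q) : Prop := s'.1.1 = g * σM σ s.1.1 * g⁻¹

theorem semiRel_exists {g : GL ι F} {σ : F ≃+* F} (h : Cfsg.IsSemisimilarityPair (⇑Q) g σ)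
    (s : Cfsg.Omega F ⇑Q) : ∃ s', SemiRel Q g σ s s' := by
  obtain ⟨c, hc⟩ := h
  let φ : Cfsg.isometryGroup F ⇑Q →* Cfsg.isometryGroup F ⇑Q :=
    MonoidHom.mk' (fun x => ⟨g * σM σ x.1 * g⁻¹, semi_iso Q hc x.2⟩) fun x y => Subtype.ext (by
      show g * σM σ (x.1 * y.1) * g⁻¹ = g * σM σ x.1 * g⁻¹ * (g * σM σ y.1 * g⁻¹)
      rw [map_mul]; group)
  have hle : (commutator (Cfsg.isometryGroup F ⇑Q)).map φ ≤ commutator (Cfsg.isometryGroup F ⇑Q) := by
    rw [_root_.commutator_def, Subgroup.map_commutator]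
    exact Subgroup.commutator_mono le_top le_top
  exact ⟨⟨φ s.1, hle ⟨s.1, s.2, rfl⟩⟩, rfl⟩

theorem induced_iff_semi {g : GL ι F} {σ : F ≃+* F} (β : MulAut (Cfsg.POmega F ⇑Q)) :
    Cfsg.IsInducedBySemilinearPOmega (⇑Q) g σ β ↔
      ∀ s s', SemiRel Q g σ s s' → β (QuotientGroup.mk s) = QuotientGroup.mk s' := by
  constructor
  · intro h s s' e
    exact h s s' (by rw [show s'.1.1 = _ from e]; rfl)
  · intro h s s' e
    exact h s s' (Units.ext e)

/-- Being induced by a semisimilarity. -/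
def IsSemi (β : MulAut (Cfsg.POmega F ⇑Q)) : Prop :=
  ∃ (g : GL ι F) (σ : F ≃+* F), Cfsg.IsSemisimilarityPair (⇑Q) g σ ∧
    Cfsg.IsInducedBySemilinearPOmega (⇑Q) g σ β

theorem semi_pair_mul {g h : GL ι F} {σ τ : F ≃+* F} (hg : Cfsg.IsSemisimilarityPair (⇑Q) g σ)
    (hh : Cfsg.IsSemisimilarityPair (⇑Q) h τ) : Cfsg.IsSemisimilarityPair (⇑Q) (g * σM σ h) (τ.trans σ) := by
  obtain ⟨c, hc⟩ := hg
  obtain ⟨d, hd⟩ := hh
  refine ⟨c * Units.map σ.toRingHom.toMonoidHom d, fun v => ?_⟩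
  have e : (g * σM σ h).1 *ᵥ (fun i => (τ.trans σ) (v i)) =
      g.1 *ᵥ (fun i => σ ((h.1 *ᵥ fun j => τ (v j)) i)) := by
    rw [σ_mulVec, Units.val_mul, ← Matrix.mulVec_mulVec]; rfl
  rw [e, hc, hd, map_mul, Units.val_mul]
  simp [mul_assoc]

theorem induced_mul {g h : GL ι F} {σ τ : F ≃+* F} {β₁ β₂ : MulAut (Cfsg.POmega F ⇑Q)}
    (hh : Cfsg.IsSemisimilarityPair (⇑Q) h τ) (h1 : Cfsg.IsInducedBySemilinearPOmega (⇑Q) g σ β₁)
    (h2 : Cfsg.IsInducedBySemilinearPOmega (⇑Q) h τ β₂) :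
    Cfsg.IsInducedBySemilinearPOmega (⇑Q) (g * σM σ h) (τ.trans σ) (β₁ * β₂) := by
  rw [induced_iff_semi] at h1 h2 ⊢
  intro s s' e
  obtain ⟨s'', hs''⟩ := semiRel_exists Q hh s
  rw [MulAut.mul_apply, h2 s s'' hs'']
  refine h1 s'' s' ?_
  have e1 : σM (τ.trans σ) s.1.1 = σM σ (σM τ s.1.1) := Units.ext (by ext i j; rfl)
  rw [SemiRel] at e hs'' ⊢
  rw [e, hs'', map_mul, map_mul, map_inv, e1]
  group

theorem isSemi_one : IsSemi Q 1 := by
  refine ⟨1, RingEquiv.refl F, ⟨1, fun v => by simp⟩, (induced_iff_semi Q _).mpr fun s s' e => ?_⟩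
  rw [SemiRel] at e
  rw [MulAut.one_apply]
  congr 1
  refine Subtype.ext (Subtype.ext ?_)
  rw [e, one_mul, inv_one, mul_one]
  exact Units.ext (by ext i j; rfl)

theorem isSemi_mul {a b : MulAut (Cfsg.POmega F ⇑Q)} (ha : IsSemi Q a) (hb : IsSemi Q b) : IsSemi Q (a * b) := by
  obtain ⟨g, σ, hg, h1⟩ := ha
  obtain ⟨h, τ, hh, h2⟩ := hb
  exact ⟨_, _, semi_pair_mul Q hg hh, induced_mul Q hh h1 h2⟩

theorem isSemi_of_mem {γ : MulAut (Cfsg.POmega F ⇑Q)} (hγ : γ ∈ Cfsg.gammaPOmega F ⇑Q) : IsSemi Q γ := by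
  haveI : Finite (MulAut (Cfsg.POmega F ⇑Q)) :=
    Finite.of_injective (fun f => (f : Cfsg.POmega F ⇑Q → Cfsg.POmega F ⇑Q)) DFunLike.coe_injective
  unfold Cfsg.gammaPOmega Cfsg.autSubgroupOf at hγ
  induction hγ using Subgroup.closure_induction with
  | mem x hx => exact hx
  | one => exact isSemi_one Q
  | mul x y _ _ hx hy => exact isSemi_mul Q hx hy
  | inv x _ hx =>
    have : x⁻¹ = x ^ (orderOf x - 1) := inv_eq_of_mul_eq_one_right (by
      rw [← pow_succ', Nat.sub_add_cancel (orderOf_pos x), pow_orderOf_eq_one])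
    rw [this]
    generalize orderOf x - 1 = k
    induction k with
    | zero => rw [pow_zero]; exact isSemi_one Q
    | succ k ih => rw [pow_succ]; exact isSemi_mul Q ih hx

variable {Q}

namespace Data

variable (D : Data Q)
include D

/-- A semilinear map inducing the identity centralises `Ω`. -/
theorem semi_fix {g : GL ι F} {σ : F ≃+* F} (hg : Cfsg.IsSemisimilarityPair (⇑Q) g σ)
    (h1 : Cfsg.IsInducedBySemilinearPOmega (⇑Q) g σ (1 : MulAut (Cfsg.POmega F ⇑Q)))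
    {x : Cfsg.isometryGroup F ⇑Q} (hx : x ∈ Cfsg.Omega F ⇑Q) : g * σM σ x.1 = x.1 * g := by
  haveI : Nonempty ι := D.nonempty
  rw [induced_iff_semi] at h1
  have hsgn : ∀ s : Cfsg.Omega F ⇑Q, (g * σM σ s.1.1 * g⁻¹).1 = s.1.1.1 ∨
      (g * σM σ s.1.1 * g⁻¹).1 = -s.1.1.1 := by
    intro s
    obtain ⟨s', hs'⟩ := semiRel_exists Q hg s
    have h := h1 s s' hs'
    rw [MulAut.one_apply, QuotientGroup.eq] at h
    rw [← show s'.1.1 = _ from hs']
    rcases POmegaCard.center_cases Q D.hn D.hQ _ h with h' | h'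
    · left
      have : s.1.1⁻¹ * s'.1.1 = 1 := Units.ext h'
      exact (congrArg Units.val (inv_mul_eq_one.mp this)).symm
    · right
      have h3 : s.1.1.1 * ((s.1.1⁻¹).1 * s'.1.1.1) = s.1.1.1 * (-1) := congrArg _ h'
      rw [← mul_assoc, Units.mul_inv, one_mul, mul_neg, mul_one] at h3
      exact h3
  let φ : GL ι F →* GL ι F := (MulAut.conj g).toMonoidHom.comp (σM σ)
  have key : ∀ a b A B : GL ι F, (A.1 = a.1 ∨ A.1 = -a.1) → (B.1 = b.1 ∨ B.1 = -b.1) → ⁅A, B⁆ = ⁅a, b⁆ := by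
    have hi : ∀ a A : GL ι F, A.1 = -a.1 → A⁻¹.1 = -a⁻¹.1 := fun a A h =>
      (Units.eq_inv_of_mul_eq_one_left (u := A) (a := -a⁻¹.1) (by rw [h, neg_mul_neg, Units.mul_inv])).symm
    intro a b A B hA hB
    refine Units.ext ?_
    simp only [commutatorElement_def, Units.val_mul]
    rcases hA with hA | hA <;> rcases hB with hB | hB
    · rw [Units.ext hA, Units.ext hB]
    · rw [Units.ext hA, hB, hi b B hB]; simp
    · rw [Units.ext hB, hA, hi a A hA]; simp
    · rw [hA, hB, hi a A hA, hi b B hB]; simp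
  let E : Subgroup (Cfsg.isometryGroup F ⇑Q) :=
    (φ.comp (Cfsg.isometryGroup F ⇑Q).subtype).eqLocus (Cfsg.isometryGroup F ⇑Q).subtype
  have hE : Cfsg.Omega F ⇑Q ≤ E := by
    conv_lhs => rw [← omega_perfect Q D.hn D.hQ]
    rw [Subgroup.commutator_le]
    intro s hs t ht
    show φ (⁅s, t⁆ : Cfsg.isometryGroup F ⇑Q).1 = (⁅s, t⁆ : Cfsg.isometryGroup F ⇑Q).1
    have e : (⁅s, t⁆ : Cfsg.isometryGroup F ⇑Q).1 = ⁅s.1, t.1⁆ :=
      map_commutatorElement (Cfsg.isometryGroup F ⇑Q).subtype s t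
    rw [e, map_commutatorElement]
    exact key s.1 t.1 _ _ (hsgn ⟨s, hs⟩) (hsgn ⟨t, ht⟩)
  have h : g * σM σ x.1 * g⁻¹ = x.1 := hE hx
  exact mul_inv_eq_iff_eq_mul.mp h

/-- No semisimilarity with a field automorphism of order two squares to a scalar. -/
theorem no_semi_involution (hneg : ¬ POmegaCard.NegMem F ⇑Q) {g : GL ι F} {σ : F ≃+* F} {c : F}
    (hc : ∀ v : ι → F, Q (g.1 *ᵥ (fun i => σ (v i))) = c * σ (Q v)) (hσ : ∀ x, σ (σ x) = x)
    {l : Fˣ} (hl : g * σM σ g = sc l) : ∀ x, σ x = x := by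
  by_contra hne
  push Not at hne
  have hfix : ∀ f, σ f = f → IsSquare f := fun f hf => fixed_isSquare D.h2 hσ hne hf
  let b : Basis ι F (ι → F) := Basis.mk (v := D.v)
    (Fintype.linearIndependent_iff.mpr (fun t ht j => by
      have h := congrArg (fun x => polarBilin Q x (D.v j)) ht
      simp only [map_sum, map_smul, LinearMap.sum_apply, LinearMap.smul_apply, map_zero, LinearMap.zero_apply,
        smul_eq_mul, polarBilin_apply_apply] at h
      rw [Finset.sum_eq_single j (fun i _ hi => by rw [D.hp i j hi, mul_zero]) (by simp),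
        PolarVec.polar_self] at h
      exact (mul_eq_zero.mp h).resolve_right (mul_ne_zero D.h2 (D.hv j))))
    (li_basis Q D.hn D.hQ D.hv D.hp D.h2).ge
  have hb : ∀ i, b i = D.v i := fun i => Basis.mk_apply _ _ i
  set S : (ι → F) → (ι → F) := fun v => g.1 *ᵥ fun i => σ (v i) with hS
  have hSadd : ∀ v w, S (v + w) = S v + S w := fun v w => by
    simp only [hS, Pi.add_apply, map_add]; exact Matrix.mulVec_add _ _ _
  have hSsmul : ∀ (a : F) (v : ι → F), S (a • v) = σ a • S v := fun a v => by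
    simp only [hS]
    rw [← Matrix.mulVec_smul]
    congr 1
    funext i
    simp
  have hSS : ∀ v, S (S v) = (l : F) • v := fun v => by
    simp only [hS, σ_mulVec, Matrix.mulVec_mulVec, hσ]
    rw [← σM_val, ← Units.val_mul, hl, sc_mulVec]
  have hpol : ∀ v w, polar (⇑Q) (S v) (S w) = c * σ (polar (⇑Q) v w) := fun v w => by
    simp only [polar, ← hSadd, map_sub]
    simp only [hS, hc]; ring
  let M : Matrix ι ι F := Matrix.of fun i j => b.repr (S (D.v j)) i
  have hM : ∀ j, ∑ i, M i j • D.v i = S (D.v j) := fun j => by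
    simp only [M, Matrix.of_apply, ← hb]; exact b.sum_repr _
  have hS0 : S 0 = 0 := by simpa using hSsmul 0 0
  have hSsum : ∀ (s : Finset ι) (f : ι → ι → F), S (∑ i ∈ s, f i) = ∑ i ∈ s, S (f i) := fun s f =>
    map_sum ({ toFun := S, map_zero' := hS0, map_add' := hSadd } : (ι → F) →+ ι → F) f s
  have hMM : M * M.map σ = (l : F) • 1 := by
    ext k j
    have h := congrArg (fun x => b.repr x k) (hSS (D.v j))
    rw [← hM j, hSsum] at h
    simp only [hSsmul, map_sum, map_smul, Finsupp.coe_finsetSum, Finset.sum_apply, Finsupp.smul_apply,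
      smul_eq_mul] at h
    rw [Matrix.mul_apply]
    simp only [Matrix.map_apply, Matrix.smul_apply, Matrix.one_apply, smul_eq_mul]
    calc ∑ i, M k i * σ (M i j) = ∑ i, σ (M i j) * b.repr (S (D.v i)) k :=
          Finset.sum_congr rfl fun i _ => mul_comm _ _
      _ = (l : F) * b.repr (D.v j) k := h
      _ = _ := by rw [← hb, b.repr_self, Finsupp.single_apply]; simp [eq_comm]
  set d : ι → F := fun i => polar (⇑Q) (D.v i) (D.v i) with hd
  have hMD : M.transpose * Matrix.diagonal d * M = Matrix.diagonal fun i => c * σ (d i) := by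
    ext i j
    have h : polar (⇑Q) (∑ k, M k i • D.v k) (∑ k, M k j • D.v k) = c * σ (polar (⇑Q) (D.v i) (D.v j)) := by
      rw [hM, hM, hpol]
    have hin : ∀ k, polar (⇑Q) (D.v k) (∑ k', M k' j • D.v k') = M k j * d k := fun k => by
      rw [← polarBilin_apply_apply, map_sum, Finset.sum_eq_single k
        (fun k' _ hk => by rw [map_smul, polarBilin_apply_apply, D.hp k k' hk.symm, smul_zero]) (by simp),
        map_smul, polarBilin_apply_apply, smul_eq_mul]
    have hout : ∀ y, polar (⇑Q) (∑ k, M k i • D.v k) y = ∑ k, M k i * polar (⇑Q) (D.v k) y := fun y => by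
      rw [show polar (⇑Q) (∑ k, M k i • D.v k) y = (polarBilin Q).flip y (∑ k, M k i • D.v k) from rfl, map_sum]
      simp
    simp only [hout, hin] at h
    rw [Matrix.mul_apply]
    simp only [Matrix.mul_diagonal, Matrix.transpose_apply, Matrix.diagonal_apply]
    calc ∑ k, M k i * d k * M k j = ∑ k, M k i * (M k j * d k) := Finset.sum_congr rfl fun k _ => by ring
      _ = c * σ (polar (⇑Q) (D.v i) (D.v j)) := h
      _ = _ := by
        by_cases hij : i = j
        · subst hij; simp [hd]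
        · simp [hij, D.hp i j hij]
  set P := ∏ i, d i
  set e := M.det
  have heq : e * e * P = c ^ Fintype.card ι * σ P := by
    have h := congrArg Matrix.det hMD
    rw [Matrix.det_mul, Matrix.det_mul, Matrix.det_transpose, Matrix.det_diagonal, Matrix.det_diagonal,
      Finset.prod_mul_distrib, Finset.prod_const, Finset.card_univ, ← map_prod] at h
    linear_combination h
  have hN : e * σ e = (l : F) ^ Fintype.card ι := by
    have h := congrArg Matrix.det hMM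
    rw [Matrix.det_mul, Matrix.det_smul, Matrix.det_one, mul_one] at h
    rw [← h, RingEquiv.map_det σ M]; rfl
  have hcl : c * σ c = (l : F) * l := by
    have h := hc (S D.a)
    rw [show g.1 *ᵥ (fun i => σ (S D.a i)) = S (S D.a) from rfl, hSS, QuadraticMap.map_smul, smul_eq_mul,
      show Q (S D.a) = c * σ (Q D.a) from hc D.a, map_mul, hσ, ← mul_assoc] at h
    exact (mul_right_cancel₀ D.ha h).symm
  have hc0 : c ≠ 0 := fun h => mul_ne_zero l.ne_zero l.ne_zero (by rw [← hcl, h, zero_mul])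
  have hn := D.card_eq
  set w := e / c ^ half ι
  have hw : σ P = w * w * P := by
    rw [hn] at heq
    simp only [w]; field_simp
    linear_combination (-1) * heq
  have hwN : w * σ w = 1 := by
    rw [hn, pow_mul, pow_two, mul_pow] at hN
    have hσc : σ c ≠ 0 := fun h => hc0 (σ.injective (by rw [h, map_zero]))
    simp only [w, map_div₀, map_pow]
    field_simp
    rw [hN, ← mul_pow, ← mul_pow, hcl]
  obtain ⟨z, hz0, hz⟩ : ∃ z : F, z ≠ 0 ∧ σ z * w = z := by
    by_cases hw1 : 1 + w = 0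
    · obtain ⟨x, hx⟩ := hne
      refine ⟨x - σ x, sub_ne_zero.mpr (Ne.symm hx), ?_⟩
      rw [map_sub, hσ, show w = -1 by linear_combination hw1]; ring
    · exact ⟨1 + w, hw1, by rw [map_add, map_one]; linear_combination hwN⟩
  have hfixP : σ (P * (z * z)) = P * (z * z) := by
    rw [map_mul, map_mul, hw]
    linear_combination P * (σ z * w + z) * hz
  obtain ⟨r, hr⟩ := hfix _ hfixP
  refine hneg ((negMem_iff D).mpr ⟨r / (z * 2 ^ half ι), ?_⟩)
  have hP : P = 2 ^ Fintype.card ι * ∏ i, Q (D.v i) := by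
    simp only [P, hd, PolarVec.polar_self, Finset.prod_mul_distrib, Finset.prod_const, Finset.card_univ]
  rw [hP, hn, pow_mul, pow_two, mul_pow] at hr
  have := pow_ne_zero (half ι) D.h2
  field_simp
  linear_combination hr

end Data

section torus

variable {m : ℕ} {a b : F}

theorem exists_torus (hodd : Odd (Fintype.card F)) (hm : 3 ≤ m)
    (hab : ∀ z₁ z₂ : F, z₁ ^ 2 + a * z₁ * z₂ + b * z₂ ^ 2 = 0 → z₁ = 0 ∧ z₂ = 0) (t : Fˣ) :
    ∃ x : Cfsg.isometryGroup F ⇑(CfsgLib.StdQuadForms.Qm m a b), x ∈ Cfsg.Omega F ⇑(CfsgLib.StdQuadForms.Qm m a b) ∧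
      x.1.1 = Matrix.diagonal (Sum.elim (Sum.elim (fun i : Fin m => if i.1 < 2 then (t : F) else 1)
        (fun i => if i.1 < 2 then (t : F)⁻¹ else 1)) fun _ => 1) := by
  let i₀ : Fin m := ⟨0, by omega⟩
  let i₁ : Fin m := ⟨1, by omega⟩
  let dv : (Fin m → F) → (Fin m ⊕ Fin m) ⊕ Fin 2 → F := fun u =>
    Sum.elim (Sum.elim u fun i => (u i)⁻¹) fun _ => 1
  have hiso : ∀ u : Fin m → F, (∀ i, u i ≠ 0) →
      ∃ x : Cfsg.isometryGroup F ⇑(CfsgLib.StdQuadForms.Qm m a b), x.1.1 = Matrix.diagonal (dv u) := by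
    intro u hu
    have hd : IsUnit (Matrix.diagonal (dv u)) := by
      rw [Matrix.isUnit_diagonal, Pi.isUnit_iff]
      rintro ((i | i) | i) <;> simp [dv, hu]
    refine ⟨⟨hd.unit, fun v _ => ?_⟩, rfl⟩
    show CfsgLib.StdQuadForms.Qm m a b (Matrix.diagonal (dv u) *ᵥ v) = CfsgLib.StdQuadForms.Qm m a b v
    rw [CfsgLib.StdQuadForms.Qm_apply, CfsgLib.StdQuadForms.Qm_apply]
    simp only [Cfsg.quadFormMinus, Matrix.mulVec_diagonal, dv, Sum.elim_inl, Sum.elim_inr, one_mul]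
    refine congrArg (· + _) (Finset.sum_congr rfl fun i _ => ?_)
    have := hu i
    field_simp
  obtain ⟨h1, hh1⟩ := hiso (fun i => if i = i₀ then (t : F) else 1) fun i => by
    by_cases h : i = i₀ <;> simp [h]
  let π : Equiv.Perm ((Fin m ⊕ Fin m) ⊕ Fin 2) :=
    Equiv.sumCongr (Equiv.sumCongr (Equiv.swap i₀ i₁) (Equiv.swap i₀ i₁)) (Equiv.refl _)
  have hππ : ∀ s, π (π s) = s := by rintro ((i | i) | i) <;> simp [π]
  let W : Matrix ((Fin m ⊕ Fin m) ⊕ Fin 2) ((Fin m ⊕ Fin m) ⊕ Fin 2) F := Matrix.of fun i j => if π i = j then 1 else 0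
  have hWv : ∀ v, W *ᵥ v = v ∘ π := fun v => funext fun i => by simp [W, Matrix.mulVec, dotProduct]
  have hWW : W * W = 1 := Matrix.ext_of_mulVec_single fun k => by
    rw [← Matrix.mulVec_mulVec, hWv, hWv, Matrix.one_mulVec]
    exact funext fun i => congrArg _ (hππ i)
  let w : Cfsg.isometryGroup F ⇑(CfsgLib.StdQuadForms.Qm m a b) := ⟨⟨W, W, hWW, hWW⟩, fun v _ => by
    show CfsgLib.StdQuadForms.Qm m a b (W *ᵥ v) = CfsgLib.StdQuadForms.Qm m a b v
    rw [hWv, CfsgLib.StdQuadForms.Qm_apply, CfsgLib.StdQuadForms.Qm_apply]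
    simp only [Cfsg.quadFormMinus, Function.comp_apply, π, Equiv.sumCongr_apply, Sum.map_inl, Sum.map_inr,
      Equiv.refl_apply]
    refine congrArg (· + _) ?_
    exact Equiv.sum_comp (Equiv.swap i₀ i₁) fun i => v (.inl (.inl i)) * v (.inl (.inr i))⟩
  refine ⟨h1 * (w * h1 * w⁻¹), ?_, ?_⟩
  · have e : h1 * (w * h1 * w⁻¹) = h1 * h1 * ⁅h1⁻¹, w⁆ := by rw [commutatorElement_def]; group
    rw [e]
    refine mul_mem (sq_mem_commutator _ (minusData hodd hm hab).hc h1) ?_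
    rw [Cfsg.Omega, _root_.commutator_def]
    exact Subgroup.commutator_mem_commutator (Subgroup.mem_top _) (Subgroup.mem_top _)
  · refine Matrix.ext_of_mulVec_single fun k => ?_
    show (h1.1.1 * (W * h1.1.1 * W)) *ᵥ _ = _
    rw [← Matrix.mulVec_mulVec, ← Matrix.mulVec_mulVec, ← Matrix.mulVec_mulVec, hh1, hWv, hWv]
    funext s
    simp only [Matrix.mulVec_diagonal, Function.comp_apply, hππ]
    have hsw : ∀ i : Fin m, (if i = i₀ then (t : F) else 1) * (if Equiv.swap i₀ i₁ i = i₀ then (t : F) else 1) =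
        if i.1 < 2 then (t : F) else 1 := by
      intro i
      by_cases h0 : i = i₀
      · subst h0; simp [i₀, i₁, Fin.ext_iff]
      by_cases h1 : i = i₁
      · subst h1; simp [i₀, i₁, Fin.ext_iff]
      · rw [Equiv.swap_apply_of_ne_of_ne h0 h1]
        have : ¬ i.1 < 2 := by simp [i₀, i₁, Fin.ext_iff] at h0 h1; omega
        simp [h0, this]
    rcases s with (i | i) | i
    · simp only [dv, π, Equiv.sumCongr_apply, Sum.map_inl, Sum.elim_inl, ← mul_assoc, hsw]
    · simp only [dv, π, Equiv.sumCongr_apply, Sum.map_inl, Sum.map_inr, Sum.elim_inl, Sum.elim_inr, ← mul_assoc,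
        ← mul_inv, hsw]
      congr 1
      split_ifs <;> simp
    · simp [dv, π]

theorem semi_refl (hodd : Odd (Fintype.card F)) (hm : 3 ≤ m)
    (hab : ∀ z₁ z₂ : F, z₁ ^ 2 + a * z₁ * z₂ + b * z₂ ^ 2 = 0 → z₁ = 0 ∧ z₂ = 0)
    {g : GL ((Fin m ⊕ Fin m) ⊕ Fin 2) F} {σ : F ≃+* F}
    (hg : Cfsg.IsSemisimilarityPair (⇑(CfsgLib.StdQuadForms.Qm m a b)) g σ)
    (h1 : Cfsg.IsInducedBySemilinearPOmega (⇑(CfsgLib.StdQuadForms.Qm m a b)) g σ
      (1 : MulAut (Cfsg.POmega F ⇑(CfsgLib.StdQuadForms.Qm m a b)))) (x : F) : σ x = x := by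
  have h2 := two_ne hodd
  set l : (Fin m ⊕ Fin m) ⊕ Fin 2 := .inl (.inl ⟨0, by omega⟩)
  obtain ⟨k, hk⟩ : ∃ k, g.1 k l ≠ 0 := by
    by_contra hc
    push Not at hc
    have h0 : g.1 *ᵥ Pi.single l (1 : F) = 0 := funext fun k => by simp [hc k]
    have h3 := congrArg (fun v => (g⁻¹).1 *ᵥ v) h0
    simp only [Matrix.mulVec_mulVec, ← Units.val_mul, inv_mul_cancel, Units.val_one, Matrix.one_mulVec,
      Matrix.mulVec_zero] at h3
    exact one_ne_zero (α := F) (by simpa using congrFun h3 l)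
  set dt : F → (Fin m ⊕ Fin m) ⊕ Fin 2 → F := fun t =>
    Sum.elim (Sum.elim (fun i : Fin m => if i.1 < 2 then t else 1) (fun i => if i.1 < 2 then t⁻¹ else 1)) fun _ => 1
  have hkey : ∀ t : F, t ≠ 0 → σ t = dt t k := by
    intro t ht
    obtain ⟨y, hy, hy'⟩ := exists_torus (a := a) (b := b) hodd hm hab (Units.mk0 t ht)
    have h := congrArg Units.val ((minusData hodd hm hab).semi_fix hg h1 hy)
    rw [Units.val_mul, Units.val_mul, σM_val, hy', Units.val_mk0] at h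
    have h3 := congrFun (congrFun h k) l
    rw [Matrix.diagonal_map (map_zero σ), Matrix.mul_diagonal, Matrix.diagonal_mul, mul_comm (dt t k)] at h3
    have h4 := mul_left_cancel₀ hk h3
    simpa [dt, l] using h4
  rcases eq_or_ne x 0 with rfl | hx
  · exact map_zero σ
  obtain hA | hB | hC : (∀ t : F, dt t k = t) ∨ (∀ t : F, dt t k = t⁻¹) ∨ (∀ t : F, dt t k = 1) := by
    rcases k with (i | i) | i
    · by_cases h : i.1 < 2
      · exact Or.inl fun t => if_pos h
      · exact Or.inr (Or.inr fun t => if_neg h)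
    · by_cases h : i.1 < 2
      · exact Or.inr (Or.inl fun t => if_pos h)
      · exact Or.inr (Or.inr fun t => if_neg h)
    · exact Or.inr (Or.inr fun t => rfl)
  · rw [hkey x hx, hA]
  · have hinv : ∀ t : F, t ≠ 0 → σ t = t⁻¹ := fun t ht => (hkey t ht).trans (hB t)
    have h3 : (3 : F) = 0 := by
      have h12 := hinv 2 h2
      rw [map_ofNat] at h12
      field_simp at h12
      linear_combination h12
    rw [hinv x hx]
    by_cases h1x : 1 + x = 0
    · rw [show x = -1 by linear_combination h1x]; norm_num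
    · have h4 := hinv _ h1x
      rw [map_add, map_one, hinv x hx] at h4
      field_simp at h4
      have h5 : (x - 1) * (x - 1) = 0 := by linear_combination h4 - x * h3
      rw [sub_eq_zero.mp (mul_self_eq_zero.mp h5), inv_one]
  · have hone : σ x = 1 := (hkey x hx).trans (hC x)
    rw [hone, σ.injective (hone.trans (map_one σ).symm)]

set_option maxHeartbeats 1600000 in
theorem gamma_case (hodd : Odd (Fintype.card F)) (hm : 3 ≤ m)
    (hab : ∀ z₁ z₂ : F, z₁ ^ 2 + a * z₁ * z₂ + b * z₂ ^ 2 = 0 → z₁ = 0 ∧ z₂ = 0)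
    {γ : MulAut (Cfsg.POmega F ⇑(CfsgLib.StdQuadForms.Qm m a b))}
    (hγ : γ ∈ Cfsg.gammaPOmega F ⇑(CfsgLib.StdQuadForms.Qm m a b)) (h2γ : γ ^ 2 = 1) :
    γ ∈ Cfsg.pgoAut F ⇑(CfsgLib.StdQuadForms.Qm m a b) := by
  obtain ⟨g, σ, hg, hi⟩ := isSemi_of_mem _ hγ
  have h11 := induced_mul _ hg hi hi
  rw [← pow_two, h2γ] at h11
  have hpair := semi_pair_mul _ hg hg
  have hσ2 : ∀ x, σ (σ x) = x := semi_refl hodd hm hab hpair h11
  have hσσ : σ.trans σ = RingEquiv.refl F := RingEquiv.ext hσ2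
  set D := minusData hodd hm hab
  rw [hσσ] at h11 hpair
  obtain ⟨d, hd⟩ := hpair
  let G : GO (CfsgLib.StdQuadForms.Qm m a b) := ⟨g * σM σ g, d, fun v => by simpa using hd v⟩
  obtain ⟨l, hl⟩ := scalar_of_ker _ D.hn D.hQ D.h2 D.hv D.hp (g := G) (by
    rw [MonoidHom.mem_ker]; exact ((induced_iff _ G 1).mp h11).symm)
  obtain ⟨c, hc⟩ := hg
  have hσ1 : ∀ x, σ x = x := by
    by_contra hne
    push Not at hne
    have hsq := fixed_isSquare D.h2 hσ2 hne (f := -1) (by simp)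
    rw [FiniteField.isSquare_neg_one_iff] at hsq
    have hneg : ¬ POmegaCard.NegMem F ⇑(CfsgLib.StdQuadForms.Qm m a b) :=
      fun h => hsq ((negMem_minus hodd hm hab).mp h).2
    obtain ⟨x, hx⟩ := hne
    exact hx (D.no_semi_involution hneg hc hσ2 hl x)
  obtain rfl : σ = RingEquiv.refl F := RingEquiv.ext hσ1
  rw [pgoAut_eq]
  exact ⟨⟨g, c, fun v => by simpa using hc v⟩, ((induced_iff _ _ γ).mp hi).symm⟩

end torus

end CfsgLib.PGO

namespace CfsgLib.PGO

open CfsgLib.StdQuadForms (Qm Qm_apply)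

universe u

variable {F : Type u} [Field F] [Fintype F]

set_option maxHeartbeats 1600000 in
theorem split_transport {ι : Type} [Fintype ι] [DecidableEq ι] {Q : QuadraticForm F (ι → F)} {f : (ι → F) → F}
    (hf : f = ⇑Q) (P : GL ι F → Prop) (G : Subgroup (GO Q)) (hP : ∀ g : GO Q, P g.1 ↔ g ∈ G)
    (hmem : ∀ γ : MulAut (Cfsg.POmega F ⇑Q), γ ∈ Cfsg.gammaPOmega F ⇑Q → γ ^ 2 = 1 → γ ∈ Cfsg.pgoAut F ⇑Q)
    {γ : MulAut (Cfsg.POmega F f)} (hγ : γ ∈ Cfsg.gammaPOmega F f)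
    (hnot : γ ∉ Subgroup.closure {β : MulAut (Cfsg.POmega F f) | ∃ g : GL ι F,
        g ∈ Cfsg.Geo.quadSimilarityGroup (F := F) f ∧ P g ∧
        Cfsg.IsInducedBySemilinearPOmega f g (RingEquiv.refl F) β})
    (hord : orderOf γ = 2) (R : ℕ → Prop)
    (main : ∀ g' : GO Q, g' ∉ G → orderOf (Θ Q g') = 2 →
      R (Cfsg.splitClassCount (G.map (Θ Q)) (Cfsg.Inn (Cfsg.POmega F ⇑Q)) (Θ Q g'))) :
    R (Cfsg.splitClassCount (Subgroup.closure {β : MulAut (Cfsg.POmega F f) | ∃ g : GL ι F,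
        g ∈ Cfsg.Geo.quadSimilarityGroup (F := F) f ∧ P g ∧
        Cfsg.IsInducedBySemilinearPOmega f g (RingEquiv.refl F) β}) (Cfsg.Inn (Cfsg.POmega F f)) γ) := by
  subst hf
  rw [closure_induced Q P G hP] at hnot ⊢
  have h := hmem γ hγ (by rw [← hord, pow_orderOf_eq_one])
  rw [pgoAut_eq] at h
  obtain ⟨g, rfl⟩ := h
  exact main g (fun hg => hnot ⟨g, hg, rfl⟩) hord

end CfsgLib.PGO
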