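import Cfsg.Agent.Lib.PGO.Models
import Cfsg.Agent.Lib.OmegaLag
import Cfsg.Agent.Lib.Lagrangian

/-!
The two classes of maximal totally singular subspaces of a form isometric to a hyperbolic one, and the action of
similarities on them.
-/

set_option autoImplicit false
set_option linter.dupNamespace false
set_option linter.unusedSectionVars false

namespace CfsgLib.PGO

open QuadraticMap Module
open CfsgLib.Lagrangian (Qp Qp_apply IsLag perp mem_perp finrank_perp polar_eq_zero)
open scoped Matrix

/-- A form with a coordinate change to the hyperbolic form. -/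
structure Hyp {K : Type*} [Field K] {ι : Type} [Fintype ι] [DecidableEq ι] (f : (ι → K) → K) (M : ℕ) where
  e : (ι → K) ≃ₗ[K] (Fin M ⊕ Fin M → K)
  hf : ∀ x, Cfsg.quadFormPlus M K (e x) = f x

namespace Hyp

variable {K : Type*} [Field K] {ι : Type} [Fintype ι] [DecidableEq ι] {f : (ι → K) → K} {M : ℕ} (H : Hyp f M)

/-- Lagrangian subspaces. -/
def Lag (_H : Hyp f M) (U : Submodule K (ι → K)) : Prop := finrank K U = M ∧ ∀ w ∈ U, f w = 0

/-- Same class. -/
def Same (_H : Hyp f M) (U W : Submodule K (ι → K)) : Prop := Even (M - finrank K ↥(U ⊓ W))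

theorem finrank_map (U : Submodule K (ι → K)) : finrank K ↥(U.map H.e.toLinearMap) = finrank K U :=
  (H.e.finrank_map_eq U)

theorem map_isLag {U : Submodule K (ι → K)} (h : H.Lag U) : IsLag (U.map H.e.toLinearMap) := by
  refine ⟨by rw [finrank_map, h.1], ?_⟩
  rintro _ ⟨x, hx, rfl⟩
  exact (H.hf x).trans (h.2 x hx)

include H in
theorem le_of_singular {U : Submodule K (ι → K)} (h : ∀ w ∈ U, f w = 0) : finrank K U ≤ M := by
  rw [← H.finrank_map U]
  refine CfsgLib.FiniteForms.plus_totally_singular_le _ ?_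
  rintro _ ⟨x, hx, rfl⟩
  exact (H.hf x).trans (h x hx)

/-- The standard Lagrangian. -/
def L₀ : Submodule K (ι → K) where
  carrier := {x | ∀ i, H.e x (Sum.inr i) = 0}
  add_mem' ha hb i := by simp [ha i, hb i]
  zero_mem' i := by simp
  smul_mem' c x hx i := by simp [hx i]

theorem lag_L₀ : H.Lag H.L₀ := by
  classical
  refine ⟨?_, fun w hw => ?_⟩
  · have hU := CfsgLib.Lagrangian.isLag_coord (F := K) (fun _ : Fin M => true)
    rw [← H.finrank_map]
    refine Eq.trans (congrArg (fun W : Submodule K (Fin M ⊕ Fin M → K) => finrank K W) ?_) hU.1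
    ext y
    constructor
    · rintro ⟨x, hx, rfl⟩ s hs
      rcases s with i | i
      · simp at hs
      · exact hx i
    · intro hy
      refine ⟨H.e.symm y, fun i => ?_, H.e.apply_symm_apply y⟩
      show H.e (H.e.symm y) (Sum.inr i) = 0
      rw [H.e.apply_symm_apply]
      exact hy _ (by simp)
  · rw [← H.hf, Cfsg.quadFormPlus]
    exact Finset.sum_eq_zero fun i _ => by rw [hw i, mul_zero]

theorem same_trans {U W X : Submodule K (ι → K)} (hU : H.Lag U) (hW : H.Lag W) (hX : H.Lag X) :
    H.Same U X ↔ (H.Same U W ↔ H.Same W X) := by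
  have h := CfsgLib.Lagrangian.parity _ _ _ _ (H.map_isLag hU) (H.map_isLag hW) (H.map_isLag hX) rfl
  rw [← Submodule.map_inf (H.e.toLinearMap) H.e.injective, ← Submodule.map_inf (H.e.toLinearMap) H.e.injective,
    ← Submodule.map_inf (H.e.toLinearMap) H.e.injective, H.finrank_map, H.finrank_map, H.finrank_map] at h
  rw [Nat.even_add, Nat.even_add] at h
  unfold Same
  tauto

theorem same_self {U : Submodule K (ι → K)} (hU : H.Lag U) : H.Same U U := by
  rw [Same, inf_idem, hU.1, Nat.sub_self]
  exact ⟨0, rfl⟩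

theorem same_symm {U W : Submodule K (ι → K)} : H.Same U W ↔ H.Same W U := by rw [Same, Same, inf_comm]

theorem max_iff {U : Submodule K (ι → K)} : Cfsg.IsMaxTotallySingular f U ↔ H.Lag U := by
  constructor
  · rintro ⟨hs, hmax⟩
    refine ⟨le_antisymm (H.le_of_singular hs) ?_, hs⟩
    have hL := H.lag_L₀
    set U' := U.map H.e.toLinearMap
    set X' := H.L₀.map H.e.toLinearMap
    have hU' : ∀ w ∈ U', Cfsg.quadFormPlus M K w = 0 := by
      rintro _ ⟨x, hx, rfl⟩; exact (H.hf x).trans (hs x hx)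
    have hX' : IsLag X' := H.map_isLag hL
    -- the part of the reference subspace orthogonal to `U`
    have hsub : X' ⊓ perp U' ≤ U' := by
      intro z hz
      have hzc : ∀ w ∈ U' ⊔ K ∙ z, Cfsg.quadFormPlus M K w = 0 := by
        intro w hw
        obtain ⟨u, hu, t, ht, rfl⟩ := Submodule.mem_sup.mp hw
        obtain ⟨c, rfl⟩ := Submodule.mem_span_singleton.mp ht
        rw [← Qp_apply, QuadraticMap.map_add (Qp M K), polar_smul_right, mem_perp.mp hz.2 u hu, Qp_apply, Qp_apply,
          hU' u hu, hX'.2 _ (X'.smul_mem c hz.1)]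
        simp
      have h1 : (U' ⊔ K ∙ z).comap H.e.toLinearMap = U := by
        refine hmax _ (fun w hw => ?_) fun w hw => Submodule.mem_sup_left ⟨w, hw, rfl⟩
        rw [← H.hf]; exact hzc _ hw
      have h2 : H.e.symm z ∈ U := h1 ▸ (show H.e (H.e.symm z) ∈ U' ⊔ K ∙ z by
        rw [H.e.apply_symm_apply]; exact Submodule.mem_sup_right (Submodule.mem_span_singleton_self z))
      exact ⟨_, h2, H.e.apply_symm_apply z⟩
    have hsup : X' ⊓ perp U' = perp (X' ⊔ U') := by
      have hXperp : perp X' = X' := by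
        have hle : X' ≤ perp X' := fun x hx h hh => polar_eq_zero hX'.2 hh hx
        refine (Submodule.eq_of_le_of_finrank_eq hle ?_).symm
        rw [finrank_perp, hX'.1]; omega
      ext z
      constructor
      · rintro ⟨hz1, hz2⟩ w hw
        obtain ⟨a, ha, b, hb, rfl⟩ := Submodule.mem_sup.mp hw
        show polar (Qp M K) (a + b) z = 0
        rw [polar_add_left, polar_eq_zero hX'.2 ha hz1, mem_perp.mp hz2 b hb, add_zero]
      · intro hz
        refine ⟨?_, fun h hh => hz h (Submodule.mem_sup_right hh)⟩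
        rw [SetLike.mem_coe, ← hXperp]
        exact fun h hh => hz h (Submodule.mem_sup_left hh)
    have h3 := Submodule.finrank_mono (le_inf (inf_le_left : X' ⊓ perp U' ≤ X') hsub)
    rw [hsup, finrank_perp] at h3
    have h4 := Submodule.finrank_sup_add_finrank_inf_eq X' U'
    have h5 : finrank K U' = finrank K U := H.finrank_map U
    rw [hX'.1] at h4
    have h6 : finrank K ↥(X' ⊔ U') ≤ 2 * M := by simpa [two_mul] using Submodule.finrank_le (X' ⊔ U')
    omega
  · intro h
    exact ⟨h.2, fun W hW hUW => (Submodule.eq_of_le_of_finrank_le hUW (by rw [h.1]; exact H.le_of_singular hW)).symm⟩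

variable (g g' : GL ι K)

/-- Image under a matrix. -/
def img (U : Submodule K (ι → K)) : Submodule K (ι → K) := Cfsg.imageSubmodule g.1 U

theorem img_mul (U : Submodule K (ι → K)) : img (g * g') U = img g (img g' U) := by
  rw [img, img, img, Cfsg.imageSubmodule, Cfsg.imageSubmodule, Cfsg.imageSubmodule, Units.val_mul,
    Matrix.toLin'_mul, Submodule.map_comp]

theorem toLin_inj : Function.Injective (Matrix.toLin' g.1) := fun x y h =>
  Matrix.mulVec_injective_of_isUnit g.isUnit (by simpa [Matrix.toLin'_apply] using h)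

theorem img_lag (hg : ∃ c : K, ∀ x, f (g.1 *ᵥ x) = c * f x) {U : Submodule K (ι → K)} (hU : H.Lag U) :
    H.Lag (img g U) := by
  obtain ⟨c, hc⟩ := hg
  refine ⟨?_, ?_⟩
  · rw [img, Cfsg.imageSubmodule, ← (Submodule.equivMapOfInjective _ (toLin_inj g) U).finrank_eq, hU.1]
  · rintro _ ⟨x, hx, rfl⟩
    rw [Matrix.toLin'_apply, hc, hU.2 x hx, mul_zero]

theorem same_img (U W : Submodule K (ι → K)) : H.Same (img g U) (img g W) ↔ H.Same U W := by
  rw [Same, Same, img, img, Cfsg.imageSubmodule, Cfsg.imageSubmodule, ← Submodule.map_inf _ (toLin_inj g),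
    ← (Submodule.equivMapOfInjective _ (toLin_inj g) _).finrank_eq]

/-- The similarity fixes the classes, tested on the standard Lagrangian. -/
def Pres : Prop := H.Same H.L₀ (img g H.L₀)

theorem same_all (hg : ∃ c : K, ∀ x, f (g.1 *ᵥ x) = c * f x) {U : Submodule K (ι → K)} (hU : H.Lag U) :
    H.Same U (img g U) ↔ H.Pres g := by
  have hL := H.lag_L₀
  rw [H.same_trans hU hL (H.img_lag g hg hU),
    H.same_trans hL (H.img_lag g hg hL) (H.img_lag g hg hU), H.same_img g, H.same_symm (U := U) (W := H.L₀)]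
  unfold Pres
  tauto

theorem preserves_iff (hg : ∃ c : K, ∀ x, f (g.1 *ᵥ x) = c * f x) :
    Cfsg.PreservesSingularClasses f g.1 ↔ H.Pres g := by
  constructor
  · intro h
    have := h H.L₀ (H.max_iff.mpr H.lag_L₀)
    rwa [Cfsg.SameParityClass, H.lag_L₀.1] at this
  · intro h U hU
    have hU' := H.max_iff.mp hU
    rw [Cfsg.SameParityClass, hU'.1]
    exact (H.same_all g hg hU').mpr h

theorem pres_mul (hg : ∃ c : K, ∀ x, f (g.1 *ᵥ x) = c * f x) (hg' : ∃ c : K, ∀ x, f (g'.1 *ᵥ x) = c * f x) :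
    H.Pres (g * g') ↔ (H.Pres g ↔ H.Pres g') := by
  have hL := H.lag_L₀
  have h1 : ∀ U, H.Lag U → H.Lag (img g U) := fun U => H.img_lag g hg
  rw [Pres, img_mul, H.same_trans hL (h1 _ hL) (h1 _ (H.img_lag g' hg' hL)), H.same_img g]
  rfl

theorem pres_one : H.Pres 1 := by
  rw [Pres, img, Cfsg.imageSubmodule, Units.val_one, Matrix.toLin'_one, Submodule.map_id]
  exact H.same_self H.lag_L₀

theorem pres_refl [Fintype K] (Q : QuadraticForm K (ι → K)) (hQf : ∀ x, f x = Q x) {a : ι → K} (ha : Q a ≠ 0)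
    (hg : g.1 = Cfsg.reflectionMatrix (⇑Q) a) : ¬ H.Pres g := by
  classical
  have he : ∀ x, Qp M K (H.e x) = Q x := fun x => by rw [Qp_apply, H.hf, hQf]
  have hpol : ∀ x y, polar (Qp M K) (H.e x) (H.e y) = polar (⇑Q) x y := fun x y => by
    simp only [polar, ← map_add, he]
  set e' := H.e.toLinearMap with he'
  have hmap : (img g H.L₀).map e' = (H.L₀.map e').map
      (Matrix.mulVecLin (Cfsg.reflectionMatrix (⇑(Qp M K)) (H.e a))) := by
    rw [img, Cfsg.imageSubmodule, ← Submodule.map_comp, ← Submodule.map_comp]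
    congr 1
    refine LinearMap.ext fun x => ?_
    simp only [LinearMap.comp_apply, Matrix.toLin'_apply, Matrix.mulVecLin_apply, e', LinearEquiv.coe_coe, hg,
      PolarVec.reflection_mulVec, map_add, map_smul, he, hpol]
  have h := CfsgLib.OmegaLag.step (H.map_isLag H.lag_L₀) (v := H.e a) (by rwa [he])
  rw [← hmap, he', ← Submodule.map_inf (H.e.toLinearMap) H.e.injective, H.finrank_map] at h
  rw [Pres, Same]
  rintro ⟨k, hk⟩
  omega

theorem pres_swap (h : H.L₀ ⊓ img g H.L₀ = ⊥) : H.Pres g ↔ Even M := by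
  rw [Pres, Same, h, finrank_bot, Nat.sub_zero]

end Hyp

end CfsgLib.PGO
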