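import Mathlib
import Cfsg.Agent.Lib.SemisimpleIso.Norm
import Cfsg.Agent.Lib.CentralizerDet

/-!
A finite commutative algebra with involution and an invertible skew element, with an invariant nondegenerate trace
form: norms, a multiplier element of the expected determinant, and two orthogonal families whose reflection systems
compose to a multiplication of nonsquare spinor norm.
-/

set_option autoImplicit false
set_option linter.unusedSectionVars false
set_option linter.dupNamespace false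

namespace CfsgLib.PGO.Cyclic

open Module

variable {F : Type*} [Field F] {V : Type*} [AddCommGroup V] [Module F V]

/-- The orthogonal reflection system of a finite family. -/
def refls {κ : Type*} [Fintype κ] (B : LinearMap.BilinForm F V) (e : κ → V) (x : V) : V :=
  x - ∑ i, (2 * B (e i) x / B (e i) (e i)) • e i

/-- An algebra generated by an element `A` with involution `σ`, `σ A = A⁻¹`, and an invariant functional. -/
structure Datum (F : Type*) [Field F] (R : Type*) [CommRing R] [Algebra F R] where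
  σ : R →ₐ[F] R
  hσσ : ∀ z, σ (σ z) = z
  A : R
  hA : σ A * A = 1
  hgen : ∀ z, ∃ P : Polynomial F, z = Polynomial.aeval A P
  hτ : IsUnit (A - σ A)
  L : R →ₗ[F] F
  hL : ∀ z, L (σ z) = L z
  hnd : ∀ z, (∀ w, L (z * w) = 0) → z = 0

namespace Datum

variable {R : Type*} [CommRing R] [Algebra F R] (D : Datum F R)

/-- The form. -/
noncomputable def form : LinearMap.BilinForm F R :=
  LinearMap.mk₂ F (fun x y => D.L (D.σ x * y)) (fun x x' y => by rw [map_add, add_mul, map_add])
    (fun c x y => by rw [map_smul, smul_mul_assoc, map_smul]) (fun x y y' => by rw [mul_add, map_add])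
    (fun c x y => by rw [mul_smul_comm, map_smul])

theorem form_apply (x y : R) : D.form x y = D.L (D.σ x * y) := rfl

theorem form_symm (x y : R) : D.form x y = D.form y x := by
  rw [form_apply, form_apply, ← D.hL (D.σ x * y), map_mul, D.hσσ, mul_comm]

/-- The fixed algebra. -/
abbrev fixedAlg : Subalgebra F R := AlgHom.equalizer D.σ (AlgHom.id F R)

theorem mem_fixed {z : R} : z ∈ D.fixedAlg ↔ D.σ z = z := Iff.rfl

/-- The skew unit. -/
noncomputable def τu : Rˣ := D.hτ.unit

/-- The skew element. -/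
abbrev τ : R := D.A - D.σ D.A

theorem τu_val : (D.τu : R) = D.τ := rfl

theorem στ : D.σ D.τ = -D.τ := by rw [τ, map_sub, D.hσσ, neg_sub]

theorem στi : D.σ (D.τu⁻¹ : Rˣ).1 = -(D.τu⁻¹ : Rˣ).1 := by
  have e : D.σ (D.τu⁻¹ : Rˣ).1 * D.σ D.τ = 1 := by rw [← map_mul, ← τu_val, Units.inv_mul, map_one]
  rw [στ, ← τu_val] at e
  linear_combination (-(D.τu⁻¹ : Rˣ).1) * e - D.σ (D.τu⁻¹ : Rˣ).1 * D.τu.mul_inv

variable (h2 : (2 : F) ≠ 0)
include h2

theorem half_two : algebraMap F R (2 : F)⁻¹ * 2 = 1 := by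
  rw [show (2 : R) = algebraMap F R 2 from (map_ofNat _ 2).symm, ← map_mul, inv_mul_cancel₀ h2, map_one]

theorem decomp (z : R) : ∃ x y : D.fixedAlg, z = (x : R) + (y : R) * D.τ := by
  set k := algebraMap F R (2 : F)⁻¹
  have hk : D.σ k = k := D.σ.commutes _
  refine ⟨⟨k * (z + D.σ z), ?_⟩, ⟨k * (z - D.σ z) * (D.τu⁻¹ : Rˣ).1, ?_⟩, ?_⟩
  · rw [mem_fixed, map_mul, hk, map_add, D.hσσ, add_comm]
  · rw [mem_fixed, map_mul, map_mul, hk, D.στi, map_sub, D.hσσ]; ring
  · show z = k * (z + D.σ z) + k * (z - D.σ z) * (D.τu⁻¹ : Rˣ).1 * D.τ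
    rw [← τu_val, mul_assoc _ (D.τu⁻¹ : Rˣ).1, Units.inv_mul, mul_one]
    linear_combination (-z) * half_two (R := R) h2

theorem uniq (x y : D.fixedAlg) (h : (x : R) + (y : R) * D.τ = 0) : x = 0 ∧ y = 0 := by
  set k := algebraMap F R (2 : F)⁻¹
  have h' := congrArg D.σ h
  rw [map_add, map_mul, D.στ, map_zero, D.mem_fixed.mp x.2, D.mem_fixed.mp y.2] at h'
  have hx : (x : R) = 0 := by linear_combination k * h + k * h' - (x : R) * half_two (R := R) h2
  refine ⟨Subtype.ext hx, Subtype.ext ?_⟩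
  rw [hx, zero_add, ← τu_val] at h
  calc (y : R) = y * D.τu.1 * (D.τu⁻¹ : Rˣ).1 := by rw [mul_assoc, Units.mul_inv, mul_one]
    _ = 0 := by rw [h, zero_mul]

theorem exists_basis : ∃ b : Basis (Fin 2) D.fixedAlg R, b 0 = 1 ∧ b 1 = D.τ ∧
    ∀ x y : D.fixedAlg, b.repr ((x : R) + (y : R) * D.τ) 0 = x ∧ b.repr ((x : R) + (y : R) * D.τ) 1 = y := by
  let φ : (D.fixedAlg × D.fixedAlg) →ₗ[D.fixedAlg] R :=
    { toFun := fun p => (p.1 : R) + (p.2 : R) * D.τ
      map_add' := fun p q => by simp only [Prod.fst_add, Prod.snd_add, Subalgebra.coe_add]; ring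
      map_smul' := fun c p => by
        show ((c * p.1 : D.fixedAlg) : R) + ((c * p.2 : D.fixedAlg) : R) * D.τ = (c : R) * (p.1 + p.2 * D.τ)
        rw [Subalgebra.coe_mul, Subalgebra.coe_mul]; ring }
  let φe : (D.fixedAlg × D.fixedAlg) ≃ₗ[D.fixedAlg] R := LinearEquiv.ofBijective φ
    ⟨(injective_iff_map_eq_zero φ).mpr fun p hp => Prod.ext (D.uniq h2 p.1 p.2 hp).1 (D.uniq h2 p.1 p.2 hp).2,
      fun z => by obtain ⟨x, y, rfl⟩ := D.decomp h2 z; exact ⟨(x, y), rfl⟩⟩
  refine ⟨(Basis.finTwoProd D.fixedAlg).map φe, ?_, ?_, fun x y => ?_⟩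
  · rw [Basis.map_apply, Basis.finTwoProd_zero]
    show ((1 : D.fixedAlg) : R) + ((0 : D.fixedAlg) : R) * D.τ = 1
    simp
  · rw [Basis.map_apply, Basis.finTwoProd_one]
    show ((0 : D.fixedAlg) : R) + ((1 : D.fixedAlg) : R) * D.τ = D.τ
    simp
  have : φe.symm ((x : R) + (y : R) * D.τ) = (x, y) := φe.symm_apply_eq.mpr rfl
  simp [this]

theorem norm_fixedAlg (z : R) : ((Algebra.norm D.fixedAlg z : D.fixedAlg) : R) = z * D.σ z := by
  classical
  obtain ⟨b, hb0, hb1, hr⟩ := D.exists_basis h2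
  obtain ⟨x, y, rfl⟩ := D.decomp h2 z
  let T : D.fixedAlg := ⟨D.τ * D.τ, D.mem_fixed.mpr (by rw [map_mul, D.στ, neg_mul_neg])⟩
  have e1 : ((x : R) + (y : R) * D.τ) * D.τ = ((y * T : D.fixedAlg) : R) + (x : R) * D.τ := by
    rw [Subalgebra.coe_mul]; show _ = (y : R) * (D.τ * D.τ) + _; ring
  rw [Algebra.norm_eq_matrix_det b, Matrix.det_fin_two]
  simp only [Algebra.leftMulMatrix_eq_repr_mul, hb0, hb1, mul_one, e1]
  rw [(hr x y).1, (hr x y).2, (hr _ x).1, (hr _ x).2, map_add, map_mul, D.στ, D.mem_fixed.mp x.2,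
    D.mem_fixed.mp y.2]
  simp only [Subalgebra.coe_sub, Subalgebra.coe_mul]
  show (x : R) * x - y * (D.τ * D.τ) * y = _
  ring

variable [Fintype F] [FiniteDimensional F R] [Nontrivial R]

theorem finrank_eq : finrank F R = 2 * finrank F D.fixedAlg := by
  obtain ⟨b, -, -, -⟩ := D.exists_basis h2
  haveI : Module.Free D.fixedAlg R := Module.Free.of_basis b
  rw [← Module.finrank_mul_finrank F D.fixedAlg R, Module.finrank_eq_card_basis b, Fintype.card_fin, mul_comm]

omit h2 [Nontrivial R] in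
theorem exists_norm {c : R} (hc : IsUnit c) (hfix : D.σ c = c) : ∃ z : Rˣ, (z : R) * D.σ z = c := by
  obtain ⟨u, rfl⟩ := hc
  haveI : Finite R := Module.finite_of_finite F
  obtain ⟨z, -, hz⟩ := SemisimpleIso.exists_norm (σ := D.σ.toRingHom) D.hσσ (e := 1) (w := D.A)
    (t := (D.τu⁻¹ : Rˣ).1) (mul_one 1) (map_one _) (D.τu.mul_inv) (h := u)
    (by simp [SemisimpleIso.mem_corner]) hfix
  exact ⟨z, hz⟩

theorem exists_mult {ν : F} (hν : ν ≠ 0) :
    ∃ a : R, (∀ x, D.form (a * x) (a * x) = ν * D.form x x) ∧ Algebra.norm F a = ν ^ finrank F D.fixedAlg := by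
  obtain ⟨z, hz⟩ := D.exists_norm (c := algebraMap F R ν) ((Ne.isUnit hν).map _) (D.σ.commutes ν)
  obtain ⟨b, -, -, -⟩ := D.exists_basis h2
  haveI : Module.Free D.fixedAlg R := Module.Free.of_basis b
  refine ⟨z, fun x => ?_, ?_⟩
  · rw [form_apply, form_apply, map_mul D.σ, show D.σ z * D.σ x * (z * x) = (z * D.σ z : R) * (D.σ x * x) by ring, hz,
      ← Algebra.smul_def, map_smul, smul_eq_mul]
  · rw [← Algebra.norm_norm (S := D.fixedAlg),
      show Algebra.norm D.fixedAlg (z : R) = algebraMap F D.fixedAlg ν from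
        Subtype.ext ((D.norm_fixedAlg h2 _).trans hz), Algebra.norm_algebraMap]

/-- `A + σ A` in the fixed algebra. -/
def trA : D.fixedAlg := ⟨D.A + D.σ D.A, D.mem_fixed.mpr (by rw [map_add, D.hσσ, add_comm])⟩

theorem gen_fixed (y : D.fixedAlg) : ∃ p : Polynomial F, y = Polynomial.aeval D.trA p := by
  obtain ⟨P, hP⟩ := D.hgen y.1
  have key : ∀ P : Polynomial F, ∃ p q : Polynomial F, Polynomial.aeval D.A P =
      ((Polynomial.aeval D.trA p : D.fixedAlg) : R) + ((Polynomial.aeval D.trA q : D.fixedAlg) : R) * D.A := by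
    intro P
    induction P using Polynomial.induction_on with
    | C a =>
      refine ⟨Polynomial.C a, 0, ?_⟩
      simp only [Polynomial.aeval_C, map_zero, Subalgebra.coe_zero, zero_mul, add_zero]
      rfl
    | add P P' h h' =>
      obtain ⟨p, q, e⟩ := h
      obtain ⟨p', q', e'⟩ := h'
      refine ⟨p + p', q + q', ?_⟩
      rw [map_add, e, e']
      simp only [map_add, Subalgebra.coe_add]; ring
    | monomial n a h =>
      obtain ⟨p, q, e⟩ := h
      refine ⟨-q, p + Polynomial.X * q, ?_⟩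
      rw [pow_succ, ← mul_assoc, map_mul, Polynomial.aeval_X, e]
      simp only [map_add, map_neg, map_mul, Polynomial.aeval_X, Subalgebra.coe_add, Subalgebra.coe_neg,
        Subalgebra.coe_mul]
      rw [show ((D.trA : D.fixedAlg) : R) = D.A + D.σ D.A from rfl]
      linear_combination (-((Polynomial.aeval D.trA q : D.fixedAlg) : R)) * D.hA
  obtain ⟨p, q, e⟩ := key P
  rw [← hP] at e
  have e' := congrArg D.σ e
  rw [map_add, map_mul, D.mem_fixed.mp y.2, D.mem_fixed.mp (Polynomial.aeval D.trA p).2,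
    D.mem_fixed.mp (Polynomial.aeval D.trA q).2] at e'
  have h0 : ((0 : D.fixedAlg) : R) + ((Polynomial.aeval D.trA q : D.fixedAlg) : R) * D.τ = 0 := by
    rw [Subalgebra.coe_zero, τ]; linear_combination e' - e
  exact ⟨p, Subtype.ext (by rw [e, (D.uniq h2 0 _ h0).2]; simp)⟩

theorem exists_nonsquare_norm {N : ℕ} (hcop : Nat.Coprime (Fintype.card F) N) (hN : 0 < N) (hAN : D.A ^ N = 1)
    {ν : F} (hν : ν ≠ 0) : ∃ c : D.fixedAlg, IsUnit c ∧ Algebra.norm F c = ν := by
  set S0 := D.trA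
  let f0 : Module.End F D.fixedAlg := Algebra.lmul F D.fixedAlg S0
  haveI : Nontrivial D.fixedAlg := ⟨⟨0, 1, fun h => zero_ne_one (α := R) (congrArg Subtype.val h)⟩⟩
  have hf0 : f0.IsSemisimple := by
    obtain ⟨p, hp⟩ := CharP.exists F
    obtain ⟨k, hpp, hcard⟩ := FiniteField.card F p
    haveI := Fact.mk hpp
    haveI : CharP R p := charP_of_injective_algebraMap (algebraMap F R).injective p
    set Q := Fintype.card F ^ Nat.totient N
    have hQp : Q = p ^ ((k : ℕ) * Nat.totient N) := by rw [pow_mul, ← hcard]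
    have hQd : p ∣ Q := by
      rw [hQp]; exact dvd_pow_self p (Nat.mul_ne_zero k.ne_zero (Nat.totient_pos.2 hN).ne')
    have hAQ : D.A ^ Q = D.A := by
      have hm : Q % N = 1 % N := Nat.ModEq.pow_totient hcop
      conv_rhs => rw [← pow_one D.A, ← Nat.mod_add_div 1 N, pow_add, pow_mul, hAN, one_pow, mul_one]
      conv_lhs => rw [← Nat.mod_add_div Q N, pow_add, pow_mul, hAN, one_pow, mul_one]
      rw [hm]
    have hSQ : S0 ^ Q = S0 := Subtype.ext (by
      show (D.A + D.σ D.A) ^ Q = D.A + D.σ D.A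
      rw [hQp, add_pow_char_pow, ← hQp, ← map_pow, hAQ])
    refine Module.End.isSemisimple_of_squarefree_aeval_eq_zero
      (galois_poly_separable (K := F) p Q hQd).squarefree ?_
    show (Polynomial.aeval (Algebra.lmul F D.fixedAlg S0)) (Polynomial.X ^ Q - Polynomial.X) = 0
    rw [Polynomial.aeval_algHom_apply, map_sub, map_pow, Polynomial.aeval_X, hSQ, sub_self, map_zero]
  obtain ⟨g, hg, hgd⟩ := CentralizerDet.exists_det_of_semisimple f0 hf0 (Units.mk0 ν hν)
  set c := g 1 with hc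
  have hgl : g = Algebra.lmul F D.fixedAlg c := by
    refine LinearMap.ext fun y => ?_
    obtain ⟨p, rfl⟩ := D.gen_fixed h2 y
    induction p using Polynomial.induction_on with
    | C a =>
      rw [Polynomial.aeval_C, Algebra.algebraMap_eq_smul_one, map_smul, map_smul, ← hc]
      simp [Algebra.lmul]
    | add p q hp hq => simp only [map_add, hp, hq]
    | monomial n a ih =>
      rw [pow_succ, ← mul_assoc, map_mul, Polynomial.aeval_X, mul_comm]
      have := LinearMap.congr_fun hg.eq (Polynomial.aeval S0 (Polynomial.C a * Polynomial.X ^ n))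
      simp only [Module.End.mul_apply, f0] at this
      rw [show S0 * Polynomial.aeval S0 (Polynomial.C a * Polynomial.X ^ n) =
        Algebra.lmul F D.fixedAlg S0 (Polynomial.aeval S0 (Polynomial.C a * Polynomial.X ^ n)) from rfl, this, ih]
      simp [Algebra.lmul, mul_left_comm, S0]
  have hNc : Algebra.norm F c = ν := by rw [Algebra.norm_apply, ← hgl, hgd]; rfl
  refine ⟨c, ?_, hNc⟩
  haveI : Finite D.fixedAlg := Module.finite_of_finite F
  have hinj : Function.Injective (Algebra.lmul F D.fixedAlg c) := by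
    rw [← LinearMap.ker_eq_bot]
    by_contra hne
    have hdet := LinearMap.det_eq_zero_iff_ker_ne_bot.mpr hne
    rw [← Algebra.norm_apply, hNc] at hdet
    exact hν hdet
  obtain ⟨t, ht⟩ := (Finite.injective_iff_surjective.1 hinj) 1
  exact IsUnit.of_mul_eq_one t ht

theorem odd_even (y x : D.fixedAlg) : D.form ((y : R) * D.τ) x = 0 := by
  have h1 := D.form_symm ((y : R) * D.τ) x
  rw [form_apply, form_apply, map_mul D.σ, D.στ, D.mem_fixed.mp x.2, D.mem_fixed.mp y.2,
    show (y : R) * -D.τ * x = -((x : R) * (y * D.τ)) by ring, map_neg, neg_eq_iff_add_eq_zero, ← two_mul] at h1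
  rw [form_apply, map_mul D.σ, D.στ, D.mem_fixed.mp y.2, show (y : R) * -D.τ * x = -((x : R) * (y * D.τ)) by ring,
    map_neg, (mul_eq_zero.mp h1).resolve_left h2, neg_zero]

theorem exists_refl_pair {N : ℕ} (hcop : Nat.Coprime (Fintype.card F) N) (hN : 0 < N) (hAN : D.A ^ N = 1)
    {ν : F} (hν : ν ≠ 0) (hνs : ¬ IsSquare ν) :
    ∃ (d : ℕ) (e e' : Fin d → R) (h : R), (∀ i, D.form (e i) (e i) ≠ 0) ∧ (∀ i, D.form (e' i) (e' i) ≠ 0) ∧
      (∀ i j, i ≠ j → D.form (e i) (e j) = 0) ∧ (∀ i j, i ≠ j → D.form (e' i) (e' j) = 0) ∧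
      (∀ x, refls D.form e' (refls D.form e x) = h * x) ∧
      ¬ IsSquare ((∏ i, D.form (e i) (e i)) * ∏ i, D.form (e' i) (e' i)) := by
  classical
  obtain ⟨c, hcu, hNc⟩ := D.exists_nonsquare_norm h2 hcop hN hAN hν
  obtain ⟨z, hz⟩ := D.exists_norm (c := (c : R)) (hcu.map D.fixedAlg.val) (D.mem_fixed.mp c.2)
  let ψ : D.fixedAlg →ₗ[F] R := (LinearMap.mulRight F D.τ).comp D.fixedAlg.val.toLinearMap
  let B0 : LinearMap.BilinForm F D.fixedAlg := D.form.compl₁₂ ψ ψ
  have hB0 : ∀ y y', B0 y y' = D.form ((y : R) * D.τ) ((y' : R) * D.τ) := fun _ _ => rfl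
  let Bc : LinearMap.BilinForm F D.fixedAlg := B0.compLeft (Algebra.lmul F D.fixedAlg c)
  have hBc : ∀ y y', Bc y y' = B0 (c * y) y' := fun _ _ => rfl
  have hB0s : LinearMap.IsSymm B0 := ⟨fun y y' => D.form_symm _ _⟩
  have hBcs : LinearMap.IsSymm Bc := ⟨fun y y' => by
    show B0 (c * y) y' = B0 (c * y') y
    simp only [hB0, form_apply, map_mul, Subalgebra.coe_mul, D.mem_fixed.mp c.2, D.mem_fixed.mp y.2,
      D.mem_fixed.mp y'.2, D.στ]
    congr 1; ring⟩
  haveI : Invertible (2 : F) := invertibleOfNonzero h2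
  obtain ⟨e0, he0⟩ := LinearMap.BilinForm.exists_orthogonal_basis hB0s
  obtain ⟨e1, he1⟩ := LinearMap.BilinForm.exists_orthogonal_basis hBcs
  have he0' : ∀ i j, i ≠ j → B0 (e0 i) (e0 j) = 0 := fun i j hij => he0 hij
  have he1' : ∀ i j, i ≠ j → Bc (e1 i) (e1 j) = 0 := fun i j hij => he1 hij
  have hnd : ∀ y : D.fixedAlg, (∀ y', B0 y y' = 0) → y = 0 := by
    intro y hy
    have hall : ∀ w : R, D.L (D.σ ((y : R) * D.τ) * w) = 0 := fun w => by
      obtain ⟨x', y', rfl⟩ := D.decomp h2 w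
      rw [← form_apply, map_add, D.odd_even h2, zero_add]
      exact hy y'
    have h1 : (y : R) * D.τ = 0 := by
      rw [← D.hσσ ((y : R) * D.τ), D.hnd _ hall, map_zero]
    exact (D.uniq h2 0 y (by rw [Subalgebra.coe_zero, zero_add, h1])).2
  have hdiag : ∀ {n : ℕ} (b : Basis (Fin n) F D.fixedAlg) (C : LinearMap.BilinForm F D.fixedAlg),
      (∀ i j, i ≠ j → C (b i) (b j) = 0) → ∀ y i, C (b i) y = C (b i) (b i) * b.repr y i := by
    intro n b C hC y i
    conv_lhs => rw [← b.sum_repr y, map_sum, Finset.sum_eq_single i (fun j _ hj => by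
      rw [map_smul, hC i j hj.symm, smul_zero]) (by simp), map_smul, smul_eq_mul, mul_comm]
  have hd0 : ∀ i, B0 (e0 i) (e0 i) ≠ 0 := fun i hi => e0.ne_zero i (hnd _ fun y' => by
    rw [hdiag e0 B0 he0', hi, zero_mul])
  have hd1 : ∀ i, Bc (e1 i) (e1 i) ≠ 0 := fun i hi => e1.ne_zero i (hcu.mul_right_eq_zero.mp (hnd _ fun y' => by
    rw [← hBc, hdiag e1 Bc he1', hi, zero_mul]))
  let e : Fin (finrank F D.fixedAlg) → R := fun i => (e0 i : R) * D.τ
  let e' : Fin (finrank F D.fixedAlg) → R := fun i => (z : R) * ((e1 i : R) * D.τ)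
  have hzB : ∀ (y w : R), D.form ((z : R) * y) ((z : R) * w) = D.form ((c : R) * y) w := by
    intro y w
    rw [form_apply, form_apply, map_mul D.σ, map_mul D.σ, D.mem_fixed.mp c.2, ← hz]
    congr 1; ring
  have he'B : ∀ i j, D.form (e' i) (e' j) = Bc (e1 i) (e1 j) := fun i j => by
    rw [hzB, hBc, hB0, Subalgebra.coe_mul, mul_assoc]
  have hP : ∀ x, refls D.form e x = D.σ x := by
    intro x
    obtain ⟨p, q, rfl⟩ := D.decomp h2 x
    have hcoef : ∀ i, 2 * D.form (e i) ((p : R) + q * D.τ) / D.form (e i) (e i) = 2 * e0.repr q i := fun i => by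
      rw [map_add, D.odd_even h2, zero_add, ← hB0, show D.form (e i) (e i) = B0 (e0 i) (e0 i) from rfl,
        hdiag e0 B0 he0']
      have := hd0 i
      field_simp
    have hsum : ∑ i, (2 * e0.repr q i) • e i = (2 : F) • ψ q := by
      conv_rhs => rw [← e0.sum_repr q, map_sum, Finset.smul_sum]
      exact Finset.sum_congr rfl fun i _ => by rw [map_smul, smul_smul]; rfl
    rw [refls, Finset.sum_congr rfl (fun i _ => by rw [hcoef i]), hsum, map_add, map_mul, D.στ, D.mem_fixed.mp p.2,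
      D.mem_fixed.mp q.2]
    show (p : R) + q * D.τ - (2 : F) • ((q : R) * D.τ) = _
    rw [two_smul]; ring
  have hP' : ∀ x, refls D.form e' ((z : R) * x) = (z : R) * D.σ x := by
    intro x
    obtain ⟨p, q, rfl⟩ := D.decomp h2 x
    have hcoef : ∀ i, 2 * D.form (e' i) ((z : R) * ((p : R) + q * D.τ)) / D.form (e' i) (e' i) = 2 * e1.repr q i := by
      intro i
      rw [hzB, map_add, ← mul_assoc, ← Subalgebra.coe_mul, D.odd_even h2, zero_add, he'B, ← hB0, ← hBc,
        hdiag e1 Bc he1']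
      have := hd1 i
      field_simp
    have hsum : ∑ i, (2 * e1.repr q i) • e' i = (2 : F) • ((z : R) * ψ q) := by
      conv_rhs => rw [← e1.sum_repr q, map_sum, Finset.mul_sum, Finset.smul_sum]
      exact Finset.sum_congr rfl fun i _ => by rw [map_smul, mul_smul_comm, smul_smul]; rfl
    rw [refls, Finset.sum_congr rfl (fun i _ => by rw [hcoef i]), hsum, map_add, map_mul, D.στ, D.mem_fixed.mp p.2,
      D.mem_fixed.mp q.2]
    show (z : R) * ((p : R) + q * D.τ) - (2 : F) • ((z : R) * ((q : R) * D.τ)) = _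
    rw [two_smul]; ring
  refine ⟨_, e, e', (z : R) * D.σ (z⁻¹ : Rˣ).1, hd0, fun i => by rw [he'B]; exact hd1 i, he0',
    fun i j hij => by rw [he'B]; exact he1' i j hij, fun x => ?_, ?_⟩
  · rw [hP, show D.σ x = (z : R) * ((z⁻¹ : Rˣ).1 * D.σ x) by rw [← mul_assoc, Units.mul_inv, one_mul], hP',
      map_mul, D.hσσ, mul_assoc]
  · simp only [he'B]
    show ¬ IsSquare ((∏ i, B0 (e0 i) (e0 i)) * ∏ i, Bc (e1 i) (e1 i))
    have hdet : ∀ (b : Basis (Fin (finrank F D.fixedAlg)) F D.fixedAlg) (C : LinearMap.BilinForm F D.fixedAlg),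
        (∀ i j, i ≠ j → C (b i) (b j) = 0) → (LinearMap.BilinForm.toMatrix b C).det = ∏ i, C (b i) (b i) := by
      intro b C hC
      rw [show LinearMap.BilinForm.toMatrix b C = Matrix.diagonal fun i => C (b i) (b i) from ?_, Matrix.det_diagonal]
      ext i j
      rw [LinearMap.BilinForm.toMatrix_apply, Matrix.diagonal_apply]
      split_ifs with h
      · rw [h]
      · exact hC i j h
    have h1 := hdet e1 Bc he1'
    rw [← LinearMap.BilinForm.toMatrix_mul_basis_toMatrix (b := e0) (c := e1), Matrix.det_mul, Matrix.det_mul,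
      Matrix.det_transpose, show LinearMap.BilinForm.toMatrix e0 Bc = _ from
        LinearMap.BilinForm.toMatrix_compLeft e0 _ (Algebra.lmul F D.fixedAlg c), Matrix.det_mul, Matrix.det_transpose,
      LinearMap.det_toMatrix, ← Algebra.norm_apply, hNc, hdet e0 B0 he0'] at h1
    rw [← h1]
    rintro ⟨t, ht⟩
    set P := (e0.toMatrix ⇑e1).det
    set DD := ∏ i, B0 (e0 i) (e0 i)
    have hP0 : P ≠ 0 := by
      intro h
      rw [h] at h1
      exact Finset.prod_ne_zero_iff.mpr (fun i _ => hd1 i) (by rw [← h1]; ring)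
    have hD0 : DD ≠ 0 := Finset.prod_ne_zero_iff.mpr fun i _ => hd0 i
    exact hνs ⟨t / (P * DD), by field_simp; linear_combination ht⟩

end Datum

end CfsgLib.PGO.Cyclic
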