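import Mathlib

/-!
Recognition of the groups of order at most eight generated by two involutions, and descent of homomorphisms
to images.
-/

set_option autoImplicit false

namespace CfsgLib.PGO

variable {Y : Type*} [Group Y]

/-- Power with exponent modulo `n`. -/
def pw {n : ℕ} (u : Y) (i : ZMod n) : Y := u ^ i.val

theorem pw_add {n : ℕ} [NeZero n] {u : Y} (hu : u ^ n = 1) (i j : ZMod n) : pw u (i + j) = pw u i * pw u j := by
  rw [pw, pw, pw, ← pow_add, ZMod.val_add, ← pow_eq_pow_mod _ hu]

theorem pw_zero {n : ℕ} [NeZero n] (u : Y) : pw u (0 : ZMod n) = 1 := by simp [pw]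

theorem pw_injective {n : ℕ} [NeZero n] {u : Y} (hu : orderOf u = n) : Function.Injective (pw (n := n) u) := by
  intro i j h
  refine ZMod.val_injective n ?_
  exact pow_injOn_Iio_orderOf (by rw [hu]; exact Set.mem_Iio.mpr i.val_lt)
    (by rw [hu]; exact Set.mem_Iio.mpr j.val_lt) h

/-- A cyclic group of known order. -/
theorem exists_cyclic {n : ℕ} [NeZero n] {u : Y} (hu : orderOf u = n)
    (hgen : ∀ y : Y, y ∈ Subgroup.zpowers u) : Nonempty (Multiplicative (ZMod n) ≃* Y) := by
  have hp : u ^ n = 1 := hu ▸ pow_orderOf_eq_one u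
  let f : Multiplicative (ZMod n) →* Y := MonoidHom.mk' (fun i => pw u (Multiplicative.toAdd i))
    fun i j => pw_add hp _ _
  refine ⟨MulEquiv.ofBijective f ⟨fun i j h => Multiplicative.toAdd.injective (pw_injective hu h), fun y => ?_⟩⟩
  obtain ⟨k, rfl⟩ := hgen y
  refine ⟨Multiplicative.ofAdd (k : ZMod n), ?_⟩
  show u ^ (k : ZMod n).val = u ^ k
  rw [← zpow_natCast, ZMod.val_intCast, ← zpow_mod_orderOf u k, hu]

theorem mul4 {a c b d : Y} (h : Commute b c) : a * b * (c * d) = a * c * (b * d) := by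
  rw [mul_assoc a b, ← mul_assoc b c d, h.eq, mul_assoc c b d, ← mul_assoc a c]

/-- The four-group. -/
theorem exists_four {x y : Y} (hx : x * x = 1) (hy : y * y = 1) (hxy : x * y = y * x) (hx1 : x ≠ 1)
    (hy1 : y ≠ 1) (hne : x ≠ y) (hgen : ∀ g : Y, g = 1 ∨ g = x ∨ g = y ∨ g = x * y) :
    Nonempty (Multiplicative (ZMod 2 × ZMod 2) ≃* Y) := by
  have hx2 : x ^ 2 = 1 := by rw [pow_two, hx]
  have hy2 : y ^ 2 = 1 := by rw [pow_two, hy]
  have hc : Commute x y := hxy
  let f : Multiplicative (ZMod 2 × ZMod 2) →* Y := MonoidHom.mk'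
    (fun i => pw x (Multiplicative.toAdd i).1 * pw y (Multiplicative.toAdd i).2) fun i j => by
      simp only [toAdd_mul, Prod.fst_add, Prod.snd_add, pw_add hx2, pw_add hy2]
      exact mul4 (hc.pow_pow _ _)
  refine ⟨MulEquiv.ofBijective f ⟨(injective_iff_map_eq_one f).mpr fun i h => ?_, fun g => ?_⟩⟩
  · have hxyne : x * y ≠ 1 := fun e => hne (by
      calc x = x * (y * y) := by rw [hy, mul_one]
        _ = y := by rw [← mul_assoc, e, one_mul])
    obtain ⟨a, b⟩ := i
    replace h : pw x a * pw y b = 1 := h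
    fin_cases a <;> fin_cases b <;> simp_all [pw, ZMod.val] <;> rfl
  · rcases hgen g with h | h | h | h <;> rw [h]
    · exact ⟨1, map_one f⟩
    · exact ⟨Multiplicative.ofAdd (1, 0), by
        show pw x _ * pw y _ = _
        norm_num [pw, show (1 : ZMod 2).val = 1 from rfl, show (0 : ZMod 2).val = 0 from rfl]⟩
    · exact ⟨Multiplicative.ofAdd (0, 1), by
        show pw x _ * pw y _ = _
        norm_num [pw, show (1 : ZMod 2).val = 1 from rfl, show (0 : ZMod 2).val = 0 from rfl]⟩
    · exact ⟨Multiplicative.ofAdd (1, 1), by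
        show pw x _ * pw y _ = _
        norm_num [pw, show (1 : ZMod 2).val = 1 from rfl, show (0 : ZMod 2).val = 0 from rfl]⟩

theorem word_cases {x u : Y} (hx : x * x = 1) (hxu : x * u * x = u⁻¹)
    (hgen : Subgroup.closure ({x, u} : Set Y) = ⊤) (g : Y) :
    g ∈ Subgroup.zpowers u ∨ x * g ∈ Subgroup.zpowers u := by
  have hinv : x⁻¹ = x := inv_eq_of_mul_eq_one_right hx
  have hconj : ∀ w ∈ Subgroup.zpowers u, x * w * x ∈ Subgroup.zpowers u := by
    rintro w ⟨k, rfl⟩
    have h := conj_zpow (i := k) (a := x) (b := u)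
    rw [hinv, hxu] at h
    exact h ▸ zpow_mem (inv_mem (Subgroup.mem_zpowers u)) k
  have hmem : g ∈ Subgroup.closure ({x, u} : Set Y) := hgen ▸ Subgroup.mem_top g
  induction hmem using Subgroup.closure_induction with
  | mem y hy =>
    rcases hy with rfl | rfl
    · exact Or.inr (by rw [hx]; exact one_mem _)
    · exact Or.inl (Subgroup.mem_zpowers _)
  | one => exact Or.inl (one_mem _)
  | mul a b _ _ ha hb =>
    rcases ha with ha | ha <;> rcases hb with hb | hb
    · exact Or.inl (mul_mem ha hb)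
    · refine Or.inr ?_
      have := mul_mem (hconj a ha) hb
      rwa [show x * a * x * (x * b) = x * (a * b) by rw [mul_assoc (x * a), ← mul_assoc x x b, hx, one_mul,
        mul_assoc]] at this
    · exact Or.inr (by rw [← mul_assoc]; exact mul_mem ha hb)
    · refine Or.inl ?_
      have := mul_mem (hconj _ ha) hb
      rwa [show x * (x * a) * x * (x * b) = a * b by
        rw [← mul_assoc x x a, hx, one_mul, mul_assoc a, ← mul_assoc x x b, hx, one_mul]] at this
  | inv a _ ha =>
    rcases ha with ha | ha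
    · exact Or.inl (inv_mem ha)
    · refine Or.inr ?_
      have := inv_mem (hconj _ ha)
      rwa [← mul_assoc x x a, hx, one_mul, mul_inv_rev, hinv] at this

/-- The dihedral group of order eight. -/
theorem exists_dihedral {x u : Y} (hx : x * x = 1) (hxu : x * u * x = u⁻¹) (hu : orderOf u = 4)
    (hxn : x ∉ Subgroup.zpowers u) (hgen : Subgroup.closure ({x, u} : Set Y) = ⊤) :
    Nonempty (DihedralGroup 4 ≃* Y) := by
  have hp : u ^ 4 = 1 := hu ▸ pow_orderOf_eq_one u
  have hinv : x⁻¹ = x := inv_eq_of_mul_eq_one_right hx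
  have hflip : ∀ i : ZMod 4, x * pw u i = pw u (-i) * x := fun i => by
    have h1 : pw u (-i) = (pw u i)⁻¹ := eq_inv_of_mul_eq_one_left (by rw [← pw_add hp, neg_add_cancel, pw_zero])
    have h2 := conj_pow (i := i.val) (a := x) (b := u)
    rw [hinv, hxu, inv_pow] at h2
    rw [h1]
    calc x * pw u i = x * u ^ i.val * (x * x) := by rw [hx, mul_one]; rfl
      _ = _ := by rw [← mul_assoc, ← h2]; rfl
  have hflip' : ∀ i : ZMod 4, pw u i * x = x * pw u (-i) := fun i => by rw [hflip, neg_neg]
  let f : DihedralGroup 4 →* Y := MonoidHom.mk' (fun d => match d with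
    | .r i => pw u i
    | .sr i => x * pw u i) fun a b => by
      cases a <;> cases b <;> rename_i i j
      · simp only [DihedralGroup.r_mul_r, pw_add hp]
      · simp only [DihedralGroup.r_mul_sr]
        rw [← mul_assoc, hflip' i, mul_assoc, ← pw_add hp]
        congr 2; ring
      · simp only [DihedralGroup.sr_mul_r, pw_add hp, mul_assoc]
      · simp only [DihedralGroup.sr_mul_sr]
        rw [hflip i, mul_assoc, ← mul_assoc x x, hx, one_mul, ← pw_add hp]
        congr 1; ring
  refine ⟨MulEquiv.ofBijective f ⟨(injective_iff_map_eq_one f).mpr fun d h => ?_, fun y => ?_⟩⟩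
  · cases d with
    | r i =>
      have : i = 0 := pw_injective hu (h.trans (pw_zero u).symm)
      rw [this]; rfl
    | sr i =>
      refine absurd ?_ hxn
      rw [eq_inv_of_mul_eq_one_left (show x * pw u i = 1 from h)]
      exact inv_mem (pow_mem (Subgroup.mem_zpowers u) _)
  · have hpow : ∀ k : ℤ, pw u (k : ZMod 4) = u ^ k := fun k => by
      rw [pw, ← zpow_natCast, ZMod.val_intCast, ← zpow_mod_orderOf u k, hu]
    rcases word_cases hx hxu hgen y with ⟨k, hk⟩ | ⟨k, hk⟩
    · exact ⟨.r k, (hpow k).trans hk⟩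
    · refine ⟨.sr k, ?_⟩
      show x * pw u (k : ZMod 4) = y
      rw [hpow k, show u ^ k = x * y from hk, ← mul_assoc, hx, one_mul]

/-- A homomorphism whose kernel contains that of `Θ` descends to the image of `Θ`. -/
theorem descend {G M C : Type*} [Group G] [Group M] [Group C] (Θ : G →* M) (f : G →* C)
    (hf : Function.Surjective f) (hker : Θ.ker ≤ f.ker) {A T : Subgroup M} (hA : Θ.range = A)
    (hT : f.ker.map Θ = T) :
    ∃ φ : A →* C, Function.Surjective φ ∧ φ.ker = T.subgroupOf A := by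
  subst hA
  let φ : Θ.range →* C := Θ.rangeRestrict.liftOfSurjective Θ.rangeRestrict_surjective
    ⟨f, by rwa [MonoidHom.ker_rangeRestrict]⟩
  have hφ : ∀ g, φ (Θ.rangeRestrict g) = f g := fun g =>
    MonoidHom.liftOfRightInverse_comp_apply _ _ _ _ g
  refine ⟨φ, fun c => ?_, ?_⟩
  · obtain ⟨g, rfl⟩ := hf c
    exact ⟨_, hφ g⟩
  · ext a
    obtain ⟨g, rfl⟩ := Θ.rangeRestrict_surjective a
    rw [MonoidHom.mem_ker, hφ, Subgroup.mem_subgroupOf, ← hT, MonoidHom.coe_rangeRestrict]
    constructor
    · exact fun h => ⟨g, h, rfl⟩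
    · rintro ⟨g', hg', e⟩
      have h1 : g'⁻¹ * g ∈ f.ker := hker (by rw [MonoidHom.mem_ker, map_mul, map_inv, e, inv_mul_cancel])
      have h2 := mul_mem hg' h1
      rwa [mul_inv_cancel_left] at h2

end CfsgLib.PGO
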