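import Cfsg.Agent.Lib.PGO.SemisimplePiece
import Cfsg.Agent.Lib.PGO.GraphSplit

/-!
Classes of semisimple elements of odd prime order in the projective conformal orthogonal group.
-/

set_option autoImplicit false
set_option linter.dupNamespace false
set_option linter.unusedSectionVars false

namespace CfsgLib.PGO

open QuadraticMap Module CfsgLib.SpinorNorm CfsgLib.SpinorMatrix CfsgLib.OmegaList
open scoped Matrix

variable {F : Type*} [Field F] [Fintype F] {ι : Type} [Fintype ι] [DecidableEq ι]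
  {Q : QuadraticForm F (ι → F)}

theorem RP_orth : ∀ (vs : List (ι → F)), vs.Pairwise (fun a b => polar (⇑Q) a b = 0) → ∀ x : ι → F,
    RP Q vs *ᵥ x = x - (vs.map fun v => ((Q v)⁻¹ * polar (⇑Q) v x) • v).sum := by
  intro vs
  induction vs with
  | nil => intro _ x; simp [RP]
  | cons a t ih =>
    intro hp x
    rw [List.pairwise_cons] at hp
    have e : RP Q (a :: t) = Cfsg.reflectionMatrix (⇑Q) a * RP Q t := by simp [RP]
    have hz : ∀ l : List (ι → F), (∀ v ∈ l, polar (⇑Q) a v = 0) →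
        polar (⇑Q) a ((l.map fun v => ((Q v)⁻¹ * polar (⇑Q) v x) • v).sum) = 0 := by
      intro l
      induction l with
      | nil => intro _; simp
      | cons b l ihl =>
        intro hl
        rw [List.map_cons, List.sum_cons, polar_add_right, polar_smul_right, hl b List.mem_cons_self,
          ihl fun v hv => hl v (List.mem_cons_of_mem _ hv), smul_zero, add_zero]
    rw [e, ← Matrix.mulVec_mulVec, ih hp.2, PolarVec.reflection_mulVec, polar_sub_right, hz t hp.1, sub_zero,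
      List.map_cons, List.sum_cons, neg_smul]
    abel

theorem RP_family (h2 : (2 : F) ≠ 0) {d : ℕ} (e : Fin d → ι → F)
    (ho : ∀ i j, i ≠ j → polar (⇑Q) (e i) (e j) = 0) (x : ι → F) :
    RP Q (List.ofFn e) *ᵥ x = Cyclic.refls (polarBilin Q) e x := by
  rw [RP_orth _ (List.pairwise_ofFn.mpr fun i j hij => ho i j hij.ne), List.map_ofFn, List.sum_ofFn, Cyclic.refls]
  congr 1
  refine Finset.sum_congr rfl fun i _ => ?_
  simp only [Function.comp_apply, polarBilin_apply_apply, PolarVec.polar_self]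
  congr 1
  rw [mul_div_mul_left _ _ h2, div_eq_inv_mul]

namespace Data

variable (D : Data Q)
include D

theorem setup {s : GL ι F} (hs : s ∈ Cfsg.isometryGroup F ⇑Q) {r : ℕ} (hr : Odd r) (hsr : s ^ r = 1)
    (hcop : Nat.Coprime (Fintype.card F) r) : Cyclic.Setup (polarBilin Q) s.1.mulVecLin r where
  hB := D.hQ
  hsym x y := polar_comm _ x y
  h2 := D.h2
  hiso x y := by
    have h := sim_polar (Q := Q) s (c := 1) (fun v => by rw [one_mul]; exact hs v v) x y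
    rw [one_mul] at h
    exact h
  hr := hr
  hfr := by
    have h : (Matrix.toLinAlgEquiv' : Matrix ι ι F ≃ₐ[F] _) (s.1 ^ r) = 1 := by
      rw [← Units.val_pow_eq_pow_val, hsr, Units.val_one, map_one]
    rw [map_pow] at h
    exact h
  hcop := hcop

theorem exists_prop_commute {s : GL ι F} (hs : s ∈ Cfsg.isometryGroup F ⇑Q) {r : ℕ} (hr : Odd r) (hsr : s ^ r = 1)
    (hcop : Nat.Coprime (Fintype.card F) r) :
    ∃ a : GO Q, a ∈ propSub Q ∧ (∀ x, Q (a.1.1 *ᵥ x) = (D.ν : F) * Q x) ∧ a.1 * s = s * a.1 := by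
  obtain ⟨a, ha, haq, had⟩ := Cyclic.exists_mult_aux D.ν.ne_zero D.hν (half ι) (D.setup hs hr hsr hcop)
    (by rw [Module.finrank_fintype_fun_eq_card]; exact D.card_eq)
  set A := LinearMap.toMatrix' a
  have hA : A.det ≠ 0 := by
    rw [LinearMap.det_toMatrix', had]; exact pow_ne_zero _ D.ν.ne_zero
  have hu : IsUnit A := (Matrix.isUnit_iff_isUnit_det A).mpr (Ne.isUnit hA)
  have hv : ∀ x, A *ᵥ x = a x := fun x => LinearMap.toMatrix'_mulVec a x
  have hq : ∀ x, Q (hu.unit.1 *ᵥ x) = (D.ν : F) * Q x := fun x => by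
    have h := haq x
    rw [polarBilin_apply_apply, polarBilin_apply_apply, PolarVec.polar_self, PolarVec.polar_self] at h
    rw [IsUnit.unit_spec, hv]
    exact mul_left_cancel₀ D.h2 (by linear_combination h)
  refine ⟨⟨hu.unit, D.ν, hq⟩, ⟨D.ν, hq, ?_⟩, hq, Units.ext (Matrix.ext_of_mulVec_single fun i => ?_)⟩
  · show hu.unit.1.det = _
    rw [IsUnit.unit_spec, LinearMap.det_toMatrix', had]
  · rw [Units.val_mul, Units.val_mul, IsUnit.unit_spec, ← Matrix.mulVec_mulVec, ← Matrix.mulVec_mulVec, hv, hv]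
    exact LinearMap.congr_fun ha.eq _

theorem exists_spinor_commute {s : GL ι F} (hs : s ∈ Cfsg.isometryGroup F ⇑Q) (hs1 : s ≠ 1) {r : ℕ} (hr : Odd r)
    (hsr : s ^ r = 1) (hcop : Nat.Coprime (Fintype.card F) r) :
    ∃ o : Cfsg.isometryGroup F ⇑Q, o.1.1.det = 1 ∧ o ∉ Cfsg.Omega F ⇑Q ∧ o.1 * s = s * o.1 := by
  have hne : s.1.mulVecLin ≠ 1 := fun h => hs1 (Units.ext (Matrix.ext_of_mulVec_single fun i => by
    rw [Units.val_one, Matrix.one_mulVec]; exact LinearMap.congr_fun h _))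
  obtain ⟨d, e, e', h, hh, h1, h2, h3, h4, h5, h6⟩ :=
    Cyclic.exists_pair (D.setup hs hr hsr hcop) hne D.ν.ne_zero D.hν
  have hQe : ∀ i, polarBilin Q (e i) (e i) = 2 * Q (e i) := fun i => PolarVec.polar_self Q _
  have hQe' : ∀ i, polarBilin Q (e' i) (e' i) = 2 * Q (e' i) := fun i => PolarVec.polar_self Q _
  set L := List.ofFn e' ++ List.ofFn e with hL
  have hv : ∀ v ∈ L, Q v ≠ 0 := by
    intro v hv h0
    rcases List.mem_append.mp hv with hm | hm <;> obtain ⟨i, rfl⟩ := List.mem_ofFn.mp hm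
    · exact h2 i (by rw [hQe', h0, mul_zero])
    · exact h1 i (by rw [hQe, h0, mul_zero])
  obtain ⟨o, ho⟩ := exists_iso Q L hv
  have hmv : ∀ x, o.1.1 *ᵥ x = h x := fun x => by
    rw [ho, RP_append, ← Matrix.mulVec_mulVec, RP_family D.h2 e h3, RP_family D.h2 e' h4, h5]
  refine ⟨o, ?_, fun hO => h6 ?_, Units.ext (Matrix.ext_of_mulVec_single fun i => ?_)⟩
  · rw [ho, det_RP L hv, hL, List.length_append, List.length_ofFn, List.length_ofFn]
    exact (Even.add_self d).neg_one_pow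
  · have hsq := ((omega_iff_list Q D.hc D.hQ o L hv ho).mp hO).2
    rw [hL, QP_append, QP, QP, List.map_ofFn, List.map_ofFn, List.prod_ofFn, List.prod_ofFn] at hsq
    simp only [hQe, hQe', Finset.prod_mul_distrib, Finset.prod_const, Finset.card_univ, Fintype.card_fin]
    obtain ⟨t, ht⟩ := hsq
    simp only [Function.comp_apply] at ht
    exact ⟨2 ^ d * t, by linear_combination (2 ^ d * 2 ^ d : F) * ht⟩
  · rw [Units.val_mul, Units.val_mul, ← Matrix.mulVec_mulVec, ← Matrix.mulVec_mulVec, hmv, hmv]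
    exact LinearMap.congr_fun hh.eq _

theorem exists_lift {x : MulAut (Cfsg.POmega F ⇑Q)} (hx : x ∈ Cfsg.pgoAut F ⇑Q) {r : ℕ} (hr : Odd r)
    (hxr : x ^ r = 1) :
    ∃ s : Cfsg.isometryGroup F ⇑Q, x = Θ Q (toGO s) ∧ s.1 ^ r = 1 := by
  rw [pgoAut_eq] at hx
  obtain ⟨g, rfl⟩ := hx
  have h2 : g * g ∈ Hs Q := by
    obtain ⟨e⟩ := D.pso_four
    rw [← QuotientGroup.eq_one_iff]
    obtain ⟨q, hq⟩ := e.surjective (QuotientGroup.mk g)
    rw [QuotientGroup.mk_mul, ← hq, ← map_mul]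
    refine (congrArg e ?_).trans (map_one e)
    clear hq
    revert q
    decide
  have h4 : g * g * (g * g) ∈ Ns Q := by
    rcases D.Hs_split h2 with h | h
    · exact mul_mem h h
    · set z := toGO D.z₀
      have hzz : z * z ∈ Ns Q := by rw [← toGO_mul]; exact mem_Ns_of_mem (sq_mem_commutator Q D.hc D.z₀)
      have e : g * g * (g * g) = (g * g * z⁻¹) * (z * (g * g * z⁻¹) * z⁻¹) * (z * z) := by group
      rw [e]
      exact mul_mem (mul_mem h ((omNormal (Q := Q)).conj_mem _ h z)) hzz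
  have hgr : g ^ r ∈ Ns Q := D.ker_le (by rw [MonoidHom.mem_ker, map_pow]; exact hxr)
  have hg : g ∈ Ns Q := by
    rw [← QuotientGroup.eq_one_iff] at hgr h4 ⊢
    rw [QuotientGroup.mk_pow] at hgr
    have h4' : (QuotientGroup.mk g : GO Q ⧸ Ns Q) ^ 4 = 1 := by
      rw [← h4, QuotientGroup.mk_mul, QuotientGroup.mk_mul]
      simp only [pow_succ, pow_zero, one_mul, mul_assoc]
    rw [← orderOf_eq_one_iff]
    refine Nat.dvd_one.mp ?_
    have hco : Nat.Coprime (2 ^ 2) r := Nat.Coprime.pow_left _ (Nat.coprime_two_left.mpr hr)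
    rw [← Nat.Coprime.gcd_eq_one hco]
    exact Nat.dvd_gcd (orderOf_dvd_of_pow_eq_one h4') (orderOf_dvd_of_pow_eq_one hgr)
  obtain ⟨c, _, ⟨w, hw, rfl⟩, hgw⟩ := hg
  have e : g = ⟨sc c, sc_mem Q c⟩ * toGO w := Subtype.ext hgw
  have hxw : Θ Q g = Θ Q (toGO w) := by rw [e, map_mul, Θ_sc Q (g := ⟨sc c, sc_mem Q c⟩) rfl, one_mul]
  have hpow : ∀ (k : ℕ) (o : Cfsg.isometryGroup F ⇑Q), toGO (o ^ k) = toGO o ^ k := fun k o => by
    induction k with
    | zero => rfl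
    | succ k ih => rw [pow_succ, pow_succ, ← ih]; rfl
  refine ⟨w ^ (r + 1), ?_, ?_⟩
  · rw [hpow, map_pow, ← hxw, pow_succ, hxr, one_mul]
  · have hk : toGO (w ^ r) ∈ (Θ Q).ker := by rw [MonoidHom.mem_ker, hpow, map_pow, ← hxw, hxr]
    obtain ⟨l, hl⟩ := scalar_of_ker Q D.hn D.hQ D.h2 D.hv D.hp hk
    have hll : sc (ι := ι) l * sc l = 1 := by
      rw [← map_mul, show l * l = 1 from Units.ext ?_, map_one]
      have h := (w ^ r).2 D.a D.a
      rw [show (w ^ r).1 = sc l from hl] at h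
      change Q ((sc l).1 *ᵥ D.a) = Q D.a at h
      rw [sc_mulVec, QuadraticMap.map_smul, smul_eq_mul] at h
      rw [Units.val_mul, Units.val_one]
      exact mul_right_cancel₀ D.ha (h.trans (one_mul _).symm)
    obtain ⟨j, hj⟩ := hr
    rw [SubmonoidClass.coe_pow, ← pow_mul, mul_comm, pow_mul, ← SubmonoidClass.coe_pow, show (w ^ r).1 = sc l from hl,
      show r + 1 = 2 * (j + 1) by omega, pow_mul, pow_two, hll, one_pow]

omit D in
theorem conjUnder_iff {K H : Subgroup (MulAut (Cfsg.POmega F ⇑Q))} (hKH : K ≤ H) {x : MulAut (Cfsg.POmega F ⇑Q)}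
    (hcov : ∀ h ∈ H, ∃ k ∈ K, Commute (k⁻¹ * h) x) (y : MulAut (Cfsg.POmega F ⇑Q)) :
    Cfsg.IsConjUnder K x y ↔ Cfsg.IsConjUnder H x y := by
  refine ⟨fun ⟨h, hh, e⟩ => ⟨h, hKH hh, e⟩, fun ⟨h, hh, e⟩ => ?_⟩
  obtain ⟨k, hk, hc⟩ := hcov h hh
  refine ⟨k, hk, ?_⟩
  rw [e]
  calc h * x * h⁻¹ = k * ((k⁻¹ * h) * x) * (k⁻¹ * h)⁻¹ * k⁻¹ := by group
    _ = k * x * k⁻¹ := by rw [hc.eq]; group

omit D in
theorem poAut_eq : Cfsg.poAut F ⇑Q = (scSub Q (Cfsg.isometryGroup F ⇑Q)).map (Θ Q) := by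
  refine le_antisymm ((Subgroup.closure_le _).mpr ?_) ?_
  · rintro β ⟨g, hg, hβ⟩
    exact ⟨⟨g, iso_mem Q hg⟩, ⟨1, g, hg, by simp⟩, ((induced_iff Q ⟨g, iso_mem Q hg⟩ β).mp hβ).symm⟩
  · rintro _ ⟨g, ⟨c, o, ho, hg⟩, rfl⟩
    refine Subgroup.subset_closure ⟨o, ho, (induced_iff Q ⟨o, iso_mem Q ho⟩ _).mpr ?_⟩
    have e : g = ⟨sc c, sc_mem Q c⟩ * ⟨o, iso_mem Q ho⟩ := Subtype.ext hg
    rw [e, map_mul, Θ_sc Q (g := ⟨sc c, sc_mem Q c⟩) rfl, one_mul]

theorem conj_classes {x : MulAut (Cfsg.POmega F ⇑Q)} (hx : x ∈ Cfsg.pgoAut F ⇑Q) {r : ℕ} (hr : Odd r)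
    (hxr : x ^ r = 1) (hx1 : x ≠ 1) (hcop : Nat.Coprime (Fintype.card F) r) :
    (∀ y, (Cfsg.IsConjUnder (Cfsg.Inn (Cfsg.POmega F ⇑Q)) x y ↔ Cfsg.IsConjUnder ((propSub Q).map (Θ Q)) x y) ∧
      (Cfsg.IsConjUnder (Cfsg.psoAut F ⇑Q) x y ↔ Cfsg.IsConjUnder ((propSub Q).map (Θ Q)) x y)) ∧
    (∀ y, Cfsg.IsConjUnder (Cfsg.poAut F ⇑Q) x y ↔ Cfsg.IsConjUnder (Cfsg.pgoAut F ⇑Q) x y) := by
  classical
  obtain ⟨s, rfl, hs⟩ := D.exists_lift hx hr hxr
  have hs1 : s.1 ≠ 1 := fun h => hx1 (by rw [show toGO s = 1 from Subtype.ext h, map_one])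
  obtain ⟨a, haP, haQ, hac⟩ := D.exists_prop_commute s.2 hr hs hcop
  obtain ⟨o, hod, hoO, hoc⟩ := D.exists_spinor_commute s.2 hs1 hr hs hcop
  have hca : Commute (Θ Q a) (Θ Q (toGO s)) := (show Commute a (toGO s) from Subtype.ext hac).map _
  have hco : Commute (Θ Q (toGO o)) (Θ Q (toGO s)) := (show Commute (toGO o) (toGO s) from Subtype.ext hoc).map _
  -- elements of `Hs`
  have hH : ∀ k ∈ Hs Q, ∃ n ∈ Ns Q, Commute (Θ Q (n⁻¹ * k)) (Θ Q (toGO s)) := by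
    intro k hk
    by_cases hneg : POmegaCard.NegMem F ⇑Q
    · have heH : toGO o ∈ Hs Q := mem_Hs_of_det hod
      have heN : toGO o ∉ Ns Q := fun h => hoO (D.iso_Ns hneg h)
      rcases D.Hs_split hk with h1 | h1
      · exact ⟨k, h1, by rw [inv_mul_cancel, map_one]; exact Commute.one_left _⟩
      · have h2 := (D.Hs_split heH).resolve_left heN
        have h4 := mul_mem h1 (inv_mem h2)
        rw [_root_.mul_inv_rev, inv_inv, mul_assoc, inv_mul_cancel_left] at h4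
        exact ⟨_, h4, by rw [_root_.mul_inv_rev, inv_inv, inv_mul_cancel_right]; exact hco⟩
    · refine ⟨k, ?_, by rw [inv_mul_cancel, map_one]; exact Commute.one_left _⟩
      rcases D.Hs_split hk with h1 | h1
      · exact h1
      · simpa using mul_mem h1 (D.z_mem_iff.mpr hneg)
  have haH : a ∉ Hs Q := D.not_Hs_of_mult haQ
  have hP : ∀ k ∈ propSub Q, ∃ n ∈ Ns Q, Commute (Θ Q (n⁻¹ * k)) (Θ Q (toGO s)) := by
    intro k hk
    by_cases hkH : k ∈ Hs Q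
    · exact hH k hkH
    obtain ⟨d, hd, hdq⟩ := D.prop_iff_mult hk hkH
    have hka : k * a⁻¹ ∈ Hs Q := by
      by_contra hn
      obtain ⟨d', hd', hdq'⟩ := D.prop_iff_mult (mul_mem hk (inv_mem haP)) hn
      have e : (d : F) = (d' : F) * (D.ν : F) := D.mult_unique hdq fun v => by
        have h := hdq' (a.1.1 *ᵥ v)
        rw [Matrix.mulVec_mulVec, ← Units.val_mul, Subgroup.coe_mul, Subgroup.coe_inv, inv_mul_cancel_right, haQ,
          ← mul_assoc] at h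
        exact h
      exact hd (e ▸ (OmegaMem.isSquare_mul_iff D.h2 d'.ne_zero D.ν.ne_zero).mpr (iff_of_false hd' D.hν))
    obtain ⟨n, hn, hc⟩ := hH _ hka
    refine ⟨n, hn, ?_⟩
    rw [show n⁻¹ * k = n⁻¹ * (k * a⁻¹) * a by group, map_mul]
    exact hc.mul_left hca
  have hNP : (Ns Q).map (Θ Q) ≤ (propSub Q).map (Θ Q) := Subgroup.map_mono D.prop_Ns
  have cov : ∀ (T K : Subgroup (GO Q)), Ns Q ≤ K → (∀ k ∈ T, ∃ n ∈ K, Commute (Θ Q (n⁻¹ * k)) (Θ Q (toGO s))) →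
      ∀ h ∈ T.map (Θ Q), ∃ k ∈ K.map (Θ Q), Commute (k⁻¹ * h) (Θ Q (toGO s)) := by
    rintro T K - hT _ ⟨k, hk, rfl⟩
    obtain ⟨n, hn, hc⟩ := hT k hk
    exact ⟨_, ⟨n, hn, rfl⟩, by rw [← map_inv, ← map_mul]; exact hc⟩
  refine ⟨fun y => ⟨?_, ?_⟩, fun y => ?_⟩
  · rw [inn_eq]
    exact conjUnder_iff hNP (cov _ _ le_rfl hP) y
  · rw [psoAut_eq]
    exact conjUnder_iff (Subgroup.map_mono D.Hs_le_prop)
      (cov _ _ Ns_le_Hs fun k hk => by obtain ⟨n, hn, hc⟩ := hP k hk; exact ⟨n, Ns_le_Hs hn, hc⟩) y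
  · rw [poAut_eq, pgoAut_eq, MonoidHom.range_eq_map]
    refine conjUnder_iff (Subgroup.map_mono le_top) (cov _ _ (scSub_mono Q ?_) ?_) y
    · rintro _ ⟨w, -, rfl⟩; exact w.2
    intro k _
    have hsq : ∀ g : GO Q, (∃ c : Fˣ, ∀ v, Q (g.1.1 *ᵥ v) = (c : F) * c * Q v) →
        g ∈ scSub Q (Cfsg.isometryGroup F ⇑Q) := by
      rintro g ⟨c, hg⟩
      refine ⟨c, sc c⁻¹ * g.1, fun v _ => ?_, by rw [← mul_assoc, ← map_mul, mul_inv_cancel, map_one, one_mul]⟩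
      show Q ((sc c⁻¹ * g.1).1 *ᵥ v) = Q v
      rw [Units.val_mul, ← Matrix.mulVec_mulVec, sc_mulVec, QuadraticMap.map_smul, smul_eq_mul, hg,
        Units.val_inv_eq_inv_val]
      field_simp
    obtain ⟨e, he⟩ := k.2
    by_cases h : IsSquare (e : F)
    · obtain ⟨t, ht⟩ := h
      have ht0 : t ≠ 0 := fun h0 => e.ne_zero (by rw [ht, h0, mul_zero])
      exact ⟨k, hsq k ⟨Units.mk0 t ht0, fun v => by rw [he, ht, Units.val_mk0]⟩,
        by rw [inv_mul_cancel, map_one]; exact Commute.one_left _⟩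
    · refine ⟨k * a⁻¹, hsq _ ?_, by rw [_root_.mul_inv_rev, inv_inv, inv_mul_cancel_right]; exact hca⟩
      obtain ⟨t, ht⟩ := (OmegaMem.isSquare_mul_iff D.h2 (inv_ne_zero D.ν.ne_zero) e.ne_zero).mpr
        (iff_of_false (fun h' => D.hν (by simpa using h'.inv)) h)
      have ht0 : t ≠ 0 := fun h0 => mul_ne_zero (inv_ne_zero D.ν.ne_zero) e.ne_zero (by rw [ht, h0, mul_zero])
      refine ⟨Units.mk0 t ht0, fun v => ?_⟩
      have h' := haQ ((a⁻¹).1.1 *ᵥ v)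
      rw [Matrix.mulVec_mulVec, ← Units.val_mul, Subgroup.coe_inv, mul_inv_cancel, Units.val_one,
        Matrix.one_mulVec] at h'
      rw [Subgroup.coe_mul, Units.val_mul, ← Matrix.mulVec_mulVec, he, Units.val_mk0, ← ht, Subgroup.coe_inv, h']
      have := D.ν.ne_zero
      field_simp

theorem conj_classes_prime {x : MulAut (Cfsg.POmega F ⇑Q)} (hx : x ∈ Cfsg.pgoAut F ⇑Q) {p : ℕ} [Fact p.Prime]
    [CharP F p] {r : ℕ} (hr : r.Prime) (hro : Odd r) (hrp : r ≠ p) (hxr : orderOf x = r) :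
    (∀ y, (Cfsg.IsConjUnder (Cfsg.Inn (Cfsg.POmega F ⇑Q)) x y ↔ Cfsg.IsConjUnder ((propSub Q).map (Θ Q)) x y) ∧
      (Cfsg.IsConjUnder (Cfsg.psoAut F ⇑Q) x y ↔ Cfsg.IsConjUnder ((propSub Q).map (Θ Q)) x y)) ∧
    (∀ y, Cfsg.IsConjUnder (Cfsg.poAut F ⇑Q) x y ↔ Cfsg.IsConjUnder (Cfsg.pgoAut F ⇑Q) x y) := by
  obtain ⟨k, hpp, hcard⟩ := FiniteField.card F p
  refine D.conj_classes hx hro (by rw [← hxr, pow_orderOf_eq_one])
    (fun h => hr.one_lt.ne (by rw [← hxr, h, orderOf_one])) ?_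
  rw [hcard]
  exact Nat.Coprime.pow_left _ ((Nat.coprime_primes (Fact.out : p.Prime) hr).mpr (Ne.symm hrp))

end Data

theorem classes_transport {f : (ι → F) → F} (hf : f = ⇑Q) (P : GL ι F → Prop) (G : Subgroup (GO Q))
    (hP : ∀ g : GO Q, P g.1 ↔ g ∈ G) {x : MulAut (Cfsg.POmega F f)} (hx : x ∈ Cfsg.pgoAut F f) {r : ℕ}
    (hord : orderOf x = r)
    (main : ∀ x : MulAut (Cfsg.POmega F ⇑Q), x ∈ Cfsg.pgoAut F ⇑Q → orderOf x = r →
      (∀ y, (Cfsg.IsConjUnder (Cfsg.Inn (Cfsg.POmega F ⇑Q)) x y ↔ Cfsg.IsConjUnder (G.map (Θ Q)) x y) ∧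
        (Cfsg.IsConjUnder (Cfsg.psoAut F ⇑Q) x y ↔ Cfsg.IsConjUnder (G.map (Θ Q)) x y)) ∧
      (∀ y, Cfsg.IsConjUnder (Cfsg.poAut F ⇑Q) x y ↔ Cfsg.IsConjUnder (Cfsg.pgoAut F ⇑Q) x y)) :
    (∀ y, (Cfsg.IsConjUnder (Cfsg.Inn (Cfsg.POmega F f)) x y ↔ Cfsg.IsConjUnder (Subgroup.closure
        {β : MulAut (Cfsg.POmega F f) | ∃ g : GL ι F, g ∈ Cfsg.Geo.quadSimilarityGroup (F := F) f ∧ P g ∧
          Cfsg.IsInducedBySemilinearPOmega f g (RingEquiv.refl F) β}) x y) ∧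
      (Cfsg.IsConjUnder (Cfsg.psoAut F f) x y ↔ Cfsg.IsConjUnder (Subgroup.closure
        {β : MulAut (Cfsg.POmega F f) | ∃ g : GL ι F, g ∈ Cfsg.Geo.quadSimilarityGroup (F := F) f ∧ P g ∧
          Cfsg.IsInducedBySemilinearPOmega f g (RingEquiv.refl F) β}) x y)) ∧
    (∀ y, Cfsg.IsConjUnder (Cfsg.poAut F f) x y ↔ Cfsg.IsConjUnder (Cfsg.pgoAut F f) x y) := by
  subst hf
  rw [closure_induced Q P G hP]
  exact main x hx hord

end CfsgLib.PGO
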