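import Cfsg.Agent.Lib.PGO.CyclicAlgebra
import Cfsg.Agent.Lib.FiniteForms.Congr

/-!
Isometries of odd order prime to the characteristic: a nondegenerate cyclic piece, proper similarities in the
centralizer, and a commuting product of two orthogonal reflection systems.
-/

set_option autoImplicit false
set_option linter.unusedSectionVars false
set_option linter.dupNamespace false

namespace CfsgLib.PGO.Cyclic

open Module

universe v

variable {F : Type*} [Field F] [Fintype F] {V : Type v} [AddCommGroup V] [Module F V] [FiniteDimensional F V]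

/-- An isometry of odd order prime to the field order. -/
structure Setup (B : LinearMap.BilinForm F V) (f : Module.End F V) (r : ℕ) : Prop where
  hB : B.Nondegenerate
  hsym : ∀ x y, B x y = B y x
  h2 : (2 : F) ≠ 0
  hiso : ∀ x y, B (f x) (f y) = B x y
  hr : Odd r
  hfr : f ^ r = 1
  hcop : Nat.Coprime (Fintype.card F) r

variable {B : LinearMap.BilinForm F V} {f : Module.End F V} {r : ℕ}

theorem exists_adjoint (S : Setup B f r) (z : Module.End F V)
    (hz : z ∈ Algebra.adjoin F ({f} : Set (Module.End F V))) :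
    ∃ w ∈ Algebra.adjoin F ({f} : Set (Module.End F V)), ∀ x y, B (z x) y = B x (w y) := by
  have hf : f ∈ Algebra.adjoin F ({f} : Set (Module.End F V)) := Algebra.subset_adjoin rfl
  induction hz using Algebra.adjoin_induction with
  | mem z hz =>
    obtain rfl := Set.mem_singleton_iff.mp hz
    refine ⟨z ^ (r - 1), pow_mem hf _, fun x y => ?_⟩
    rw [← S.hiso x ((z ^ (r - 1)) y), ← Module.End.mul_apply z, ← pow_succ',
      Nat.sub_add_cancel S.hr.pos, S.hfr, Module.End.one_apply]
  | algebraMap c =>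
    exact ⟨algebraMap F _ c, Subalgebra.algebraMap_mem _ c, fun x y => by simp [Module.algebraMap_end_apply]⟩
  | add a b _ _ ha hb =>
    obtain ⟨a', ha', ea⟩ := ha
    obtain ⟨b', hb', eb⟩ := hb
    exact ⟨a' + b', add_mem ha' hb', fun x y => by simp [ea, eb]⟩
  | mul a b _ _ ha hb =>
    obtain ⟨a', ha', ea⟩ := ha
    obtain ⟨b', hb', eb⟩ := hb
    exact ⟨b' * a', mul_mem hb' ha', fun x y => by rw [Module.End.mul_apply, ea, eb, Module.End.mul_apply]⟩

theorem cyclic_main (S : Setup B f r) (hfix : ∀ x, f x = x → x = 0) {v : V} (hv : v ≠ 0)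
    (hcyc : ∀ x, ∃ z ∈ Algebra.adjoin F ({f} : Set (Module.End F V)), z v = x) {ν : F} (hν : ν ≠ 0)
    (hνs : ¬ IsSquare ν) :
    (∃ (a : Module.End F V) (d : ℕ), Commute a f ∧ (∀ x, B (a x) (a x) = ν * B x x) ∧
      finrank F V = 2 * d ∧ LinearMap.det a = ν ^ d) ∧
    (∃ (d : ℕ) (e e' : Fin d → V) (h : Module.End F V), Commute h f ∧
      (∀ i, B (e i) (e i) ≠ 0) ∧ (∀ i, B (e' i) (e' i) ≠ 0) ∧
      (∀ i j, i ≠ j → B (e i) (e j) = 0) ∧ (∀ i j, i ≠ j → B (e' i) (e' j) = 0) ∧
      (∀ x, refls B e' (refls B e x) = h x) ∧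
      ¬ IsSquare ((∏ i, B (e i) (e i)) * ∏ i, B (e' i) (e' i))) := by
  classical
  let R := Algebra.adjoin F ({f} : Set (Module.End F V))
  letI : CommRing R := Algebra.adjoinCommRingOfComm F (fun a ha b hb => by
    rw [Set.mem_singleton_iff.mp ha, Set.mem_singleton_iff.mp hb])
  haveI : Finite (Module.End F V) := Module.finite_of_finite F
  haveI : Finite R := inferInstance
  have hswap : ∀ (z w : R) (x : V), z.1 (w.1 x) = w.1 (z.1 x) := fun z w x =>
    congrArg (fun u : R => u.1 x) (mul_comm z w)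
  have huniq : ∀ w w' : R, (∀ x y, B x (w.1 y) = B x (w'.1 y)) → w = w' := fun w w' h =>
    Subtype.ext (LinearMap.ext fun y => sub_eq_zero.mp (S.hB.2 _ fun x => by rw [map_sub, h x y, sub_self]))
  choose adj hadjm hadj using exists_adjoint S
  let σ : R →ₐ[F] R :=
    { toFun := fun z => ⟨adj z.1 z.2, hadjm _ _⟩
      map_one' := huniq _ _ fun x y => by rw [← hadj]; rfl
      map_mul' := fun a b => huniq _ _ fun x y => by
        rw [← hadj]
        show B (a.1 (b.1 x)) y = B x ((adj a.1 a.2 * adj b.1 b.2) y)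
        rw [hswap a b, hadj, hadj, Module.End.mul_apply]
      map_zero' := huniq _ _ fun x y => by rw [← hadj]; simp
      map_add' := fun a b => huniq _ _ fun x y => by rw [← hadj]; simp [hadj]
      commutes' := fun c => huniq _ _ fun x y => by rw [← hadj]; simp [Module.algebraMap_end_apply] }
  have hσB : ∀ (z : R) x y, B (z.1 x) y = B x ((σ z).1 y) := fun z x y => hadj _ _ x y
  have hσσ : ∀ z, σ (σ z) = z := fun z => huniq _ _ fun x y => by
    rw [← hσB, S.hsym, ← hσB, S.hsym]
  let A : R := ⟨f, Algebra.subset_adjoin rfl⟩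
  have hA : σ A * A = 1 := huniq _ _ fun x y => by
    show B x ((σ A).1 (A.1 y)) = B x ((1 : R).1 y)
    rw [← hσB]; exact S.hiso x y
  have hfiz : ∀ y, (A - σ A).1 y = 0 → y = 0 := by
    intro y hy
    have h1 : f y = (σ A).1 y := sub_eq_zero.mp hy
    have h2' : f (f y) = y := by
      rw [h1, show f ((σ A).1 y) = A.1 ((σ A).1 y) from rfl, hswap A (σ A)]
      exact congrArg (fun u : R => u.1 y) hA
    refine hfix y ?_
    obtain ⟨k, hk⟩ := S.hr
    have h3 : ∀ j : ℕ, (f ^ (2 * j + 1)) y = f y := fun j => by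
      induction j with
      | zero => simp
      | succ j ih =>
        rw [show 2 * (j + 1) + 1 = 2 * j + 1 + 2 by ring, pow_add, Module.End.mul_apply, pow_two,
          Module.End.mul_apply, h2', ih]
    rw [← h3 k, ← hk, S.hfr]; rfl
  have hτ : IsUnit (A - σ A) := by
    have hinj : Function.Injective fun z : R => (A - σ A) * z := by
      intro z z' hzz
      refine Subtype.ext (LinearMap.ext fun x => sub_eq_zero.mp (hfiz _ ?_))
      rw [map_sub]
      exact sub_eq_zero.mpr (congrArg (fun u : R => u.1 x) hzz)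
    obtain ⟨t, ht⟩ := (Finite.injective_iff_surjective.1 hinj) 1
    exact IsUnit.of_mul_eq_one t ht
  let L : R →ₗ[F] F := (B v).comp ((LinearMap.applyₗ v).comp R.val.toLinearMap)
  have hL : ∀ z : R, L z = B v (z.1 v) := fun z => rfl
  let D : Datum F R :=
    { σ := σ
      hσσ := hσσ
      A := A
      hA := hA
      hgen := fun z => by
        obtain ⟨P, hP⟩ := (AlgHom.mem_range _).mp
          (show z.1 ∈ (Polynomial.aeval f : Polynomial F →ₐ[F] Module.End F V).range from
            Algebra.adjoin_singleton_eq_range_aeval F f ▸ z.2)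
        refine ⟨P, Subtype.ext ?_⟩
        show z.1 = R.val (Polynomial.aeval A P)
        rw [← Polynomial.aeval_algHom_apply]
        exact hP.symm
      hτ := hτ
      L := L
      hL := fun z => by
        show B v ((σ z).1 v) = B v (z.1 v)
        rw [← hσB, S.hsym]
      hnd := fun z hz => by
        have h0 : z.1 v = 0 := S.hB.2 _ fun x => by
          obtain ⟨w, hw, rfl⟩ := hcyc x
          have h := hz (σ ⟨w, hw⟩)
          rw [hL, mul_comm] at h
          show B ((⟨w, hw⟩ : R).1 v) (z.1 v) = 0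
          rw [hσB]; exact h
        refine Subtype.ext (LinearMap.ext fun x => ?_)
        obtain ⟨w, hw, rfl⟩ := hcyc x
        show z.1 ((⟨w, hw⟩ : R).1 v) = (0 : R).1 _
        rw [hswap, h0, map_zero]; rfl }
  let ev : R →ₗ[F] V := (LinearMap.applyₗ v).comp R.val.toLinearMap
  have hevb : Function.Bijective ev := by
    refine ⟨fun z z' h => Subtype.ext (LinearMap.ext fun x => ?_), fun x => ?_⟩
    · obtain ⟨w, hw, rfl⟩ := hcyc x
      rw [hswap z ⟨w, hw⟩, hswap z' ⟨w, hw⟩]
      exact congrArg (fun y => w y) h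
    · obtain ⟨w, hw, hx⟩ := hcyc x
      exact ⟨⟨w, hw⟩, hx⟩
  let eq : R ≃ₗ[F] V := LinearEquiv.ofBijective ev hevb
  have hform : ∀ x y : R, D.form x y = B (ev x) (ev y) := fun x y => by
    show B v ((σ x * y).1 v) = B (x.1 v) (y.1 v)
    rw [hσB]; rfl
  have hmulev : ∀ (z w : R), ev (z * w) = z.1 (ev w) := fun z w => rfl
  have hcomm : ∀ z : R, Commute z.1 f := fun z => congrArg Subtype.val (mul_comm z A)
  haveI : Nontrivial R := ⟨⟨1, 0, fun h => hv (by
    have := congrArg (fun z : R => z.1 v) h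
    simpa using this)⟩⟩
  refine ⟨?_, ?_⟩
  · obtain ⟨a, ha, han⟩ := D.exists_mult S.h2 hν
    refine ⟨a.1, finrank F D.fixedAlg, hcomm a, fun x => ?_, by rw [← eq.finrank_eq]; exact D.finrank_eq S.h2, ?_⟩
    · obtain ⟨w, rfl⟩ := hevb.2 x
      rw [← hmulev, ← hform, ← hform, ha]
    · rw [← han, Algebra.norm_apply, ← LinearMap.det_conj (Algebra.lmul F R a) eq]
      congr 1
      refine LinearMap.ext fun x => ?_
      obtain ⟨w, rfl⟩ := eq.surjective x
      simp only [LinearMap.comp_apply, LinearEquiv.coe_coe, LinearEquiv.symm_apply_apply]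
      rfl
  · obtain ⟨d, e, e', h, h1, h2, h3, h4, h5, h6⟩ := D.exists_refl_pair S.h2 S.hcop S.hr.pos
      (Subtype.ext (by rw [SubmonoidClass.coe_pow]; exact S.hfr)) hν hνs
    have htr : ∀ (e : Fin d → R) (x : R), refls B (fun i => ev (e i)) (ev x) = ev (refls D.form e x) := by
      intro e x
      simp only [refls, map_sub, map_sum, map_smul, hform]
    refine ⟨d, fun i => ev (e i), fun i => ev (e' i), h.1, hcomm h, fun i => by rw [← hform]; exact h1 i,
      fun i => by rw [← hform]; exact h2 i, fun i j hij => by rw [← hform]; exact h3 i j hij,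
      fun i j hij => by rw [← hform]; exact h4 i j hij, fun x => ?_, by simpa only [hform] using h6⟩
    obtain ⟨w, rfl⟩ := hevb.2 x
    rw [htr, htr, h5, hmulev]

theorem restrict_setup (S : Setup B f r) (U : Submodule F V) (hU : ∀ x ∈ U, f x ∈ U)
    (hnd : ∀ x : U, (∀ y : U, B x.1 y.1 = 0) → x = 0) :
    Setup (B.compl₁₂ U.subtype U.subtype) (f.restrict hU) r where
  hB := ⟨fun x h => hnd x fun y => h y, fun y h => hnd y fun x => (S.hsym y.1 x.1).trans (h x)⟩
  hsym x y := S.hsym _ _
  h2 := S.h2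
  hiso x y := S.hiso _ _
  hr := S.hr
  hfr := LinearMap.ext fun x => Subtype.ext (by
    rw [Module.End.pow_restrict _ hU, LinearMap.coe_restrict_apply, S.hfr]; rfl)
  hcop := S.hcop

theorem pow_inv (S : Setup B f r) (U : Submodule F V) (hU : ∀ x ∈ U, f x ∈ U) :
    ∀ x ∈ U, (f ^ (r - 1)) x ∈ U := by
  intro x hx
  induction (r - 1) with
  | zero => simpa
  | succ k ih => rw [pow_succ', Module.End.mul_apply]; exact hU _ ih

theorem cast_ne (S : Setup B f r) : (r : F) ≠ 0 := by
  obtain ⟨p, hp⟩ := CharP.exists F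
  obtain ⟨k, hpp, hcard⟩ := FiniteField.card F p
  rw [Ne, CharP.cast_eq_zero_iff F p]
  intro hd
  have h := Nat.dvd_gcd (show p ∣ Fintype.card F by rw [hcard]; exact dvd_pow_self p k.ne_zero) hd
  rw [Nat.Coprime.gcd_eq_one S.hcop] at h
  exact hpp.ne_one (Nat.dvd_one.mp h)

theorem semisimple (S : Setup B f r) : f.IsSemisimple := by
  refine Module.End.isSemisimple_of_squarefree_aeval_eq_zero
    ((Polynomial.separable_X_pow_sub_C (1 : F) (cast_ne S) one_ne_zero).squarefree) ?_
  simp [S.hfr]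

/-- A nondegenerate invariant cyclic subspace without fixed vectors. -/
theorem exists_piece (S : Setup B f r) (hne : f ≠ 1) :
    ∃ (U : Submodule F V) (hU : ∀ x ∈ U, f x ∈ U), (∀ x : U, (∀ y : U, B x.1 y.1 = 0) → x = 0) ∧
      (∀ x : U, f.restrict hU x = x → x = 0) ∧
      ∃ c : U, c ≠ 0 ∧ ∀ x : U, ∃ z ∈ Algebra.adjoin F ({f.restrict hU} : Set (Module.End F U)), z c = x := by
  classical
  set W1 := LinearMap.range (f - 1)
  have horth : ∀ x, f x = x → ∀ y ∈ W1, B x y = 0 := by
    rintro x hx _ ⟨y, rfl⟩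
    rw [LinearMap.sub_apply, Module.End.one_apply, map_sub]
    nth_rewrite 1 [← hx]
    rw [S.hiso, sub_self]
  have hdec : ∀ x, ∃ u, f u = u ∧ x - u ∈ W1 := by
    intro x
    refine ⟨(r : F)⁻¹ • ∑ i ∈ Finset.range r, (f ^ i) x, ?_, ?_⟩
    · rw [map_smul, map_sum]
      congr 1
      have e : ∀ i, f ((f ^ i) x) = (f ^ (i + 1)) x := fun i => by rw [pow_succ', Module.End.mul_apply]
      simp only [e]
      have h1 := Finset.sum_range_succ' (fun i => (f ^ i) x) r
      have h2 := Finset.sum_range_succ (fun i => (f ^ i) x) r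
      rw [h2, S.hfr, pow_zero] at h1
      exact (add_right_cancel h1).symm
    · have hr0 := cast_ne S
      have e : x - (r : F)⁻¹ • ∑ i ∈ Finset.range r, (f ^ i) x =
          (r : F)⁻¹ • ∑ i ∈ Finset.range r, (x - (f ^ i) x) := by
        rw [Finset.sum_sub_distrib, smul_sub, Finset.sum_const, Finset.card_range, ← Nat.cast_smul_eq_nsmul F,
          smul_smul, inv_mul_cancel₀ hr0, one_smul]
      rw [e]
      suffices hi : ∀ i, x - (f ^ i) x ∈ W1 from Submodule.smul_mem _ _ (Submodule.sum_mem _ fun i _ => hi i)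
      intro i
      induction i with
      | zero => simp
      | succ i ih =>
        have : x - (f ^ (i + 1)) x = (x - (f ^ i) x) + -((f - 1) ((f ^ i) x)) := by
          rw [pow_succ', Module.End.mul_apply, LinearMap.sub_apply, Module.End.one_apply]; abel
        rw [this]
        exact add_mem ih (neg_mem ⟨_, rfl⟩)
  have hW1 : ∀ y ∈ W1, (∀ w ∈ W1, B y w = 0) → y = 0 := by
    intro y hy h
    refine S.hB.1 y fun x => ?_
    obtain ⟨u, hu, hxu⟩ := hdec x
    rw [← sub_add_cancel x u, map_add, h _ hxu, zero_add, S.hsym, horth u hu y hy]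
  obtain ⟨v, hvW, hv⟩ : ∃ v ∈ W1, B v v ≠ 0 := by
    by_contra hc
    push Not at hc
    refine hne (LinearMap.ext fun x => sub_eq_zero.mp (hW1 _ ⟨x, rfl⟩ fun w hw => ?_))
    have h1 := hc _ (add_mem (show (f - 1) x ∈ W1 from ⟨x, rfl⟩) hw)
    simp only [map_add, LinearMap.add_apply, hc _ ⟨x, rfl⟩, hc _ hw, S.hsym w] at h1
    exact (mul_eq_zero.mp (show (2 : F) * B ((f - 1) x) w = 0 by linear_combination h1)).resolve_left S.h2
  set U0 := (Subalgebra.toSubmodule (Algebra.adjoin F ({f} : Set (Module.End F V)))).map (LinearMap.applyₗ v)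
  have hfA : f ∈ Algebra.adjoin F ({f} : Set (Module.End F V)) := Algebra.subset_adjoin rfl
  have hU0 : ∀ x ∈ U0, f x ∈ U0 := by
    rintro _ ⟨z, hz, rfl⟩
    exact ⟨f * z, (mul_mem hfA hz : f * z ∈ Algebra.adjoin F ({f} : Set (Module.End F V))), rfl⟩
  have hvU : v ∈ U0 := ⟨1, (one_mem _ : (1 : Module.End F V) ∈ Algebra.adjoin F ({f} : Set (Module.End F V))), rfl⟩
  have hU0W : U0 ≤ W1 := by
    rintro _ ⟨z, hz, rfl⟩
    obtain ⟨y, hy⟩ := hvW
    refine ⟨z y, ?_⟩
    have hc : Commute z (f - 1) := by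
      induction hz using Algebra.adjoin_induction with
      | mem z hz => rw [Set.mem_singleton_iff.mp hz]; exact (Commute.refl _).sub_right (Commute.one_right _)
      | algebraMap c => exact Algebra.commutes c _
      | add a b _ _ ha hb => exact ha.add_left hb
      | mul a b _ _ ha hb => exact ha.mul_left hb
    show (f - 1) (z y) = z v
    rw [← hy, ← Module.End.mul_apply, ← hc.eq]; rfl
  set Rad : Submodule F V := U0 ⊓ LinearMap.BilinForm.orthogonal B U0
  have hRad : ∀ x, x ∈ Rad ↔ x ∈ U0 ∧ ∀ w ∈ U0, B w x = 0 := fun x => Iff.rfl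
  have hRadf : ∀ x ∈ Rad, f x ∈ Rad := by
    intro x hx
    rw [hRad] at hx ⊢
    refine ⟨hU0 x hx.1, fun w hw => ?_⟩
    have hw' : w = f ((f ^ (r - 1)) w) := by
      rw [← Module.End.mul_apply, ← pow_succ', Nat.sub_add_cancel S.hr.pos, S.hfr]; rfl
    rw [hw', S.hiso]
    exact hx.2 _ (pow_inv S U0 hU0 w hw)
  obtain ⟨C', hC'f, hC'⟩ := (Module.End.isSemisimple_iff.mp (semisimple S)) Rad
    ((Module.End.mem_invtSubmodule f).mpr hRadf)
  rw [Module.End.mem_invtSubmodule] at hC'f
  set U := C' ⊓ U0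
  have hU : ∀ x ∈ U, f x ∈ U := fun x hx => ⟨hC'f hx.1, hU0 x hx.2⟩
  have hsplit : ∀ x ∈ U0, ∃ ρ ∈ Rad, ∃ c ∈ U, x = ρ + c := by
    intro x hx
    have hxs : x ∈ Rad ⊔ C' := hC'.sup_eq_top ▸ Submodule.mem_top
    obtain ⟨ρ, hρ, c, hc, rfl⟩ := Submodule.mem_sup.mp hxs
    exact ⟨ρ, hρ, c, ⟨hc, by simpa using sub_mem hx hρ.1⟩, rfl⟩
  obtain ⟨ρ, hρ, c, hc, hvc⟩ := hsplit v hvU
  have hpoly : ∀ (P : Polynomial F) (x : U),
      (Polynomial.aeval (f.restrict hU) P x).1 = Polynomial.aeval f P x.1 := by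
    intro P x
    induction P using Polynomial.induction_on' generalizing x with
    | add p q hp hq => simp [hp, hq]
    | monomial n a => simp [Polynomial.aeval_monomial, Module.algebraMap_end_apply, Module.End.pow_restrict _ hU]
  refine ⟨U, hU, fun x hx => ?_, fun x hx => ?_, ⟨⟨c, hc⟩, ?_, fun x => ?_⟩⟩
  · refine Subtype.ext (Submodule.disjoint_def.mp hC'.disjoint x.1 ((hRad _).mpr ⟨x.2.2, fun w hw => ?_⟩) x.2.1)
    obtain ⟨ρ', hρ', c', hc', rfl⟩ := hsplit w hw
    rw [map_add, LinearMap.add_apply, S.hsym ρ', hρ'.2 x.1 x.2.2, zero_add, S.hsym, hx ⟨c', hc'⟩]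
  · refine Subtype.ext (hW1 _ (hU0W x.2.2) fun w hw => horth _ (congrArg Subtype.val hx) w hw)
  · intro h0
    apply hv
    have h : c = 0 := congrArg Subtype.val h0
    rw [hvc, h, add_zero]
    exact hρ.2 ρ hρ.1
  · obtain ⟨z, hz, hzx⟩ := x.2.2
    obtain ⟨P, hP⟩ := (AlgHom.mem_range _).mp
      (show z ∈ (Polynomial.aeval f : Polynomial F →ₐ[F] Module.End F V).range from
        Algebra.adjoin_singleton_eq_range_aeval F f ▸ hz)
    refine ⟨Polynomial.aeval (f.restrict hU) P, Polynomial.aeval_mem_adjoin_singleton F _, Subtype.ext ?_⟩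
    rw [hpoly]
    show Polynomial.aeval f P c = x.1
    have hstep : ∀ (W : Submodule F V), (∀ y ∈ W, f y ∈ W) → ∀ y ∈ W, Polynomial.aeval f P y ∈ W := by
      intro W hW y hy
      clear hP
      have hk : ∀ n : ℕ, (f ^ n) y ∈ W := fun n => by
        induction n with
        | zero => simpa using hy
        | succ n ih => rw [pow_succ', Module.End.mul_apply]; exact hW _ ih
      induction P using Polynomial.induction_on' with
      | add p q hp hq => rw [map_add, LinearMap.add_apply]; exact add_mem hp hq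
      | monomial n a =>
        rw [Polynomial.aeval_monomial, Module.End.mul_apply, Module.algebraMap_end_apply]
        exact W.smul_mem a (hk n)
    have hx1 : x.1 = Polynomial.aeval f P ρ + Polynomial.aeval f P c := by
      rw [← map_add, ← hvc, hP]; exact hzx.symm
    have hdiff : x.1 - Polynomial.aeval f P c ∈ Rad := by
      rw [hx1, add_sub_cancel_right]
      exact hstep Rad hRadf ρ hρ
    exact (sub_eq_zero.mp (Submodule.disjoint_def.mp hC'.disjoint _ hdiff
      (sub_mem x.2.1 (hstep C' (fun u hu => hC'f hu) c hc.1)))).symm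

/-- Gluing endomorphisms along an orthogonal invariant decomposition. -/
theorem glue (S : Setup B f r) (U : Submodule F V) (hU : ∀ x ∈ U, f x ∈ U)
    (hnd : ∀ x : U, (∀ y : U, B x.1 y.1 = 0) → x = 0) :
    ∃ (W : Submodule F V) (hW : ∀ x ∈ W, f x ∈ W), IsCompl U W ∧ (∀ x ∈ U, ∀ y ∈ W, B x y = 0) ∧
      (∀ x : W, (∀ y : W, B x.1 y.1 = 0) → x = 0) ∧ finrank F U + finrank F W = finrank F V ∧
      ∀ (a : Module.End F U) (b : Module.End F W), ∃ g : Module.End F V, (∀ u : U, g u.1 = (a u).1) ∧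
        (∀ w : W, g w.1 = (b w).1) ∧ LinearMap.det g = LinearMap.det a * LinearMap.det b := by
  have hrefl : B.IsRefl := fun x y h => by rw [S.hsym]; exact h
  have hnd' : (B.restrict U).Nondegenerate :=
    ⟨fun x h => hnd x fun y => h y, fun y h => hnd y fun x => (S.hsym y.1 x.1).trans (h x)⟩
  set W := LinearMap.BilinForm.orthogonal B U
  have hc : IsCompl U W := LinearMap.BilinForm.isCompl_orthogonal_of_restrict_nondegenerate hrefl hnd'
  have horth : ∀ x ∈ U, ∀ y ∈ W, B x y = 0 := fun x hx y hy => hy x hx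
  refine ⟨W, fun x hx w hw => ?_, hc, horth, fun x hx => Subtype.ext (S.hB.1 x.1 fun y => ?_),
    Submodule.finrank_add_eq_of_isCompl hc, fun a b => ?_⟩
  · have hw' : w = f ((f ^ (r - 1)) w) := by
      rw [← Module.End.mul_apply, ← pow_succ', Nat.sub_add_cancel S.hr.pos, S.hfr]; rfl
    show B w (f x) = 0
    rw [hw', S.hiso]
    exact hx _ (pow_inv S U hU w hw)
  · have hys : y ∈ U ⊔ W := hc.sup_eq_top ▸ Submodule.mem_top
    obtain ⟨u, hu, w, hw, rfl⟩ := Submodule.mem_sup.mp hys
    rw [map_add, S.hsym x.1 u, horth u hu x.1 x.2, zero_add]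
    exact hx ⟨w, hw⟩
  · let e := Submodule.prodEquivOfIsCompl U W hc
    refine ⟨(e : _ →ₗ[F] V) ∘ₗ (a.prodMap b) ∘ₗ (e.symm : V →ₗ[F] _), fun u => ?_, fun w => ?_, ?_⟩
    · simp [e, Submodule.coe_prodEquivOfIsCompl']
    · simp [e, Submodule.coe_prodEquivOfIsCompl']
    · rw [LinearMap.det_conj, LinearMap.det_prodMap]

theorem glue_spec (S : Setup B f r) {U W : Submodule F V} (hU : ∀ x ∈ U, f x ∈ U) (hW : ∀ x ∈ W, f x ∈ W)
    (hc : IsCompl U W) (horth : ∀ x ∈ U, ∀ y ∈ W, B x y = 0) {a : Module.End F U} {b : Module.End F W}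
    {g : Module.End F V} (hgu : ∀ u : U, g u.1 = (a u).1) (hgw : ∀ w : W, g w.1 = (b w).1)
    (ha : Commute a (f.restrict hU)) (hb : Commute b (f.restrict hW)) {ν : F}
    (haq : ∀ x : U, B (a x).1 (a x).1 = ν * B x.1 x.1) (hbq : ∀ x : W, B (b x).1 (b x).1 = ν * B x.1 x.1) :
    Commute g f ∧ ∀ x, B (g x) (g x) = ν * B x x := by
  have hsplit : ∀ x, ∃ u : U, ∃ w : W, x = u.1 + w.1 := fun x => by
    have hxs : x ∈ U ⊔ W := hc.sup_eq_top ▸ Submodule.mem_top
    obtain ⟨u, hu, w, hw, rfl⟩ := Submodule.mem_sup.mp hxs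
    exact ⟨⟨u, hu⟩, ⟨w, hw⟩, rfl⟩
  refine ⟨LinearMap.ext fun x => ?_, fun x => ?_⟩
  · obtain ⟨u, w, rfl⟩ := hsplit x
    simp only [Module.End.mul_apply, map_add, hgu, hgw]
    rw [show f u.1 = (f.restrict hU u).1 from rfl, show f w.1 = (f.restrict hW w).1 from rfl, hgu, hgw]
    exact congrArg₂ (fun (p : U) (q : W) => p.1 + q.1) (LinearMap.congr_fun ha.eq u) (LinearMap.congr_fun hb.eq w)
  · obtain ⟨u, w, rfl⟩ := hsplit x
    simp only [map_add, LinearMap.add_apply, hgu, hgw, S.hsym (w.1) u.1, S.hsym ((b w).1) (a u).1,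
      horth _ u.2 _ w.2, horth _ (a u).2 _ (b w).2, haq, hbq]
    ring

theorem plane_mult (h2 : (2 : F) ≠ 0) (hsym : ∀ x y, B x y = B y x) {v w : V} (hv : B v v ≠ 0) (hw : B w w ≠ 0)
    (hvw : B v w = 0) {ν : F} (hν : ν ≠ 0) :
    ∃ a : Module.End F ↥(Submodule.span F (Set.range ![v, w])),
      finrank F ↥(Submodule.span F (Set.range ![v, w])) = 2 ∧
      (∀ x, B (a x).1 (a x).1 = ν * B x.1 x.1) ∧ LinearMap.det a = ν ∧
      (∀ x : ↥(Submodule.span F (Set.range ![v, w])),
        (∀ y : ↥(Submodule.span F (Set.range ![v, w])), B x.1 y.1 = 0) → x = 0) := by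
  classical
  have hwv : B w v = 0 := by rw [hsym]; exact hvw
  have hli : LinearIndependent F ![v, w] := by
    rw [LinearIndependent.pair_iff]
    intro s t h
    have h1 := congrArg (fun x => B x v) h
    have h2' := congrArg (fun x => B x w) h
    simp only [map_add, map_smul, LinearMap.add_apply, LinearMap.smul_apply, hwv, hvw, map_zero,
      LinearMap.zero_apply, smul_eq_mul, mul_zero, add_zero, zero_add] at h1 h2'
    exact ⟨(mul_eq_zero.mp h1).resolve_right hv, (mul_eq_zero.mp h2').resolve_right hw⟩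
  set U := Submodule.span F (Set.range ![v, w])
  let b : Basis (Fin 2) F U := Basis.span hli
  have hb0 : (b 0).1 = v := Basis.coe_span_apply hli 0
  have hb1 : (b 1).1 = w := Basis.coe_span_apply hli 1
  obtain ⟨p, q, hpq⟩ := FiniteForms.exists_rep_one h2 (a := ν⁻¹) (b := B w w / B v v * ν⁻¹) (inv_ne_zero hν)
    (mul_ne_zero (div_ne_zero hw hv) (inv_ne_zero hν))
  have hpq' : p * p * B v v + q * q * B w w = ν * B v v := by
    field_simp at hpq
    linear_combination hpq
  let a : Module.End F U := Matrix.toLin b b !![p, -(q * (B w w / B v v)); q, p]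
  have ha0 : a (b 0) = p • b 0 + q • b 1 := by simp [a, Matrix.toLin_self, Fin.sum_univ_two]
  have ha1 : a (b 1) = (-(q * (B w w / B v v))) • b 0 + p • b 1 := by
    simp [a, Matrix.toLin_self, Fin.sum_univ_two]
  refine ⟨a, by rw [Module.finrank_eq_card_basis b, Fintype.card_fin], fun x => ?_, ?_, fun x hx => ?_⟩
  · rw [← b.sum_repr x, Fin.sum_univ_two]
    simp only [map_add, map_smul, ha0, ha1, Submodule.coe_add, Submodule.coe_smul, hb0, hb1, LinearMap.add_apply,
      LinearMap.smul_apply, hvw, hwv, smul_eq_mul]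
    field_simp
    linear_combination ((b.repr x 0) ^ 2 * B v v + (b.repr x 1) ^ 2 * B w w) * hpq'
  · rw [LinearMap.det_toLin, Matrix.det_fin_two_of]
    field_simp
    linear_combination hpq'
  · have e0 := hx (b 0)
    have e1 := hx (b 1)
    rw [← b.sum_repr x, Fin.sum_univ_two] at e0 e1
    simp only [Submodule.coe_add, Submodule.coe_smul, hb0, hb1, map_add, map_smul, LinearMap.add_apply,
      LinearMap.smul_apply, hvw, hwv, smul_eq_mul, mul_zero, add_zero, zero_add] at e0 e1
    refine b.ext_elem fun i => ?_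
    rw [map_zero, Finsupp.zero_apply]
    fin_cases i
    · exact (mul_eq_zero.mp e0).resolve_right hv
    · exact (mul_eq_zero.mp e1).resolve_right hw

theorem exists_mult_aux {ν : F} (hν : ν ≠ 0) (hνs : ¬ IsSquare ν) :
    ∀ (n : ℕ) {V : Type v} [AddCommGroup V] [Module F V] [FiniteDimensional F V] {B : LinearMap.BilinForm F V}
      {f : Module.End F V}, Setup B f r → finrank F V = 2 * n →
      ∃ a : Module.End F V, Commute a f ∧ (∀ x, B (a x) (a x) = ν * B x x) ∧ LinearMap.det a = ν ^ n := by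
  intro n
  induction n using Nat.strong_induction_on with
  | _ n IH =>
    intro V _ _ _ B f S hn
    rcases Nat.eq_zero_or_pos n with rfl | hpos
    · haveI : Subsingleton V := Module.finrank_zero_iff.mp (by omega : finrank F V = 0)
      exact ⟨1, Commute.one_left _, fun x => by simp [Subsingleton.elim x 0], by simp⟩
    obtain ⟨U, hU, hnd, d, hd, hdn, aU, haU, haq, had⟩ : ∃ (U : Submodule F V) (hU : ∀ x ∈ U, f x ∈ U),
        (∀ x : U, (∀ y : U, B x.1 y.1 = 0) → x = 0) ∧ ∃ d : ℕ, 0 < d ∧ finrank F U = 2 * d ∧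
        ∃ aU : Module.End F U, Commute aU (f.restrict hU) ∧ (∀ x : U, B (aU x).1 (aU x).1 = ν * B x.1 x.1) ∧
          LinearMap.det aU = ν ^ d := by
      by_cases hf : f = 1
      · obtain ⟨v, hv⟩ : ∃ v, B v v ≠ 0 := by
          by_contra hc
          push Not at hc
          haveI : Nontrivial V := Module.nontrivial_of_finrank_pos (R := F) (by omega)
          obtain ⟨x, hx⟩ := exists_ne (0 : V)
          refine hx (S.hB.1 x fun y => ?_)
          have h1 := hc (x + y)
          simp only [map_add, LinearMap.add_apply, hc x, hc y, S.hsym y x] at h1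
          exact (mul_eq_zero.mp (show (2 : F) * B x y = 0 by linear_combination h1)).resolve_left S.h2
        obtain ⟨w, hvw, hw⟩ : ∃ w, B v w = 0 ∧ B w w ≠ 0 := by
          by_contra hc
          push Not at hc
          have hP : ∀ x, B v x = 0 → x = 0 := fun x hx => S.hB.1 x fun y => by
            have hy' : B v (y - (B v y / B v v) • v) = 0 := by
              rw [map_sub, map_smul, smul_eq_mul, div_mul_cancel₀ _ hv, sub_self]
            have h1 := hc _ (show B v (x + (y - (B v y / B v v) • v)) = 0 by rw [map_add, hx, hy', add_zero])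
            simp only [map_add, LinearMap.add_apply, hc _ hx, hc _ hy', S.hsym (y - _) x] at h1
            have h3 : B x (y - (B v y / B v v) • v) = 0 :=
              (mul_eq_zero.mp (show (2 : F) * _ = 0 by linear_combination h1)).resolve_left S.h2
            rwa [map_sub, map_smul, S.hsym x v, hx, smul_zero, sub_zero] at h3
          have hinj : Function.Injective (B v) := (injective_iff_map_eq_zero _).mpr hP
          have := LinearMap.finrank_le_finrank_of_injective hinj
          rw [Module.finrank_self] at this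
          omega
        obtain ⟨aU, h2', haq, had, hnd⟩ := plane_mult S.h2 S.hsym hv hw hvw hν
        refine ⟨_, fun x hx => by rw [hf]; exact hx, hnd, 1, one_pos, by rw [h2'], aU, ?_, haq, by rw [had, pow_one]⟩
        exact LinearMap.ext fun x => Subtype.ext (by subst hf; rfl)
      · obtain ⟨U, hU, hnd, hfix, c, hc, hcyc⟩ := exists_piece S hf
        obtain ⟨⟨aU, d, ha, haq, hfr, had⟩, -⟩ := cyclic_main (restrict_setup S U hU hnd) hfix hc hcyc hν hνs
        refine ⟨U, hU, hnd, d, Nat.pos_of_ne_zero fun h => hc ?_, hfr, aU, ha, haq, had⟩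
        haveI : Subsingleton U := Module.finrank_zero_iff.mp (by omega : finrank F U = 0)
        exact Subsingleton.elim _ _
    obtain ⟨W, hW, hcompl, horth, hndW, hdim, hglue⟩ := glue S U hU hnd
    obtain ⟨aW, haW, haWq, hadW⟩ := IH (n - d) (by omega) (restrict_setup S W hW hndW) (by omega)
    obtain ⟨g, hgu, hgw, hgd⟩ := hglue aU aW
    obtain ⟨h1, h2⟩ := glue_spec S hU hW hcompl horth hgu hgw haU haW haq haWq
    refine ⟨g, h1, h2, ?_⟩
    rw [hgd, had, hadW, ← pow_add]
    congr 1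
    omega

theorem exists_pair (S : Setup B f r) (hne : f ≠ 1) {ν : F} (hν : ν ≠ 0) (hνs : ¬ IsSquare ν) :
    ∃ (d : ℕ) (e e' : Fin d → V) (h : Module.End F V), Commute h f ∧
      (∀ i, B (e i) (e i) ≠ 0) ∧ (∀ i, B (e' i) (e' i) ≠ 0) ∧
      (∀ i j, i ≠ j → B (e i) (e j) = 0) ∧ (∀ i j, i ≠ j → B (e' i) (e' j) = 0) ∧
      (∀ x, refls B e' (refls B e x) = h x) ∧
      ¬ IsSquare ((∏ i, B (e i) (e i)) * ∏ i, B (e' i) (e' i)) := by
  obtain ⟨U, hU, hnd, hfix, c, hc, hcyc⟩ := exists_piece S hne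
  obtain ⟨-, d, e, e', h, hh, h1, h2, h3, h4, h5, h6⟩ := cyclic_main (restrict_setup S U hU hnd) hfix hc hcyc hν hνs
  obtain ⟨W, hW, hcompl, horth, hndW, -, hglue⟩ := glue S U hU hnd
  obtain ⟨g, hgu, hgw, -⟩ := hglue h 1
  refine ⟨d, fun i => (e i).1, fun i => (e' i).1, g, ?_, h1, h2, h3, h4, fun x => ?_, h6⟩
  · refine LinearMap.ext fun x => ?_
    have hxs : x ∈ U ⊔ W := hcompl.sup_eq_top ▸ Submodule.mem_top
    obtain ⟨u, hu, w, hw, rfl⟩ := Submodule.mem_sup.mp hxs
    simp only [Module.End.mul_apply, map_add]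
    rw [hgu ⟨u, hu⟩, hgw ⟨w, hw⟩, show f u = (f.restrict hU ⟨u, hu⟩).1 from rfl,
      show f w = (f.restrict hW ⟨w, hw⟩).1 from rfl, hgu, hgw]
    exact congrArg₂ (· + ·) (congrArg Subtype.val (LinearMap.congr_fun hh.eq ⟨u, hu⟩)) rfl
  · have hxs : x ∈ U ⊔ W := hcompl.sup_eq_top ▸ Submodule.mem_top
    obtain ⟨u, hu, w, hw, rfl⟩ := Submodule.mem_sup.mp hxs
    have hlin : ∀ (k : Fin d → U) (p : U), refls B (fun i => (k i).1) (p.1 + w) =
        (refls (B.compl₁₂ U.subtype U.subtype) k p).1 + w := by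
      intro k p
      simp only [refls, map_add, horth _ (k _).2 w hw, add_zero, Submodule.coe_sub, AddSubmonoidClass.coe_finsetSum,
        Submodule.coe_smul, LinearMap.compl₁₂_apply, Submodule.coe_subtype]
      abel
    rw [hlin e ⟨u, hu⟩, hlin e', h5, map_add, hgu ⟨u, hu⟩, hgw ⟨w, hw⟩]
    rfl

end CfsgLib.PGO.Cyclic
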