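import Cfsg.Agent.Lib.PGO.Groups
import Cfsg.Agent.Lib.PGO.Basic

/-!
The structure of `PGO(Q)` modulo the inner automorphisms of `PΩ(Q)`.
-/

set_option autoImplicit false
set_option linter.dupNamespace false
set_option linter.unusedSectionVars false

namespace CfsgLib.PGO

open QuadraticMap CfsgLib.SpinorNorm CfsgLib.SpinorMatrix CfsgLib.OmegaList
open scoped Matrix

variable {F : Type*} [Field F] [Fintype F] {ι : Type} [Fintype ι] [DecidableEq ι]

/-- An orthogonal basis and a similarity with non-square multiplier whose square is scalar. -/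
structure Data (Q : QuadraticForm F (ι → F)) where
  h2 : (2 : F) ≠ 0
  hn : 5 ≤ Fintype.card ι
  heven : Even (Fintype.card ι)
  hQ : (polarBilin Q).Nondegenerate
  v : ι → ι → F
  hv : ∀ i, Q (v i) ≠ 0
  hp : ∀ i j, i ≠ j → polar (⇑Q) (v i) (v j) = 0
  ν : Fˣ
  hν : ¬ IsSquare (ν : F)
  δ : GO Q
  hδ : ∀ x, Q (δ.1.1 *ᵥ x) = (ν : F) * Q x
  hδsq : δ.1 * δ.1 = sc ν

variable {Q : QuadraticForm F (ι → F)}

instance omNormal : (scSub Q (OmL Q)).Normal := scSub_normal Q (OmL_conj Q)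

instance soNormal : (scSub Q (Cfsg.specialIsometryGL F ⇑Q)).Normal := scSub_normal Q (SO_conj Q)

/-- Scalars times `Ω`. -/
abbrev Ns (Q : QuadraticForm F (ι → F)) : Subgroup (GO Q) := scSub Q (OmL Q)

/-- Scalars times `SO`. -/
abbrev Hs (Q : QuadraticForm F (ι → F)) : Subgroup (GO Q) := scSub Q (Cfsg.specialIsometryGL F ⇑Q)

theorem Ns_le_Hs : Ns Q ≤ Hs Q := scSub_mono Q (OmL_le Q)

namespace Data

variable (D : Data Q)

include D

theorem nonempty : Nonempty ι := Fintype.card_pos_iff.mp (by have := D.hn; omega)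

/-- The chosen anisotropic vector. -/
noncomputable def a : ι → F := D.v (@Classical.arbitrary ι D.nonempty)

theorem ha : Q D.a ≠ 0 := D.hv _

theorem hb : Q (D.δ.1.1 *ᵥ D.a) ≠ 0 := by
  rw [D.hδ]
  exact mul_ne_zero D.ν.ne_zero D.ha

theorem hc : Subgroup.closure (Refl Q) = ⊤ := hc_odd Q D.h2 D.hQ

/-- A reflection as an isometry. -/
noncomputable def rO {w : ι → F} (hw : Q w ≠ 0) : Cfsg.isometryGroup F ⇑Q := (isoEquiv Q).symm (refl Q hw)

omit D in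
theorem rO_sq {w : ι → F} (hw : Q w ≠ 0) : rO hw * rO hw = 1 := by
  rw [rO, ← map_mul, refl_mul_self, map_one]

/-- An isometry as a similarity. -/
def toGO (o : Cfsg.isometryGroup F ⇑Q) : GO Q := ⟨o.1, iso_mem Q o.2⟩

omit D in
theorem toGO_mul (o p : Cfsg.isometryGroup F ⇑Q) : toGO (o * p) = toGO o * toGO p := rfl

/-- The reflection in `a`. -/
noncomputable def r : GO Q := toGO (rO D.ha)

/-- The rotation `r_a r_{δ a}`. -/
noncomputable def z₀ : Cfsg.isometryGroup F ⇑Q := rO D.ha * rO D.hb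

theorem r_sq : D.r * D.r = 1 := by rw [r, ← toGO_mul, rO_sq]; rfl

theorem conj_r : D.δ.1 * (rO D.ha).1 * D.δ.1⁻¹ = (rO D.hb).1 := by
  rw [mul_inv_eq_iff_eq_mul]
  refine Units.ext (Matrix.ext_of_mulVec_single fun i => ?_)
  show (D.δ.1.1 * ((isoEquiv Q).symm (refl Q D.ha)).1.1) *ᵥ _ =
    (((isoEquiv Q).symm (refl Q D.hb)).1.1 * D.δ.1.1) *ᵥ _
  rw [← Matrix.mulVec_mulVec, ← Matrix.mulVec_mulVec, symm_refl_matrix, symm_refl_matrix,
    PolarVec.reflection_mulVec, PolarVec.reflection_mulVec, Matrix.mulVec_add, Matrix.mulVec_smul]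
  have hpol : ∀ x y, polar (⇑Q) (D.δ.1.1 *ᵥ x) (D.δ.1.1 *ᵥ y) = (D.ν : F) * polar (⇑Q) x y := fun x y => by
    simp only [polar, ← Matrix.mulVec_add, D.hδ]; ring
  rw [hpol, D.hδ]
  congr 3
  have := D.ν.ne_zero
  have := D.ha
  field_simp

theorem rδ_sq : (D.r * D.δ) * (D.r * D.δ) = toGO D.z₀ * ⟨sc D.ν, sc_mem Q D.ν⟩ := by
  refine Subtype.ext ?_
  show (rO D.ha).1 * D.δ.1 * ((rO D.ha).1 * D.δ.1) = (rO D.ha).1 * (rO D.hb).1 * sc D.ν
  rw [← D.conj_r, ← D.hδsq]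
  group

omit D in
theorem det_RP : ∀ vs : List (ι → F), (∀ v ∈ vs, Q v ≠ 0) → (RP Q vs).det = (-1) ^ vs.length := by
  intro vs
  induction vs with
  | nil => intro _; simp [RP]
  | cons w t ih =>
    intro h
    have e : RP Q (w :: t) = Cfsg.reflectionMatrix (⇑Q) w * RP Q t := by simp [RP]
    rw [e, Matrix.det_mul, ih fun x hx => h x (List.mem_cons_of_mem _ hx),
      ← symm_refl_matrix Q (h w List.mem_cons_self), det_refl, List.length_cons, pow_succ']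

theorem det_cases (o : Cfsg.isometryGroup F ⇑Q) : o.1.1.det = 1 ∨ o.1.1.det = -1 := by
  obtain ⟨vs, h1, h2⟩ := exists_list Q D.hc o
  rw [h2, det_RP vs h1]
  exact neg_one_pow_eq_or F _

theorem det_r : (rO D.ha).1.1.det = -1 := det_refl Q D.ha

omit D in
theorem mem_SO {o : Cfsg.isometryGroup F ⇑Q} : o.1 ∈ Cfsg.specialIsometryGL F ⇑Q ↔ o.1.1.det = 1 := by
  refine ⟨fun h => congrArg Units.val h.2, fun h => ⟨o.2, Units.ext h⟩⟩

theorem z₀_SO : D.z₀.1 ∈ Cfsg.specialIsometryGL F ⇑Q := by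
  rw [mem_SO]
  show ((rO D.ha).1.1 * (rO D.hb).1.1).det = 1
  rw [Matrix.det_mul, det_r, rO, det_refl, neg_one_mul, neg_neg]

theorem hqp : ¬ IsSquare (Q D.a * Q (D.δ.1.1 *ᵥ D.a)) := by
  rw [D.hδ]
  intro h
  refine D.hν ?_
  obtain ⟨t, ht⟩ := h
  refine ⟨t / Q D.a, ?_⟩
  have := D.ha
  field_simp
  linear_combination ht

theorem z₀_notMem : D.z₀ ∉ Cfsg.Omega F ⇑Q := by
  rw [omega_iff_list Q D.hc D.hQ D.z₀ [D.a, D.δ.1.1 *ᵥ D.a] (by simp [D.ha, D.hb]) (by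
    show ((isoEquiv Q).symm (refl Q D.ha)).1.1 * ((isoEquiv Q).symm (refl Q D.hb)).1.1 = _
    rw [symm_refl_matrix, symm_refl_matrix]; simp [RP])]
  intro h
  exact D.hqp (by simpa [QP] using h.2)

theorem omega_or (o : Cfsg.isometryGroup F ⇑Q) (ho : o.1.1.det = 1) :
    o ∈ Cfsg.Omega F ⇑Q ∨ o * D.z₀⁻¹ ∈ Cfsg.Omega F ⇑Q := by
  classical
  obtain ⟨vs, h1, h2⟩ := exists_list Q D.hc o
  have heven : Even vs.length := by
    rcases Nat.even_or_odd vs.length with h | h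
    · exact h
    · rw [h2, det_RP vs h1, h.neg_one_pow] at ho
      exact absurd (by linear_combination -ho : (2 : F) = 0) D.h2
  by_cases hsq : IsSquare (QP Q vs)
  · exact Or.inl ((omega_iff_list Q D.hc D.hQ o vs h1 h2).mpr ⟨heven, hsq⟩)
  · right
    have hzi : D.z₀⁻¹ = rO D.hb * rO D.ha := by
      rw [inv_eq_iff_mul_eq_one, z₀, mul_assoc, ← mul_assoc (rO D.hb), rO_sq, one_mul, rO_sq]
    have h1' : ∀ w ∈ [D.δ.1.1 *ᵥ D.a, D.a], Q w ≠ 0 := by simp [D.ha, D.hb]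
    refine (omega_iff_list Q D.hc D.hQ _ (vs ++ [D.δ.1.1 *ᵥ D.a, D.a]) ?_ ?_).mpr ⟨?_, ?_⟩
    · intro w hw
      rcases List.mem_append.mp hw with h | h
      · exact h1 w h
      · exact h1' w h
    · rw [RP_append, hzi]
      show o.1.1 * (((isoEquiv Q).symm (refl Q D.hb)).1.1 * ((isoEquiv Q).symm (refl Q D.ha)).1.1) = _
      rw [symm_refl_matrix, symm_refl_matrix, h2]; simp [RP]
    · rw [List.length_append]; exact heven.add (by simp)
    · rw [QP_append, OmegaMem.isSquare_mul_iff D.h2 (QP_ne_zero Q h1) (QP_ne_zero Q h1')]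
      refine iff_of_false hsq ?_
      intro h
      exact D.hqp (by simpa [QP, mul_comm] using h)

omit D in
theorem mem_Ns_of_mem {o : Cfsg.isometryGroup F ⇑Q} (h : o ∈ Cfsg.Omega F ⇑Q) : toGO o ∈ Ns Q :=
  ⟨1, o.1, ⟨o, h, rfl⟩, by rw [map_one, one_mul]; rfl⟩

omit D in
theorem mem_Hs_of_det {o : Cfsg.isometryGroup F ⇑Q} (h : o.1.1.det = 1) : toGO o ∈ Hs Q :=
  ⟨1, o.1, mem_SO.mpr h, by rw [map_one, one_mul]; rfl⟩

omit D in
theorem sc_mem_Ns (c : Fˣ) : (⟨sc c, sc_mem Q c⟩ : GO Q) ∈ Ns Q :=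
  ⟨c, 1, one_mem _, (mul_one _).symm⟩

theorem z_mem_Hs : toGO D.z₀ ∈ Hs Q := mem_Hs_of_det (mem_SO.mp D.z₀_SO)

theorem Hs_split {g : GO Q} (hg : g ∈ Hs Q) : g ∈ Ns Q ∨ g * (toGO D.z₀)⁻¹ ∈ Ns Q := by
  obtain ⟨c, o, ho, hgo⟩ := hg
  rcases D.omega_or ⟨o, ho.1⟩ (mem_SO (o := ⟨o, ho.1⟩).mp ho) with h | h
  · exact Or.inl ⟨c, o, ⟨⟨o, ho.1⟩, h, rfl⟩, hgo⟩
  · refine Or.inr ⟨c, o * D.z₀.1⁻¹, ⟨_, h, rfl⟩, ?_⟩
    rw [Subgroup.coe_mul, hgo, mul_assoc]
    rfl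

omit D in
theorem smul_sq {c : Fˣ} {o : GL ι F} (ho : o ∈ Cfsg.isometryGroup F ⇑Q) (x : ι → F) :
    Q ((sc c * o).1 *ᵥ x) = (c : F) * c * Q x := by
  rw [Units.val_mul, ← Matrix.mulVec_mulVec, sc_mulVec, QuadraticMap.map_smul, smul_eq_mul,
    show Q (o.1 *ᵥ x) = Q x from ho x x]

theorem not_Hs_of_mult {g : GO Q} (h : ∀ x, Q (g.1.1 *ᵥ x) = (D.ν : F) * Q x) : g ∉ Hs Q := by
  rintro ⟨c, o, ho, hg⟩
  have h1 := h D.a
  rw [hg, smul_sq ho.1] at h1
  exact D.hν ⟨c, (mul_right_cancel₀ D.ha h1).symm⟩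

theorem δ_notMem : D.δ ∉ Hs Q := D.not_Hs_of_mult D.hδ

theorem rδ_notMem : D.r * D.δ ∉ Hs Q := D.not_Hs_of_mult fun x => by
  show Q (((rO D.ha).1.1 * D.δ.1.1) *ᵥ x) = _
  rw [← Matrix.mulVec_mulVec, show Q ((rO D.ha).1.1 *ᵥ (D.δ.1.1 *ᵥ x)) = Q (D.δ.1.1 *ᵥ x) from
    (rO D.ha).2 _ x, D.hδ]

theorem r_notMem : D.r ∉ Hs Q := by
  rintro ⟨c, o, ho, hg⟩
  have h1 := congrArg (fun g : GL ι F => Q (g.1 *ᵥ D.a)) hg
  rw [smul_sq ho.1, show Q (D.r.1.1 *ᵥ D.a) = Q D.a from (rO D.ha).2 _ D.a] at h1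
  have hc2 : (c : F) * c = 1 := mul_right_cancel₀ D.ha (by rw [← h1, one_mul])
  have h2 : D.r.1.1.det = (sc c * o).1.det := by rw [hg]
  rw [show D.r.1.1.det = -1 from D.det_r, Units.val_mul, Matrix.det_mul, sc_val, Matrix.det_smul, Matrix.det_one,
    mem_SO (o := ⟨o, ho.1⟩).mp ho, mul_one, mul_one] at h2
  have h3 : (c : F) ^ Fintype.card ι = 1 := by
    obtain ⟨k, hk⟩ := D.heven
    rw [hk, pow_add, ← mul_pow, hc2, one_pow]
  rw [h3] at h2
  exact D.h2 (by linear_combination -h2)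

theorem cover (g : GO Q) : g ∈ Hs Q ∨ D.r * g ∈ Hs Q ∨ D.δ * g ∈ Hs Q ∨ D.r * (D.δ * g) ∈ Hs Q := by
  classical
  have hsq : ∀ g : GO Q, (∃ c : Fˣ, ∀ x, Q (g.1.1 *ᵥ x) = (c : F) * c * Q x) → g ∈ Hs Q ∨ D.r * g ∈ Hs Q := by
    rintro g ⟨c, hg⟩
    have ho : sc c⁻¹ * g.1 ∈ Cfsg.isometryGroup F ⇑Q := fun x _ => by
      show Q ((sc c⁻¹ * g.1).1 *ᵥ x) = Q x
      rw [Units.val_mul, ← Matrix.mulVec_mulVec, sc_mulVec, QuadraticMap.map_smul, smul_eq_mul, hg,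
        Units.val_inv_eq_inv_val]
      field_simp
    rcases D.det_cases ⟨_, ho⟩ with h | h
    · refine Or.inl ⟨c, _, mem_SO (o := ⟨_, ho⟩).mpr h, ?_⟩
      rw [← mul_assoc, ← map_mul, mul_inv_cancel, map_one, one_mul]
    · let o₁ : Cfsg.isometryGroup F ⇑Q := ⟨sc c⁻¹ * g.1, ho⟩
      have hd : (rO D.ha * o₁).1.1.det = 1 := by
        rw [Subgroup.coe_mul, Units.val_mul, Matrix.det_mul, det_r]
        show (-1) * (sc c⁻¹ * g.1).1.det = 1
        rw [h, neg_one_mul, neg_neg]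
      have hg' : (D.r * g).1 = sc c * (rO D.ha * o₁).1 := by
        rw [Subgroup.coe_mul, Subgroup.coe_mul]
        show (rO D.ha).1 * g.1 = sc c * ((rO D.ha).1 * (sc c⁻¹ * g.1))
        rw [← mul_assoc, ← mul_assoc, sc_comm c, mul_assoc (rO D.ha).1, ← map_mul, mul_inv_cancel, map_one, mul_one]
      exact Or.inr ⟨c, (rO D.ha * o₁).1, mem_SO.mpr hd, hg'⟩
  obtain ⟨e, he⟩ := g.2
  by_cases h : IsSquare (e : F)
  · obtain ⟨t, ht⟩ := h
    have ht0 : t ≠ 0 := fun h0 => e.ne_zero (by rw [ht, h0, mul_zero])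
    rcases hsq g ⟨Units.mk0 t ht0, fun x => by rw [he, ht, Units.val_mk0]⟩ with h | h
    · exact Or.inl h
    · exact Or.inr (Or.inl h)
  · obtain ⟨t, ht⟩ := (OmegaMem.isSquare_mul_iff D.h2 D.ν.ne_zero e.ne_zero).mpr (iff_of_false D.hν h)
    have ht0 : t ≠ 0 := fun h0 => mul_ne_zero D.ν.ne_zero e.ne_zero (by rw [ht, h0, mul_zero])
    rcases hsq (D.δ * g) ⟨Units.mk0 t ht0, fun x => by
      rw [Subgroup.coe_mul, Units.val_mul, ← Matrix.mulVec_mulVec, D.hδ, he, ← mul_assoc, ht, Units.val_mk0]⟩ with h | h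
    · exact Or.inr (Or.inr (Or.inl h))
    · exact Or.inr (Or.inr (Or.inr h))

theorem ker_le : (Θ Q).ker ≤ Ns Q := by
  intro g hg
  obtain ⟨c, hc⟩ := scalar_of_ker Q D.hn D.hQ D.h2 D.hv D.hp hg
  have : g = ⟨sc c, sc_mem Q c⟩ := Subtype.ext hc
  exact this ▸ sc_mem_Ns c

theorem negMem_of_z_notMem (h : toGO D.z₀ ∉ Ns Q) : POmegaCard.NegMem F ⇑Q := by
  by_contra hneg
  have hm : ∀ x, Q ((sc (ι := ι) (-1 : Fˣ)).1 *ᵥ x) = Q x := fun x => by
    rw [sc_mulVec, QuadraticMap.map_smul]; simp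
  let n1 : Cfsg.isometryGroup F ⇑Q := ⟨sc (-1), fun x _ => hm x⟩
  have hd : n1.1.1.det = 1 := by
    show (sc (ι := ι) (-1 : Fˣ)).1.det = 1
    rw [sc_val, Matrix.det_smul, Matrix.det_one, mul_one, Units.val_neg, Units.val_one, D.heven.neg_one_pow]
  rcases D.omega_or n1 hd with h1 | h1
  · refine hneg ⟨n1, h1, ?_⟩
    show (sc (ι := ι) (-1 : Fˣ)).1 = -1
    rw [sc_val]; simp
  · refine h ?_
    have e : toGO D.z₀ = (toGO (n1 * D.z₀⁻¹))⁻¹ * toGO n1 := by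
      refine Subtype.ext ?_
      show D.z₀.1 = (sc (-1) * D.z₀.1⁻¹)⁻¹ * sc (-1)
      group
    rw [e]
    exact mul_mem (inv_mem (mem_Ns_of_mem h1)) (sc_mem_Ns (-1))

theorem z_notMem_of_negMem (h : POmegaCard.NegMem F ⇑Q) : toGO D.z₀ ∉ Ns Q := by
  rintro ⟨c, _, ⟨o, ho, rfl⟩, hz⟩
  obtain ⟨g, hg, hg1⟩ := h
  have h1 := congrArg (fun g : GL ι F => Q (g.1 *ᵥ D.a)) hz
  rw [smul_sq (show (Cfsg.isometryGroup F ⇑Q).subtype o ∈ Cfsg.isometryGroup F ⇑Q from o.2),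
    show Q ((toGO D.z₀).1.1 *ᵥ D.a) = Q D.a from D.z₀.2 _ D.a] at h1
  rcases mul_self_eq_one_iff.mp (mul_right_cancel₀ D.ha (show (c : F) * c * Q D.a = 1 * Q D.a by
    rw [← h1, one_mul])) with hc | hc
  · refine D.z₀_notMem ?_
    have : D.z₀ = o := Subtype.ext (by
      rw [show c = 1 from Units.ext hc, map_one, one_mul] at hz; exact hz)
    rwa [this]
  · refine D.z₀_notMem ?_
    have : D.z₀ = g * o := Subtype.ext (Units.ext (by
      have h2 := congrArg Units.val hz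
      rw [Units.val_mul, sc_val, hc] at h2
      show D.z₀.1.1 = g.1.1 * o.1.1
      rw [hg1]
      simpa [toGO] using h2))
    exact this ▸ mul_mem hg ho

theorem z_mem_iff : toGO D.z₀ ∈ Ns Q ↔ ¬ POmegaCard.NegMem F ⇑Q :=
  ⟨fun h hn => D.z_notMem_of_negMem hn h, fun h => not_not.mp fun hz => h (D.negMem_of_z_notMem hz)⟩

/-- The image of the reflection modulo `Ω` and scalars. -/
noncomputable def x : GO Q ⧸ Ns Q := QuotientGroup.mk D.r

/-- The image of the similarity. -/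
def y : GO Q ⧸ Ns Q := QuotientGroup.mk D.δ

theorem x_sq : D.x * D.x = 1 := by rw [x, ← QuotientGroup.mk_mul, r_sq, QuotientGroup.mk_one]

theorem y_sq : D.y * D.y = 1 := by
  rw [y, ← QuotientGroup.mk_mul, QuotientGroup.eq_one_iff]
  have : D.δ * D.δ = ⟨sc D.ν, sc_mem Q D.ν⟩ := Subtype.ext D.hδsq
  exact this ▸ sc_mem_Ns D.ν

theorem u_sq : D.x * D.y * (D.x * D.y) = QuotientGroup.mk (toGO D.z₀) := by
  rw [x, y, ← QuotientGroup.mk_mul, ← QuotientGroup.mk_mul, rδ_sq, QuotientGroup.mk_mul,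
    (QuotientGroup.eq_one_iff _).mpr (sc_mem_Ns D.ν), mul_one]

theorem conj_u : D.x * (D.x * D.y) * D.x = (D.x * D.y)⁻¹ := by
  rw [_root_.mul_inv_rev, inv_eq_of_mul_eq_one_right D.x_sq, inv_eq_of_mul_eq_one_right D.y_sq, ← mul_assoc,
    D.x_sq, one_mul]

theorem mk_Hs {g : GO Q} (hg : g ∈ Hs Q) :
    (QuotientGroup.mk g : GO Q ⧸ Ns Q) = 1 ∨ (QuotientGroup.mk g : GO Q ⧸ Ns Q) = D.x * D.y * (D.x * D.y) := by
  rcases D.Hs_split hg with h | h
  · exact Or.inl ((QuotientGroup.eq_one_iff g).mpr h)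
  · right
    rw [u_sq, ← mul_inv_eq_one, ← QuotientGroup.mk_inv, ← QuotientGroup.mk_mul, QuotientGroup.eq_one_iff]
    exact h

theorem generate : Subgroup.closure ({D.x, D.x * D.y} : Set (GO Q ⧸ Ns Q)) = ⊤ := by
  set C := Subgroup.closure ({D.x, D.x * D.y} : Set (GO Q ⧸ Ns Q))
  have hx : D.x ∈ C := Subgroup.subset_closure (by simp)
  have hu : D.x * D.y ∈ C := Subgroup.subset_closure (by simp)
  have hy : D.y ∈ C := by
    have := mul_mem hx hu
    rwa [← mul_assoc, D.x_sq, one_mul] at this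
  have hH : ∀ g ∈ Hs Q, (QuotientGroup.mk g : GO Q ⧸ Ns Q) ∈ C := fun g hg => by
    rcases D.mk_Hs hg with h | h <;> rw [h]
    · exact one_mem _
    · exact mul_mem hu hu
  rw [eq_top_iff]
  intro q _
  induction q using QuotientGroup.induction_on with
  | _ g =>
    rcases D.cover g with h | h | h | h <;> have h' := hH _ h
    · exact h'
    · exact (mul_mem_cancel_left (x := D.x) hx).mp h'
    · exact (mul_mem_cancel_left (x := D.y) hy).mp h'
    · exact (mul_mem_cancel_left (x := D.y) hy).mp ((mul_mem_cancel_left (x := D.x) hx).mp h')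

theorem x_ne : D.x ≠ 1 := fun h => D.r_notMem (Ns_le_Hs ((QuotientGroup.eq_one_iff _).mp h))

theorem y_ne : D.y ≠ 1 := fun h => D.δ_notMem (Ns_le_Hs ((QuotientGroup.eq_one_iff _).mp h))

theorem u_ne : D.x * D.y ≠ 1 := fun h => D.rδ_notMem (Ns_le_Hs ((QuotientGroup.eq_one_iff _).mp h))

theorem orderOf_u_four (h : POmegaCard.NegMem F ⇑Q) : orderOf (D.x * D.y) = 4 := by
  haveI : Fact (Nat.Prime 2) := ⟨Nat.prime_two⟩
  refine orderOf_eq_prime_pow (p := 2) (n := 1) ?_ ?_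
  · rw [pow_one, pow_two, u_sq, QuotientGroup.eq_one_iff]
    exact D.z_notMem_of_negMem h
  · show (D.x * D.y) ^ 4 = 1
    rw [show 4 = 2 * 2 from rfl, pow_mul, pow_two, pow_two, u_sq, ← QuotientGroup.mk_mul, QuotientGroup.eq_one_iff,
      ← toGO_mul]
    exact mem_Ns_of_mem (sq_mem_commutator Q D.hc D.z₀)

theorem orderOf_u_two (h : ¬ POmegaCard.NegMem F ⇑Q) : orderOf (D.x * D.y) = 2 := by
  haveI : Fact (Nat.Prime 2) := ⟨Nat.prime_two⟩
  refine orderOf_eq_prime ?_ D.u_ne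
  rw [pow_two, u_sq, QuotientGroup.eq_one_iff]
  exact D.z_mem_iff.mpr h

theorem x_notMem_zpowers : D.x ∉ Subgroup.zpowers (D.x * D.y) := by
  intro hx
  rw [Subgroup.mem_zpowers_iff] at hx
  obtain ⟨k, hk⟩ := hx
  let π : GO Q ⧸ Ns Q →* GO Q ⧸ Hs Q :=
    QuotientGroup.map (Ns Q) (Hs Q) (MonoidHom.id _) fun g hg => Ns_le_Hs hg
  have hu2 : (π (D.x * D.y)) ^ (2 : ℤ) = 1 := by
    rw [zpow_two, ← map_mul, u_sq]
    exact (QuotientGroup.eq_one_iff _).mpr D.z_mem_Hs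
  have hk' := congrArg π hk
  rw [map_zpow] at hk'
  rcases Int.even_or_odd k with ⟨j, rfl⟩ | ⟨j, rfl⟩
  · rw [← two_mul, zpow_mul, hu2, one_zpow] at hk'
    exact D.r_notMem ((QuotientGroup.eq_one_iff _).mp hk'.symm)
  · rw [zpow_add, zpow_mul, hu2, one_zpow, one_mul, zpow_one, map_mul] at hk'
    exact D.δ_notMem ((QuotientGroup.eq_one_iff _).mp (mul_eq_left.mp hk'))

theorem four_iso (h : ¬ POmegaCard.NegMem F ⇑Q) :
    Nonempty (Multiplicative (ZMod 2 × ZMod 2) ≃* GO Q ⧸ Ns Q) := by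
  have hz : D.x * D.y * (D.x * D.y) = 1 := by
    rw [u_sq, QuotientGroup.eq_one_iff]; exact D.z_mem_iff.mpr h
  have hinv : (D.x * D.y)⁻¹ = D.x * D.y := inv_eq_of_mul_eq_one_right hz
  have hxy : D.x * D.y = D.y * D.x := by
    nth_rewrite 1 [← hinv]
    rw [_root_.mul_inv_rev, inv_eq_of_mul_eq_one_right D.x_sq, inv_eq_of_mul_eq_one_right D.y_sq]
  refine exists_four D.x_sq D.y_sq hxy D.x_ne D.y_ne (fun e => D.u_ne (by rw [← e, D.x_sq])) fun q => ?_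
  have hy : D.x * (D.x * D.y) = D.y := by rw [← mul_assoc, D.x_sq, one_mul]
  have hz2 : (D.x * D.y) ^ (2 : ℤ) = 1 := by rw [zpow_two, hz]
  rcases word_cases D.x_sq D.conj_u D.generate q with hq | hq <;>
    rw [Subgroup.mem_zpowers_iff] at hq <;> obtain ⟨k, hk⟩ := hq <;>
    rcases Int.even_or_odd k with ⟨j, rfl⟩ | ⟨j, rfl⟩
  · rw [← two_mul, zpow_mul, hz2, one_zpow] at hk
    exact Or.inl hk.symm
  · rw [zpow_add, zpow_mul, hz2, one_zpow, one_mul, zpow_one] at hk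
    exact Or.inr (Or.inr (Or.inr hk.symm))
  · rw [← two_mul, zpow_mul, hz2, one_zpow] at hk
    refine Or.inr (Or.inl ?_)
    rw [← mul_one D.x, hk, ← mul_assoc, D.x_sq, one_mul]
  · rw [zpow_add, zpow_mul, hz2, one_zpow, one_mul, zpow_one] at hk
    refine Or.inr (Or.inr (Or.inl ?_))
    rw [← hy, hk, ← mul_assoc, D.x_sq, one_mul]

theorem dihedral_iso (h : POmegaCard.NegMem F ⇑Q) : Nonempty (DihedralGroup 4 ≃* GO Q ⧸ Ns Q) :=
  exists_dihedral D.x_sq D.conj_u (D.orderOf_u_four h) D.x_notMem_zpowers D.generate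

theorem pso_four : Nonempty (Multiplicative (ZMod 2 × ZMod 2) ≃* GO Q ⧸ Hs Q) := by
  set x' : GO Q ⧸ Hs Q := QuotientGroup.mk D.r
  set y' : GO Q ⧸ Hs Q := QuotientGroup.mk D.δ
  have hx : x' * x' = 1 := by rw [← QuotientGroup.mk_mul, r_sq, QuotientGroup.mk_one]
  have hy : y' * y' = 1 := by
    rw [← QuotientGroup.mk_mul, QuotientGroup.eq_one_iff,
      show D.δ * D.δ = ⟨sc D.ν, sc_mem Q D.ν⟩ from Subtype.ext D.hδsq]
    exact Ns_le_Hs (sc_mem_Ns D.ν)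
  have hu : x' * y' * (x' * y') = 1 := by
    rw [← QuotientGroup.mk_mul, ← QuotientGroup.mk_mul, rδ_sq, QuotientGroup.eq_one_iff]
    exact mul_mem D.z_mem_Hs (Ns_le_Hs (sc_mem_Ns D.ν))
  have hxy : x' * y' = y' * x' := by
    rw [← inv_eq_of_mul_eq_one_right hu, _root_.mul_inv_rev, inv_eq_of_mul_eq_one_right hx,
      inv_eq_of_mul_eq_one_right hy]
  refine exists_four hx hy hxy (fun h => D.r_notMem ((QuotientGroup.eq_one_iff _).mp h))
    (fun h => D.δ_notMem ((QuotientGroup.eq_one_iff _).mp h))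
    (fun h => D.rδ_notMem ((QuotientGroup.eq_one_iff _).mp (show x' * y' = 1 by rw [← h, hx]))) fun q => ?_
  induction q using QuotientGroup.induction_on with
  | _ g =>
    rcases D.cover g with h | h | h | h <;> have h' := (QuotientGroup.eq_one_iff _).mpr h
    · exact Or.inl h'
    · refine Or.inr (Or.inl ?_)
      exact (eq_inv_of_mul_eq_one_right (h' : x' * _ = 1)).trans (inv_eq_of_mul_eq_one_right hx)
    · refine Or.inr (Or.inr (Or.inl ?_))
      exact (eq_inv_of_mul_eq_one_right (h' : y' * _ = 1)).trans (inv_eq_of_mul_eq_one_right hy)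
    · refine Or.inr (Or.inr (Or.inr ?_))
      have h2 := eq_inv_of_mul_eq_one_right (show x' * y' * (QuotientGroup.mk g : GO Q ⧸ Hs Q) = 1 by
        rw [mul_assoc]; exact h')
      rw [h2, inv_eq_of_mul_eq_one_right hu]

theorem descend_quot {C : Type*} [Group C] (K : Subgroup (GO Q)) [K.Normal] (hK : Ns Q ≤ K) (e : C ≃* GO Q ⧸ K) :
    ∃ φ : Cfsg.pgoAut F ⇑Q →* C, Function.Surjective φ ∧
      φ.ker = (K.map (Θ Q)).subgroupOf (Cfsg.pgoAut F ⇑Q) := by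
  have hk : (e.symm.toMonoidHom.comp (QuotientGroup.mk' K)).ker = K := by
    ext g
    rw [MonoidHom.mem_ker, MonoidHom.comp_apply, MulEquiv.coe_toMonoidHom, e.symm.map_eq_one_iff]
    exact QuotientGroup.eq_one_iff _
  refine descend (Θ Q) _ (e.symm.surjective.comp (QuotientGroup.mk'_surjective K))
    (by rw [hk]; exact D.ker_le.trans hK) (pgoAut_eq Q).symm ?_
  rw [hk]

theorem pgo_mod_pso : ∃ φ : Cfsg.pgoAut F ⇑Q →* Multiplicative (ZMod 2 × ZMod 2), Function.Surjective φ ∧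
    φ.ker = (Cfsg.psoAut F ⇑Q).subgroupOf (Cfsg.pgoAut F ⇑Q) := by
  obtain ⟨e⟩ := D.pso_four
  rw [psoAut_eq]
  exact D.descend_quot (Hs Q) Ns_le_Hs e

theorem pgo_mod_inn_four (h : ¬ POmegaCard.NegMem F ⇑Q) :
    ∃ φ : Cfsg.pgoAut F ⇑Q →* Multiplicative (ZMod 2 × ZMod 2), Function.Surjective φ ∧
      φ.ker = (Cfsg.Inn (Cfsg.POmega F ⇑Q)).subgroupOf (Cfsg.pgoAut F ⇑Q) := by
  obtain ⟨e⟩ := D.four_iso h
  rw [inn_eq]
  exact D.descend_quot (Ns Q) le_rfl e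

theorem pgo_mod_inn_dihedral (h : POmegaCard.NegMem F ⇑Q) :
    ∃ φ : Cfsg.pgoAut F ⇑Q →* DihedralGroup 4, Function.Surjective φ ∧
      φ.ker = (Cfsg.Inn (Cfsg.POmega F ⇑Q)).subgroupOf (Cfsg.pgoAut F ⇑Q) := by
  obtain ⟨e⟩ := D.dihedral_iso h
  rw [inn_eq]
  exact D.descend_quot (Ns Q) le_rfl e

theorem relIndex_one (h : ¬ POmegaCard.NegMem F ⇑Q) :
    (Cfsg.Inn (Cfsg.POmega F ⇑Q)).relIndex (Cfsg.psoAut F ⇑Q) = 1 := by
  rw [inn_eq, psoAut_eq, Subgroup.relIndex_eq_one]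
  refine Subgroup.map_mono fun g hg => ?_
  rcases D.Hs_split hg with h1 | h1
  · exact h1
  · simpa using mul_mem h1 (D.z_mem_iff.mpr h)

theorem relIndex_two (h : POmegaCard.NegMem F ⇑Q) :
    (Cfsg.Inn (Cfsg.POmega F ⇑Q)).relIndex (Cfsg.psoAut F ⇑Q) = 2 := by
  rw [inn_eq, psoAut_eq, Subgroup.relIndex_map_map, sup_eq_left.mpr D.ker_le,
    sup_eq_left.mpr (D.ker_le.trans Ns_le_Hs)]
  show ((Ns Q).subgroupOf (Hs Q)).index = 2
  have hz := D.z_notMem_of_negMem h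
  rw [Subgroup.index_eq_two_iff]
  refine ⟨⟨(toGO D.z₀)⁻¹, inv_mem D.z_mem_Hs⟩, fun g => ?_⟩
  rw [Subgroup.mem_subgroupOf, Subgroup.mem_subgroupOf, Subgroup.coe_mul]
  rcases D.Hs_split g.2 with h1 | h1
  · exact Or.inr ⟨h1, fun h2 => hz (by simpa using (mul_mem_cancel_left (x := (g : GO Q)) h1).mp h2)⟩
  · refine Or.inl ⟨h1, fun h2 => hz ?_⟩
    simpa using (mul_mem_cancel_left (x := (g : GO Q)) h2).mp h1

section Inndiag

variable {G₀ : Subgroup (GO Q)} (hN : Ns Q ≤ G₀)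
  (hmul : ∀ g, (D.r * g ∈ G₀ ↔ g ∉ G₀))

include hmul in
theorem r_notMem_G₀ : D.r ∉ G₀ := fun h => by
  have := (hmul 1).mp (by rwa [mul_one])
  exact this (one_mem _)

include hN hmul in
theorem z_mem_G₀ : toGO D.z₀ ∈ G₀ := by
  have h1 : (D.r * D.δ) * (D.r * D.δ) ∈ G₀ := by
    have key : ∀ g, g * g ∈ G₀ := fun g => by
      by_cases hg : g ∈ G₀
      · exact mul_mem hg hg
      · have hrg := (hmul g).mpr hg
        have hgr : g * D.r ∈ G₀ := by
          by_contra hc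
          have h3 := (hmul (g * D.r)).mpr hc
          rw [← mul_assoc] at h3
          exact D.r_notMem_G₀ hmul ((mul_mem_cancel_left (x := D.r * g) hrg).mp h3)
        have h4 := mul_mem hgr hrg
        rwa [mul_assoc, ← mul_assoc D.r, r_sq, one_mul] at h4
    exact key _
  rw [rδ_sq] at h1
  exact (mul_mem_cancel_right (hN (sc_mem_Ns D.ν))).mp h1

include hN in
theorem descend_sub {C : Type*} [Group C] (e : C ≃* G₀.map (QuotientGroup.mk' (Ns Q))) :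
    ∃ φ : (G₀.map (Θ Q) : Subgroup _) →* C, Function.Surjective φ ∧
      φ.ker = (Cfsg.Inn (Cfsg.POmega F ⇑Q)).subgroupOf (G₀.map (Θ Q)) := by
  have hk : (e.symm.toMonoidHom.comp ((QuotientGroup.mk' (Ns Q)).subgroupMap G₀)).ker = (Ns Q).subgroupOf G₀ := by
    ext g
    rw [MonoidHom.mem_ker, MonoidHom.comp_apply, MulEquiv.coe_toMonoidHom, e.symm.map_eq_one_iff, Subtype.ext_iff,
      Subgroup.mem_subgroupOf]
    exact QuotientGroup.eq_one_iff _
  refine descend ((Θ Q).comp G₀.subtype) (e.symm.toMonoidHom.comp ((QuotientGroup.mk' (Ns Q)).subgroupMap G₀))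
    (e.symm.surjective.comp (MonoidHom.subgroupMap_surjective _ _)) ?_
    (by rw [MonoidHom.range_comp, Subgroup.range_subtype]) ?_
  · rw [hk]
    intro g hg
    exact D.ker_le hg
  · rw [hk, ← Subgroup.map_map, Subgroup.map_subgroupOf_eq_of_le hN, inn_eq]

include hN hmul in
theorem inndiag_cyclic (hδ : D.δ ∉ G₀) {k : ℕ} [NeZero k] (hk : orderOf (D.x * D.y) = k) :
    ∃ φ : (G₀.map (Θ Q) : Subgroup _) →* Multiplicative (ZMod k), Function.Surjective φ ∧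
      φ.ker = (Cfsg.Inn (Cfsg.POmega F ⇑Q)).subgroupOf (G₀.map (Θ Q)) := by
  have hu : D.r * D.δ ∈ G₀ := (hmul _).mpr hδ
  let u : G₀.map (QuotientGroup.mk' (Ns Q)) := ⟨D.x * D.y, D.r * D.δ, hu, rfl⟩
  have hou : orderOf u = k := by rw [← hk, ← Subgroup.orderOf_coe]
  have hgen : ∀ q, q ∈ Subgroup.zpowers u := by
    rintro ⟨_, g, hg, rfl⟩
    rcases word_cases D.x_sq D.conj_u D.generate (QuotientGroup.mk' (Ns Q) g) with ⟨j, hj⟩ | ⟨j, hj⟩
    · exact ⟨j, Subtype.ext hj⟩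
    · exfalso
      have h1 : D.r * g ∈ G₀ := by
        have h2 : ((D.r * D.δ) ^ j)⁻¹ * (D.r * g) ∈ Ns Q := by
          rw [← QuotientGroup.eq_one_iff, QuotientGroup.mk_mul, QuotientGroup.mk_inv, QuotientGroup.mk_zpow]
          rw [inv_mul_eq_one]
          exact hj
        have := mul_mem (zpow_mem hu j) (hN h2)
        rwa [mul_inv_cancel_left] at this
      exact (hmul g).mp h1 hg
  obtain ⟨e⟩ := exists_cyclic hou hgen
  exact D.descend_sub hN e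

include hN hmul in
theorem inndiag_four (hδ : D.δ ∈ G₀) (h : POmegaCard.NegMem F ⇑Q) :
    ∃ φ : (G₀.map (Θ Q) : Subgroup _) →* Multiplicative (ZMod 2 × ZMod 2), Function.Surjective φ ∧
      φ.ker = (Cfsg.Inn (Cfsg.POmega F ⇑Q)).subgroupOf (G₀.map (Θ Q)) := by
  let yy : G₀.map (QuotientGroup.mk' (Ns Q)) := ⟨D.y, D.δ, hδ, rfl⟩
  let zz : G₀.map (QuotientGroup.mk' (Ns Q)) :=
    ⟨D.x * D.y * (D.x * D.y), toGO D.z₀, D.z_mem_G₀ hN hmul, D.u_sq.symm⟩
  have hord := D.orderOf_u_four h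
  have hu4 : (D.x * D.y) ^ 4 = 1 := hord ▸ pow_orderOf_eq_one _
  have hz2 : (D.x * D.y * (D.x * D.y)) * (D.x * D.y * (D.x * D.y)) = 1 := by
    rw [← hu4]; simp only [pow_succ, pow_zero, one_mul, mul_assoc]
  have hzne : D.x * D.y * (D.x * D.y) ≠ 1 := by
    rw [u_sq, Ne, QuotientGroup.eq_one_iff]; exact D.z_notMem_of_negMem h
  have hyc : D.y * (D.x * D.y * (D.x * D.y)) = D.x * D.y * (D.x * D.y) * D.y := by
    have e1 : D.x * D.y * (D.x * D.y) * D.y = D.x * D.y * D.x := by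
      rw [mul_assoc, mul_assoc D.x D.y D.y, D.y_sq, mul_one]
    have e2 : (D.x * D.y * (D.x * D.y))⁻¹ = D.x * D.y * (D.x * D.y) := inv_eq_of_mul_eq_one_right hz2
    rw [e1]
    nth_rewrite 1 [← e2]
    rw [_root_.mul_inv_rev, _root_.mul_inv_rev, inv_eq_of_mul_eq_one_right D.x_sq,
      inv_eq_of_mul_eq_one_right D.y_sq]
    simp [← mul_assoc, D.y_sq]
  have hne : yy ≠ zz := fun e => D.x_notMem_zpowers (by
    have e' : D.y = D.x * D.y * (D.x * D.y) := congrArg Subtype.val e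
    have hy : D.x * (D.x * D.y) = D.y := by rw [← mul_assoc, D.x_sq, one_mul]
    have : D.x = D.x * D.y := by
      have h1 := hy.trans e'
      exact mul_right_cancel h1
    exact absurd (this.symm) (fun e => D.y_ne (mul_eq_left.mp e)))
  obtain ⟨e⟩ := exists_four (x := yy) (y := zz) (Subtype.ext D.y_sq) (Subtype.ext hz2) (Subtype.ext hyc)
    (fun e => D.y_ne (congrArg Subtype.val e)) (fun e => hzne (congrArg Subtype.val e)) hne (by
    rintro ⟨_, g, hg, rfl⟩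
    have hcase : ∀ g : GO Q, g ∈ Hs Q → (QuotientGroup.mk' (Ns Q) g = 1 ∨
        QuotientGroup.mk' (Ns Q) g = D.x * D.y * (D.x * D.y)) := fun g hg => D.mk_Hs hg
    have hHG : Hs Q ≤ G₀ := fun k hk => by
      rcases D.Hs_split hk with h1 | h1
      · exact hN h1
      · simpa using mul_mem (hN h1) (D.z_mem_G₀ hN hmul)
    rcases D.cover g with h1 | h1 | h1 | h1
    · rcases hcase _ h1 with h2 | h2
      · exact Or.inl (Subtype.ext h2)
      · exact Or.inr (Or.inr (Or.inl (Subtype.ext h2)))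
    · exact absurd (hHG h1) fun h3 => (hmul g).mp h3 hg
    · rcases hcase _ h1 with h2 | h2 <;> rw [map_mul] at h2
      · refine Or.inr (Or.inl (Subtype.ext ?_))
        exact (eq_inv_of_mul_eq_one_right (h2 : D.y * _ = 1)).trans (inv_eq_of_mul_eq_one_right D.y_sq)
      · refine Or.inr (Or.inr (Or.inr (Subtype.ext ?_)))
        show _ = D.y * (D.x * D.y * (D.x * D.y))
        rw [← h2, ← mul_assoc]
        show _ = D.y * D.y * _
        rw [D.y_sq, one_mul]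
    · exact absurd (hHG h1) fun h3 => (hmul (D.δ * g)).mp h3 (mul_mem hδ hg))
  exact D.descend_sub hN e

end Inndiag

end Data

end CfsgLib.PGO
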